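import Groth.Agent.Ega4Algebra1.RegularDescent
import Groth.Agent.Ega4Algebra1.RegularParams
import Groth.Prelude.Def_EGA4b
import Mathlib

/-! Regularity along flat local maps with regular closed fibre. -/

namespace Groth.Calg4

open IsLocalRing

universe u v

theorem ringKrullDim_eq_add_of_flat (A : Type u) (B : Type v) [CommRing A] [IsLocalRing A] [CommRing B]
    [IsLocalRing B] [IsNoetherianRing A] [IsNoetherianRing B] [Algebra A B] [IsLocalHom (algebraMap A B)] [Module.Flat A B]
    [IsLocalRing (B ⧸ (maximalIdeal A).map (algebraMap A B))] :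
    ringKrullDim B = ringKrullDim A + ringKrullDim (B ⧸ (maximalIdeal A).map (algebraMap A B)) := by
  have : (maximalIdeal B).LiesOver (maximalIdeal A) :=
    ⟨(((local_hom_TFAE (algebraMap A B)).out 0 4 rfl rfl).mp inferInstance).symm⟩
  have h := Ideal.height_eq_height_add_of_liesOver_of_hasGoingDown (maximalIdeal A) (maximalIdeal B)
  rw [IsLocalRing.map_maximalIdeal_of_surjective _ Ideal.Quotient.mk_surjective] at h
  rw [← maximalIdeal_height_eq_ringKrullDim, ← maximalIdeal_height_eq_ringKrullDim,
    ← maximalIdeal_height_eq_ringKrullDim (R := B ⧸ _), h]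
  rfl

theorem isRegularLocalRing_of_flat_of_quotient (A : Type u) (B : Type v) [CommRing A]
    [IsRegularLocalRing A] [CommRing B] [IsLocalRing B] [IsNoetherianRing B] [Algebra A B]
    [IsLocalHom (algebraMap A B)] [Module.Flat A B]
    [IsRegularLocalRing (B ⧸ (maximalIdeal A).map (algebraMap A B))] : IsRegularLocalRing B := by
  classical
  set I := (maximalIdeal A).map (algebraMap A B) with hI
  refine IsRegularLocalRing.of_spanFinrank_maximalIdeal_le B ?_
  rw [ringKrullDim_eq_add_of_flat A B, ← IsRegularLocalRing.spanFinrank_maximalIdeal (R := A),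
    ← IsRegularLocalRing.spanFinrank_maximalIdeal (R := B ⧸ I), ← Nat.cast_add, Nat.cast_le]
  obtain ⟨x, hx⟩ := Groth.Ega4Algebra1.exists_span_eq_maximalIdeal (R := A) rfl
  obtain ⟨y, hy⟩ := Groth.Ega4Algebra1.exists_span_eq_maximalIdeal (R := B ⧸ I) rfl
  choose z hz using fun i => Ideal.Quotient.mk_surjective (y i)
  let T : Finset B := (Finset.univ.image fun i => algebraMap A B (x i)) ∪ Finset.univ.image z
  have hT : maximalIdeal B = Ideal.span (T : Set B) := by
    have h1 : maximalIdeal B = ((maximalIdeal (B ⧸ I)).comap (Ideal.Quotient.mk I)) :=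
      (eq_maximalIdeal (Ideal.comap_isMaximal_of_surjective _ Ideal.Quotient.mk_surjective)).symm
    simp only [T, Finset.coe_union, Finset.coe_image, Finset.coe_univ, Set.image_univ, Ideal.span_union]
    rw [Set.range_comp' (algebraMap A B) x, ← Ideal.map_span, hx, ← hI, h1]
    conv_lhs => rw [← hy]
    rw [show (y : _ → B ⧸ I) = Ideal.Quotient.mk I ∘ z from funext fun i => (hz i).symm, Set.range_comp,
      ← Ideal.map_span, Ideal.comap_map_of_surjective _ Ideal.Quotient.mk_surjective,
      ← RingHom.ker_eq_comap_bot, Ideal.mk_ker, sup_comm]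
  rw [hT]
  refine (Submodule.spanFinrank_span_le_ncard_of_finite T.finite_toSet).trans ?_
  rw [Set.ncard_coe_finset]
  exact (Finset.card_union_le _ _).trans (add_le_add
    (Finset.card_image_le.trans (Finset.card_fin _).le) (Finset.card_image_le.trans (Finset.card_fin _).le))

theorem isRegularLocalRing_of_flat_of_map_maximalIdeal (A : Type u) (B : Type v) [CommRing A]
    [IsRegularLocalRing A] [CommRing B] [IsLocalRing B] [IsNoetherianRing B] [Algebra A B]
    [IsLocalHom (algebraMap A B)] [Module.Flat A B]
    (h : (maximalIdeal A).map (algebraMap A B) = maximalIdeal B) : IsRegularLocalRing B := by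
  have : ((maximalIdeal A).map (algebraMap A B)).IsMaximal := h ▸ maximalIdeal.isMaximal B
  let := Ideal.Quotient.field ((maximalIdeal A).map (algebraMap A B))
  exact isRegularLocalRing_of_flat_of_quotient A B

theorem isRegularLocalRing_fibLocRing (R : Type u) (S : Type v) [CommRing R] [CommRing S] [Algebra R S]
    (q : Ideal S) [q.IsPrime] [IsRegularRing ((q.comap (algebraMap R S)).Fiber S)] :
    IsRegularLocalRing (EGA4.FibLocRing R S q) := by
  set p := q.comap (algebraMap R S)
  let Q := PrimeSpectrum.preimageEquivFiber R S ⟨p, inferInstance⟩ ⟨⟨q, inferInstance⟩, rfl⟩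
  have hQ : Q.asIdeal.comap Algebra.TensorProduct.includeRight = q :=
    congrArg (fun x => x.1.asIdeal)
      ((PrimeSpectrum.preimageEquivFiber R S ⟨p, inferInstance⟩).symm_apply_apply ⟨⟨q, inferInstance⟩, rfl⟩)
  have h1 : IsRegularLocalRing (Localization.AtPrime Q.asIdeal) :=
    IsRegularRing.isRegularLocalRing_localization _
  have key : ∀ (r : Ideal S) (hr : r.IsPrime), r = q →
      IsRegularLocalRing (Localization.AtPrime r ⧸ (p.map (algebraMap R S)).map
        (algebraMap S (Localization.AtPrime r))) →
      IsRegularLocalRing (EGA4.FibLocRing R S q) := by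
    rintro r hr rfl hreg
    rw [Ideal.map_map, ← IsScalarTower.algebraMap_eq] at hreg
    exact hreg
  exact key _ inferInstance hQ (@IsRegularLocalRing.of_ringEquiv (Localization.AtPrime Q.asIdeal) _ h1 _ _ (Ideal.Fiber.algEquivAux₂ p Q.asIdeal).toRingEquiv)

theorem isRegularLocalRing_localization_of_flat_of_fiber (R : Type u) (S : Type v) [CommRing R]
    [CommRing S] [Algebra R S] [Module.Flat R S] [IsNoetherianRing S] (q : Ideal S) [q.IsPrime]
    [IsRegularLocalRing (Localization.AtPrime (q.comap (algebraMap R S)))]
    [IsRegularRing ((q.comap (algebraMap R S)).Fiber S)] :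
    IsRegularLocalRing (Localization.AtPrime q) := by
  set p := q.comap (algebraMap R S)
  let := (Localization.localRingHom p q (algebraMap R S) rfl).toAlgebra
  have : IsScalarTower R (Localization.AtPrime p) (Localization.AtPrime q) :=
    IsScalarTower.of_algebraMap_eq fun a => by
      rw [RingHom.algebraMap_toAlgebra, Localization.localRingHom_to_map,
        IsScalarTower.algebraMap_apply R S (Localization.AtPrime q)]
  have : IsLocalHom (algebraMap (Localization.AtPrime p) (Localization.AtPrime q)) :=
    Localization.isLocalHom_localRingHom p q (algebraMap R S) rfl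
  have : Module.Flat R (Localization.AtPrime q) := Module.Flat.trans R S _
  have : Module.Flat (Localization.AtPrime p) (Localization.AtPrime q) :=
    (Module.flat_iff_of_isLocalization (Localization.AtPrime p) p.primeCompl _).mpr inferInstance
  have : IsRegularLocalRing (Localization.AtPrime q ⧸ (maximalIdeal (Localization.AtPrime p)).map
      (algebraMap (Localization.AtPrime p) (Localization.AtPrime q))) := by
    rw [← Localization.AtPrime.map_eq_maximalIdeal, Ideal.map_map, ← IsScalarTower.algebraMap_eq]
    exact isRegularLocalRing_fibLocRing R S q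
  exact isRegularLocalRing_of_flat_of_quotient (Localization.AtPrime p) _

/-- Elements independent modulo the square of the maximal ideal. -/
theorem isRegularLocalRing_quotient_of_indep (m : ℕ) (R : Type u) [CommRing R] [IsRegularLocalRing R]
    (f : Fin m → R) (hf : ∀ i, f i ∈ maximalIdeal R)
    (hind : ∀ c : Fin m → R, ∑ i, c i * f i ∈ maximalIdeal R ^ 2 → ∀ i, c i ∈ maximalIdeal R) :
    IsRegularLocalRing (R ⧸ Ideal.span (Set.range f)) ∧ RingTheory.Sequence.IsRegular R (List.ofFn f) := by
  have hne : (⊤ : Submodule R R) ≠ Ideal.ofList (List.ofFn f) • ⊤ := by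
    rw [smul_eq_mul, Ideal.mul_top, Groth.Ega4Algebra1.ofList_ofFn]
    intro h
    refine (maximalIdeal.isMaximal R).ne_top (top_le_iff.mp (h.le.trans (Ideal.span_le.mpr ?_)))
    rintro _ ⟨i, rfl⟩
    exact hf i
  suffices IsRegularLocalRing (R ⧸ Ideal.span (Set.range f)) ∧
      RingTheory.Sequence.IsWeaklyRegular R (List.ofFn f) from ⟨this.1, this.2, hne⟩
  clear hne
  induction m generalizing R with
  | zero =>
    refine ⟨?_, by simp⟩
    rw [Set.range_eq_empty, Ideal.span_empty]
    exact IsRegularLocalRing.of_ringEquiv (RingEquiv.quotientBot R).symm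
  | succ n ih =>
    have h2 : f 0 ∉ maximalIdeal R ^ 2 := fun h =>
      (maximalIdeal.isMaximal R).ne_top ((Ideal.eq_top_iff_one _).mpr (by
        simpa using hind (Pi.single 0 1) (by simpa [Pi.single_apply] using h) 0))
    obtain ⟨hreg, -⟩ := Groth.Ega4Algebra1.isRegularLocalRing_quotient_span_singleton (hf 0) h2
    let I := Ideal.span {f 0}
    have hm : ∀ r : R, Ideal.Quotient.mk I r ∈ maximalIdeal (R ⧸ I) ↔ r ∈ maximalIdeal R := by
      intro r
      rw [← Ideal.mem_comap, eq_maximalIdeal (I := (maximalIdeal (R ⧸ I)).comap (Ideal.Quotient.mk I))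
        (Ideal.comap_isMaximal_of_surjective _ Ideal.Quotient.mk_surjective)]
    obtain ⟨hq, hw⟩ := ih (R ⧸ I) (fun i => Ideal.Quotient.mk I (f i.succ))
      (fun i => (hm _).mpr (hf _)) (fun c hc i => by
        choose d hd using fun i => Ideal.Quotient.mk_surjective (c i)
        have hc' : Ideal.Quotient.mk I (∑ i, d i * f i.succ) ∈ maximalIdeal (R ⧸ I) ^ 2 := by
          simpa [map_sum, hd] using hc
        rw [← map_maximalIdeal_of_surjective (Ideal.Quotient.mk I) Ideal.Quotient.mk_surjective,
          ← Ideal.map_pow, ← Ideal.mem_comap, Ideal.comap_map_of_surjective _ Ideal.Quotient.mk_surjective,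
          ← RingHom.ker_eq_comap_bot, Ideal.mk_ker, Submodule.mem_sup] at hc'
        obtain ⟨a, ha, b, hb, hab⟩ := hc'
        obtain ⟨e, rfl⟩ := Ideal.mem_span_singleton'.mp hb
        have h3 := hind (Fin.cons (-e) d) (by
          rw [Fin.sum_univ_succ]
          simp only [Fin.cons_zero, Fin.cons_succ]
          rw [← hab]
          convert ha using 1
          ring) i.succ
        rw [Fin.cons_succ] at h3
        rw [← hd i]
        exact (hm _).mpr h3)
    refine ⟨?_, ?_⟩
    · let J : Ideal (R ⧸ I) := Ideal.span (Set.range fun i : Fin n => Ideal.Quotient.mk I (f i.succ))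
      have : IsRegularLocalRing ((R ⧸ I) ⧸ J) := hq
      refine IsRegularLocalRing.of_ringEquiv (((Ideal.quotEquivOfEq (I := J) ?_).trans
        (DoubleQuot.quotQuotEquivQuotSup I (Ideal.span (Set.range fun i : Fin n => f i.succ)))).trans
        (Ideal.quotEquivOfEq ?_))
      · rw [Ideal.map_span, ← Set.range_comp]; rfl
      · rw [← Ideal.span_union, Set.singleton_union, ← Fin.range_cons (f 0) (fun i : Fin n => f i.succ)]
        exact congrArg (fun g => Ideal.span (Set.range g)) (Fin.cons_self_tail f)
    · rw [List.ofFn_succ, RingTheory.Sequence.isWeaklyRegular_cons_iff']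
      have := Groth.Ega4Algebra1.isDomain_of_isRegularLocalRing R
      refine ⟨Groth.Ega4Algebra1.isSMulRegular_of_ne_zero_of_isRegularLocalRing R
        (fun h => h2 (h ▸ zero_mem _)), ?_⟩
      have e : (QuotSMulTop (f 0) R) ≃ₗ[R ⧸ I] (R ⧸ I) :=
        { (Submodule.quotEquivOfEq _ _ (by simp [I, ← Submodule.ideal_span_singleton_smul, smul_eq_mul])).toAddEquiv with
          map_smul' := fun c y => by
            obtain ⟨c, rfl⟩ := Ideal.Quotient.mk_surjective c
            obtain ⟨y, rfl⟩ := Submodule.Quotient.mk_surjective _ y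
            rfl }
      rw [e.isWeaklyRegular_congr, List.map_ofFn]
      exact hw

end Groth.Calg4
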