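import Mathlib
import Groth.Agent.Ega41Sep.Separable
import Groth.Agent.Ega4Algebra1.RegularParams
import Groth.Agent.Ega4Algebra1.SmoothRegular

/-!
Over a field, a point with separable residue field is smooth iff it is regular.
-/

set_option autoImplicit false

universe u

open IsLocalRing TensorProduct KaehlerDifferential

namespace Groth.Calg4

/-- `I/I²`-injectivity for a surjection onto a formally smooth algebra. -/
theorem injective_kerCotangentToTensor_of_formallySmooth (k R K : Type u) [CommRing k] [CommRing R]
    [CommRing K] [Algebra k R] [Algebra k K] [Algebra R K] [IsScalarTower k R K]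
    [Algebra.FormallySmooth k K] (hf : Function.Surjective (algebraMap R K)) :
    Function.Injective (kerCotangentToTensor k R K) := by
  let g : R ⧸ RingHom.ker (algebraMap R K) ^ 2 →ₐ[k] K :=
    (IsScalarTower.toAlgHom k R K).kerSquareLift
  have hg : Function.Surjective g := fun y => by
    obtain ⟨r, rfl⟩ := hf y
    exact ⟨Ideal.Quotient.mk _ r, rfl⟩
  have hnil : IsNilpotent (RingHom.ker (g : (R ⧸ RingHom.ker (algebraMap R K) ^ 2) →+* K)) := by
    refine ⟨2, ?_⟩
    have h : RingHom.ker (g : (R ⧸ RingHom.ker (algebraMap R K) ^ 2) →+* K)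
        = (RingHom.ker (algebraMap R K)).cotangentIdeal :=
      AlgHom.ker_kerSquareLift (IsScalarTower.toAlgHom k R K)
    rw [h, Ideal.cotangentIdeal_square]
    rfl
  obtain ⟨l, hl⟩ := (retractionKerCotangentToTensorEquivSection hf).symm
    ⟨Algebra.FormallySmooth.liftOfSurjective (AlgHom.id k K) g hg hnil,
      Algebra.FormallySmooth.comp_liftOfSurjective _ g hg hnil⟩
  exact Function.LeftInverse.injective (g := l) fun x => LinearMap.congr_fun hl x

/-- A minimal generating family of the maximal ideal is independent modulo its square. -/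
theorem coeff_mem_maximalIdeal_of_span_eq {R : Type u} [CommRing R] [IsLocalRing R] [IsNoetherianRing R]
    {d : ℕ} (x : Fin d → R) (hx : Ideal.span (Set.range x) = maximalIdeal R)
    (hd : (maximalIdeal R).spanFinrank = d) (a : Fin d → R)
    (ha : ∑ i, a i * x i ∈ maximalIdeal R ^ 2) (i : Fin d) : a i ∈ maximalIdeal R := by
  classical
  by_contra hu
  obtain ⟨b, hb⟩ := (notMem_maximalIdeal.mp hu).exists_left_inv
  set J := Ideal.span (x '' {j | j ≠ i}) with hJ
  have hxi : x i ∈ J ⊔ maximalIdeal R • maximalIdeal R := by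
    have h1 : x i = b * (∑ j, a j * x j) - ∑ j ∈ Finset.univ.erase i, b * a j * x j := by
      rw [← Finset.add_sum_erase _ _ (Finset.mem_univ i), mul_add, Finset.mul_sum,
        ← mul_assoc, hb, one_mul]
      simp only [mul_assoc, add_sub_cancel_right]
    rw [h1]
    refine sub_mem (Submodule.mem_sup_right ?_) (Submodule.mem_sup_left ?_)
    · rw [smul_eq_mul, ← pow_two]; exact Ideal.mul_mem_left _ _ ha
    · exact Ideal.sum_mem _ fun j hj => Ideal.mul_mem_left _ _
        (Ideal.subset_span ⟨j, (Finset.mem_erase.mp hj).1, rfl⟩)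
  have hle : maximalIdeal R ≤ J := by
    refine Submodule.le_of_le_smul_of_le_jacobson_bot (IsNoetherian.noetherian _)
      (maximalIdeal_le_jacobson _) ?_
    conv_lhs => rw [← hx]
    rw [Ideal.span_le]
    rintro _ ⟨j, rfl⟩
    by_cases h : j = i
    · exact h ▸ hxi
    · exact Submodule.mem_sup_left (Ideal.subset_span ⟨j, h, rfl⟩)
  have heq : maximalIdeal R = J := le_antisymm hle (hx ▸ Ideal.span_mono (Set.image_subset_range _ _))
  have h1 := Submodule.spanFinrank_span_le_ncard_of_finite (R := R)
    (s := x '' {j | j ≠ i}) (Set.toFinite _)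
  have h1' : (maximalIdeal R).spanFinrank ≤ (x '' {j | j ≠ i}).ncard := heq.symm ▸ h1
  have h2 : (x '' {j | j ≠ i}).ncard < d := by
    refine lt_of_le_of_lt (Set.ncard_image_le (Set.toFinite _)) ?_
    refine lt_of_lt_of_eq (Set.ncard_lt_ncard (t := Set.univ) ?_ (Set.toFinite _)) (by simp)
    exact Set.ssubset_univ_iff.mpr fun h => (h.symm.subset (Set.mem_univ i) : i ≠ i) rfl
  omega

/-- A regular quotient of a regular smooth local algebra over `k` is formally smooth
if its residue field is. -/
theorem formallySmooth_of_regular_quotient (k A B : Type u) [CommRing k] [CommRing A] [CommRing B]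
    [Algebra k A] [Algebra k B] [Algebra A B] [IsScalarTower k A B]
    [IsRegularLocalRing A] [IsRegularLocalRing B] [Algebra.FormallySmooth k A]
    [Module.Free A Ω[A⁄k]] [Module.Finite A Ω[A⁄k]]
    [Algebra.FormallySmooth k (ResidueField B)]
    (hsurj : Function.Surjective (algebraMap A B)) : Algebra.FormallySmooth k B := by
  set I := RingHom.ker (algebraMap A B) with hI
  rw [Algebra.FormallySmooth.iff_injective_cotangentComplexBaseChange_residueField A hsurj
    (IsNoetherian.noetherian _)]
  let K := ResidueField B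
  have hK : Function.Surjective (algebraMap A K) := by
    rw [IsScalarTower.algebraMap_eq A B K]
    exact IsLocalRing.residue_surjective.comp hsurj
  have hkerK : RingHom.ker (algebraMap A K) = maximalIdeal A :=
    eq_maximalIdeal (RingHom.ker_isMaximal_of_surjective _ hK)
  have : IsRegularLocalRing (A ⧸ I) :=
    IsRegularLocalRing.of_ringEquiv (RingHom.quotientKerEquivOfSurjective hsurj).symm
  obtain ⟨x, c, hc, hx, hIx⟩ := Groth.Ega4Algebra1.exists_params_of_regular_quotient _ A rfl I
  rw [injective_iff_map_eq_zero]
  intro z hz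
  obtain ⟨y, rfl⟩ : ∃ y : I, z = (1 : K) ⊗ₜ y := by
    clear hz
    induction z using TensorProduct.induction_on with
    | zero => exact ⟨0, by simp⟩
    | tmul a b =>
      obtain ⟨a, rfl⟩ := hK a
      exact ⟨a • b, by rw [Algebra.algebraMap_eq_smul_one, TensorProduct.smul_tmul]⟩
    | add z w hz hw =>
      obtain ⟨⟨y, rfl⟩, ⟨y', rfl⟩⟩ := And.intro hz hw
      exact ⟨y + y', by rw [TensorProduct.tmul_add]⟩
  rw [cotangentComplexBaseChange_tmul, one_smul] at hz
  have hy2 : (y : A) ∈ maximalIdeal A ^ 2 := by
    let y' : RingHom.ker (algebraMap A K) :=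
      ⟨y, hkerK.symm ▸ (le_maximalIdeal (RingHom.ker_ne_top _) y.2)⟩
    have h := injective_kerCotangentToTensor_of_formallySmooth k A K hK
      (a₁ := Ideal.toCotangent _ y') (a₂ := 0) (by rw [map_zero]; exact hz)
    rw [Ideal.toCotangent_eq_zero] at h
    exact Ideal.pow_right_mono hkerK.le 2 h
  obtain ⟨a, ha⟩ := Ideal.mem_span_range_iff_exists_fun.mp (hIx.le y.2)
  have ham : ∀ i, a i ∈ maximalIdeal A := by
    classical
    let a' : Fin (maximalIdeal A).spanFinrank → A :=
      Function.extend (Fin.castLE hc) a 0
    have ha' : ∀ i, a' (Fin.castLE hc i) = a i := fun i =>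
      (Fin.castLE_injective hc).extend_apply _ _ i
    have hsum : ∑ j, a' j * x j = (y : A) := by
      rw [← ha, ← Finset.sum_subset (Finset.subset_univ (Finset.univ.image (Fin.castLE hc))),
        Finset.sum_image (fun i _ j _ h => Fin.castLE_injective hc h)]
      · simp [ha']
      · intro j _ hj
        rw [show a' j = 0 from Function.extend_apply' _ _ _ (by simpa using hj), zero_mul]
    intro i
    exact ha' i ▸ coeff_mem_maximalIdeal_of_span_eq x hx rfl a' (hsum ▸ hy2) _
  have hmem : ∀ i : Fin c, x (Fin.castLE hc i) ∈ I := fun i => hIx.symm.le (Ideal.subset_span ⟨i, rfl⟩)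
  have hy : y = ∑ i, a i • (⟨x (Fin.castLE hc i), hmem i⟩ : I) := by
    apply Subtype.ext
    rw [← ha]
    simp
  rw [hy, TensorProduct.tmul_sum]
  refine Finset.sum_eq_zero fun i _ => ?_
  rw [← TensorProduct.smul_tmul, ← Algebra.algebraMap_eq_smul_one,
    RingHom.mem_ker.mp (hkerK.symm.le (ham i)), TensorProduct.zero_tmul]

variable {k S : Type u} [Field k] [CommRing S] [Algebra k S] [Algebra.FiniteType k S]

theorem isRegularLocalRing_of_isSmoothAt (q : Ideal S) [q.IsPrime] [Algebra.IsSmoothAt k q] :
    IsRegularLocalRing (Localization.AtPrime q) := by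
  have : Algebra.FinitePresentation k S := Algebra.FinitePresentation.of_finiteType.mp ‹_›
  obtain ⟨g, hg, hgs⟩ := Algebra.IsSmoothAt.exists_notMem_isStandardSmooth (R := k) q
  obtain ⟨Q, hQ⟩ : (⟨q, ‹_›⟩ : PrimeSpectrum S) ∈
      Set.range (PrimeSpectrum.comap (algebraMap S (Localization.Away g))) := by
    rw [PrimeSpectrum.localization_away_comap_range (Localization.Away g) g]
    exact hg
  have h := (Groth.Ega4Algebra1.mem_regLocus_localization_iff _ Q).mp
    (Groth.Ega4Algebra1.mem_regLocus_of_isStandardSmooth (R := k) _ Q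
      (inferInstanceAs (IsRegularLocalRing (Localization.AtPrime _))))
  rw [hQ] at h
  exact h

theorem isSmoothAt_of_isRegularLocalRing (q : Ideal S) [q.IsPrime]
    [Algebra.FormallySmooth k q.ResidueField] [IsRegularLocalRing (Localization.AtPrime q)] :
    Algebra.IsSmoothAt k q := by
  obtain ⟨n, π, hπ⟩ := Algebra.FiniteType.iff_quotient_mvPolynomial''.mp ‹Algebra.FiniteType k S›
  let P := MvPolynomial (Fin n) k
  let Q := q.comap π.toRingHom
  let A := Localization.AtPrime Q
  let B := Localization.AtPrime q
  let φ : A →+* B := Localization.localRingHom Q q π.toRingHom rfl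
  let _ : Algebra A B := φ.toAlgebra
  have : IsScalarTower k A B := IsScalarTower.of_algebraMap_eq fun r => by
    rw [IsScalarTower.algebraMap_apply k P A]
    change _ = φ _
    rw [Localization.localRingHom_to_map, IsScalarTower.algebraMap_apply k S B]
    exact congrArg _ (π.commutes r).symm
  have hsurj : Function.Surjective (algebraMap A B) :=
    (RingHom.surjectiveOnStalks_of_surjective hπ).localRingHom_surjective Q q rfl
  have : Algebra.FormallyEtale P A := Algebra.FormallyEtale.of_isLocalization Q.primeCompl
  have : Algebra.FormallySmooth k A := Algebra.FormallySmooth.comp k P A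
  have hbc := KaehlerDifferential.isBaseChange_of_formallyEtale k P A
  let b := hbc.basis (KaehlerDifferential.mvPolynomialBasis k (Fin n))
  have : Module.Free A Ω[A⁄k] := Module.Free.of_basis b
  have : Module.Finite A Ω[A⁄k] := Module.Finite.of_basis b
  have : IsRegularLocalRing A := inferInstance
  exact formallySmooth_of_regular_quotient k A B hsurj

theorem isSmoothAt_iff_isRegularLocalRing (q : Ideal S) [q.IsPrime]
    [Algebra.IsGeometricallyReduced k q.ResidueField] :
    Algebra.IsSmoothAt k q ↔ IsRegularLocalRing (Localization.AtPrime q) :=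
  ⟨fun (_ : Algebra.IsSmoothAt k q) => isRegularLocalRing_of_isSmoothAt (k := k) q, fun _ =>
    haveI := (Groth.Ega41Sep.formallySmooth_iff_isGeometricallyReduced k q.ResidueField).mpr inferInstance
    isSmoothAt_of_isRegularLocalRing q⟩

end Groth.Calg4
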