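import Groth.Prelude.Def_Found
import Mathlib

/-! Japanese rings: change of fraction field, localization, gluing over a principal cover. -/

namespace Groth.Calg4

open CAlg TensorProduct
universe u v w

theorem isFractionRing_of_range (A B : Type*) [CommRing A] [CommRing B] (K : Type*) [Field K]
    [Algebra A K] [IsFractionRing A K] [Algebra B K] [FaithfulSMul B K]
    (h : ∀ a, algebraMap A K a ∈ Set.range (algebraMap B K)) : IsFractionRing B K := by
  refine IsFractionRing.of_field B K fun z => ?_
  obtain ⟨x, y, -, rfl⟩ := IsFractionRing.div_surjective A z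
  obtain ⟨x', hx⟩ := h x
  obtain ⟨y', hy⟩ := h y
  exact ⟨x', y', by rw [hx, hy]⟩

theorem isFractionRing_comp (R : Type*) [CommRing R] [IsDomain R] (M : Submonoid R) (S : Type*) [CommRing S]
    [IsDomain S] [Algebra R S] [IsLocalization M S] (T : Type*) [Field T] [Algebra S T]
    [IsFractionRing S T] [Algebra R T] [IsScalarTower R S T] : IsFractionRing R T := by
  have hM : M ≤ nonZeroDivisors R := le_nonZeroDivisors_of_noZeroDivisors fun h0 =>
    not_subsingleton S (@Unique.instSubsingleton _ (IsLocalization.uniqueOfZeroMem h0))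
  have : FaithfulSMul R T := (faithfulSMul_iff_algebraMap_injective R T).mpr (by
    rw [IsScalarTower.algebraMap_eq R S T]
    exact (IsFractionRing.injective S T).comp (IsLocalization.injective S hM))
  refine IsFractionRing.of_field R T fun z => ?_
  obtain ⟨x, y, -, rfl⟩ := IsFractionRing.div_surjective S z
  obtain ⟨⟨a, m⟩, ha⟩ := IsLocalization.surj M x
  obtain ⟨⟨b, n⟩, hb⟩ := IsLocalization.surj M y
  refine ⟨a * n, b * m, ?_⟩
  simp only [map_mul, IsScalarTower.algebraMap_apply R S T, ← ha, ← hb]
  have hu : ∀ k : M, algebraMap S T (algebraMap R S k) ≠ 0 := fun k =>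
    ((IsLocalization.map_units S k).map (algebraMap S T)).ne_zero
  field_simp [hu m, hu n]

theorem finite_ic_iff (R L : Type*) [CommRing R] [CommRing L] [Algebra R L] :
    Module.Finite R (integralClosure R L) ↔
      ∃ T : Set L, T.Finite ∧ ∀ x : L, IsIntegral R x ↔ x ∈ Submodule.span R T := by
  rw [Module.Finite.iff_fg (R := R) (N := (integralClosure R L).toSubmodule) |> fun h =>
    (show Module.Finite R (integralClosure R L) ↔ Module.Finite R (integralClosure R L).toSubmodule
      from Iff.rfl).trans h, Submodule.fg_def]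
  refine exists_congr fun T => and_congr_right fun _ => ?_
  exact ⟨fun h x => by rw [h]; rfl, fun h => Submodule.ext fun x => (h x).symm⟩

theorem finite_ic_of_algEquiv (R : Type*) {L L' : Type*} [CommRing R] [CommRing L] [CommRing L']
    [Algebra R L] [Algebra R L'] (e : L ≃ₐ[R] L') (h : Module.Finite R (integralClosure R L)) :
    Module.Finite R (integralClosure R L') := by
  let f : integralClosure R L →ₗ[R] integralClosure R L' :=
    (e.toLinearMap.comp (integralClosure R L).val.toLinearMap).codRestrict
      (integralClosure R L').toSubmodule fun x => x.2.map e.toAlgHom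
  exact Module.Finite.of_surjective f fun y => ⟨⟨e.symm y.1, y.2.map e.symm.toAlgHom⟩,
    Subtype.ext (e.apply_symm_apply y.1)⟩

theorem finite_ic_of_isN1 {R : Type u} [CommRing R] [IsDomain R] (h : IsN1 R) (K : Type v) [Field K]
    [Algebra R K] [IsFractionRing R K] : Module.Finite R (integralClosure R K) :=
  finite_ic_of_algEquiv R (FractionRing.algEquiv R K) h

theorem finite_ic_of_isN2 {R : Type u} [CommRing R] [IsDomain R] (h : IsN2 R) (K : Type u) [Field K]
    [Algebra R K] [IsFractionRing R K] (L : Type u) [Field L] [Algebra K L] [Algebra R L]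
    [IsScalarTower R K L] [Module.Finite K L] : Module.Finite R (integralClosure R L) := by
  have : FaithfulSMul R L := (faithfulSMul_iff_algebraMap_injective R L).mpr (by
    rw [IsScalarTower.algebraMap_eq R K L]
    exact (algebraMap K L).injective.comp (IsFractionRing.injective R K))
  let : Algebra (FractionRing R) L := FractionRing.liftAlgebra R L
  have : FiniteDimensional (FractionRing R) L := by
    refine Module.Finite.of_equiv_equiv (A₁ := K) (B₁ := L) (FractionRing.algEquiv R K).symm.toRingEquiv
      (RingEquiv.refl L) (IsLocalization.ringHom_ext (nonZeroDivisors R) ?_)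
    ext x
    simp [← IsScalarTower.algebraMap_apply R K L, ← IsScalarTower.algebraMap_apply R (FractionRing R) L]
  exact h L this

theorem finite_ic_of_isLocalization {R : Type*} [CommRing R] (M : Submonoid R) (S : Type*)
    [CommRing S] [Algebra R S] [IsLocalization M S] (L : Type*) [CommRing L] [Algebra R L]
    [Algebra S L] [IsScalarTower R S L] (h : Module.Finite R (integralClosure R L)) :
    Module.Finite S (integralClosure S L) := by
  let f : integralClosure R L →ₗ[R] integralClosure S L :=
    { toFun := fun x => ⟨x.1, x.2.tower_top⟩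
      map_add' := fun _ _ => rfl
      map_smul' := fun r x => Subtype.ext rfl }
  refine Module.Finite.of_surjective (f.liftBaseChange S) fun y => ?_
  obtain ⟨m, hm⟩ := IsIntegral.exists_multiple_integral_of_isLocalization M y.1 y.2
  refine ⟨IsLocalization.mk' S 1 m ⊗ₜ ⟨m • y.1, hm⟩, Subtype.ext ?_⟩
  simp only [LinearMap.liftBaseChange_tmul, f, LinearMap.coe_mk, AddHom.coe_mk]
  change IsLocalization.mk' S 1 m • ((m : R) • y.1) = y.1
  rw [← IsScalarTower.algebraMap_smul S (m : R) y.1, smul_smul, IsLocalization.mk'_spec, map_one,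
    one_smul]

/-- The integral closure of `R` in `L` is finitely generated away from `f`. -/
def FGAway (R L : Type*) [CommRing R] [CommRing L] [Algebra R L] (f : R) : Prop :=
  ∃ T : Set L, T.Finite ∧ (∀ t ∈ T, IsIntegral R t) ∧
    ∀ x : L, IsIntegral R x → ∃ k : ℕ, f ^ k • x ∈ Submodule.span R T

theorem fgAway_of_isLocalizationAway {R L : Type*} [CommRing R] [CommRing L] [Algebra R L] (f : R)
    (S : Type*) [CommRing S] [Algebra R S] [IsLocalization.Away f S] [Algebra S L]
    [IsScalarTower R S L] (h : Module.Finite S (integralClosure S L)) : FGAway R L f := by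
  obtain ⟨G, hG, hGs⟩ := (finite_ic_iff S L).mp h
  have hk : ∀ g ∈ G, ∃ k : ℕ, IsIntegral R (f ^ k • g) := fun g hg => by
    obtain ⟨⟨_, k, rfl⟩, hm⟩ := IsIntegral.exists_multiple_integral_of_isLocalization
      (Submonoid.powers f) g ((hGs g).mpr (Submodule.subset_span hg))
    exact ⟨k, hm⟩
  choose! k hk using hk
  refine ⟨(fun g => f ^ k g • g) '' G, hG.image _, ?_, fun x hx => ?_⟩
  · rintro _ ⟨g, hg, rfl⟩
    exact hk g hg
  · have hx' : x ∈ Submodule.span S G := (hGs x).mp hx.tower_top
    clear hx
    induction hx' using Submodule.span_induction with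
    | mem g hg => exact ⟨k g, Submodule.subset_span ⟨g, hg, rfl⟩⟩
    | zero => exact ⟨0, by simp⟩
    | add a b _ _ ha hb =>
      obtain ⟨i, hi⟩ := ha
      obtain ⟨j, hj⟩ := hb
      refine ⟨i + j, ?_⟩
      rw [smul_add]
      refine Submodule.add_mem _ ?_ ?_
      · rw [pow_add, mul_comm, mul_smul]; exact Submodule.smul_mem _ _ hi
      · rw [pow_add, mul_smul]; exact Submodule.smul_mem _ _ hj
    | smul c a _ ha =>
      obtain ⟨i, hi⟩ := ha
      obtain ⟨⟨r, _, n, rfl⟩, hr⟩ := IsLocalization.surj (Submonoid.powers f) c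
      refine ⟨n + i, ?_⟩
      have : f ^ (n + i) • c • a = r • (f ^ i • a) := by
        rw [← IsScalarTower.algebraMap_smul S r (f ^ i • a), ← hr, pow_add, mul_smul,
          smul_comm (f ^ i) c a, ← IsScalarTower.algebraMap_smul S (f ^ n) (c • _), ← mul_smul,
          mul_comm]
      exact this ▸ Submodule.smul_mem _ _ hi

theorem finite_ic_of_span {R L : Type*} [CommRing R] [CommRing L] [Algebra R L] {ι : Type*}
    [Finite ι] (f : ι → R) (hf : Ideal.span (Set.range f) = ⊤)
    (h : ∀ i, algebraMap R L (f i) = 0 ∨ FGAway R L (f i)) :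
    Module.Finite R (integralClosure R L) := by
  classical
  have h' : ∀ i, FGAway R L (f i) := fun i => (h i).elim
    (fun h0 => ⟨∅, Set.finite_empty, by simp, fun x _ => ⟨1, by simp [Algebra.smul_def, h0]⟩⟩) id
  choose T hT hTi hTs using h'
  refine (finite_ic_iff R L).mpr ⟨⋃ i, T i, Set.finite_iUnion hT, fun x => ⟨fun hx => ?_, fun hx => ?_⟩⟩
  · refine Submodule.mem_of_span_eq_top_of_smul_pow_mem _ _ hf x ?_
    rintro ⟨_, i, rfl⟩
    obtain ⟨k, hk⟩ := hTs i x hx
    exact ⟨k, Submodule.span_mono (Set.subset_iUnion T i) hk⟩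
  · exact (Submodule.span_le (p := Subalgebra.toSubmodule (integralClosure R L))).mpr
      (Set.iUnion_subset fun i t ht => hTi i t ht) hx

theorem finite_ic_iff_of_surjective (A B L : Type*) [CommRing A] [CommRing B] [CommRing L]
    [Algebra A B] [Algebra B L] [Algebra A L] [IsScalarTower A B L]
    (hs : Function.Surjective (algebraMap A B)) :
    Module.Finite A (integralClosure A L) ↔ Module.Finite B (integralClosure B L) := by
  have : Algebra.IsIntegral A B := ⟨fun b => by obtain ⟨a, rfl⟩ := hs b; exact isIntegral_algebraMap⟩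
  rw [finite_ic_iff, finite_ic_iff]
  refine exists_congr fun T => and_congr_right fun _ => forall_congr' fun x => ?_
  rw [← Submodule.restrictScalars_span A B hs T, Submodule.restrictScalars_mem]
  exact iff_congr ⟨fun h => h.tower_top, fun h => isIntegral_trans x h⟩ Iff.rfl

end Groth.Calg4
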