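import Mathlib

/-!
Regular rings and idempotents: quotients splitting off by an idempotent, finite products.
-/

set_option autoImplicit false

universe u

open TensorProduct

namespace Groth.Calg4

theorem isRegularLocalRing_localization_iff {B C : Type u} [CommRing B] [CommRing C] [Algebra B C]
    (M : Submonoid B) [IsLocalization M C] (q : Ideal C) [q.IsPrime] :
    IsRegularLocalRing (Localization.AtPrime q) ↔
      IsRegularLocalRing (Localization.AtPrime (q.comap (algebraMap B C))) := by
  let T := Localization.AtPrime q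
  have : IsLocalization.AtPrime T (q.comap (algebraMap B C)) :=
    IsLocalization.isLocalization_isLocalization_atPrime_isLocalization M T q
  let e := (IsLocalization.algEquiv (q.comap (algebraMap B C)).primeCompl T
    (Localization.AtPrime (q.comap (algebraMap B C)))).toRingEquiv
  exact ⟨fun _ => IsRegularLocalRing.of_ringEquiv e, fun _ => IsRegularLocalRing.of_ringEquiv e.symm⟩

theorem isRegularRing_of_idempotent {B C : Type u} [CommRing B] [CommRing C] [IsRegularRing B]
    (f : B →+* C) (hf : Function.Surjective f) (t : B) (ht : f t = 1)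
    (hker : ∀ x, f x = 0 → t * x = 0) : IsRegularRing C := by
  let _ := f.toAlgebra
  have he : IsIdempotentElem t := by
    have := hker (t - 1) (by rw [map_sub, map_one, ht, sub_self])
    rw [mul_sub, mul_one, sub_eq_zero] at this
    exact this
  have : IsLocalization.Away t C := IsLocalization.away_of_isIdempotentElem_of_mul he (fun x y => by
    refine ⟨fun h => ?_, fun h => ?_⟩
    · have := hker (x - y) (by rw [map_sub]; exact sub_eq_zero.mpr h)
      rwa [mul_sub, sub_eq_zero] at this
    · have := congrArg f h
      rwa [map_mul, map_mul, ht, one_mul, one_mul] at this) hf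
  have : IsNoetherianRing C := isNoetherianRing_of_surjective B C f hf
  exact isRegularRing_iff.mpr fun q _ =>
    (isRegularLocalRing_localization_iff (Submonoid.powers t) q).mpr inferInstance

theorem isRegularRing_pi {ι : Type u} [Finite ι] (S : ι → Type u) [∀ i, CommRing (S i)]
    [∀ i, IsRegularRing (S i)] : IsRegularRing (∀ i, S i) := by
  classical
  cases nonempty_fintype ι
  refine isRegularRing_iff.mpr fun p hp => ?_
  obtain ⟨i, hi⟩ : ∃ i, Pi.single i 1 ∉ p := by
    by_contra! h
    apply hp.ne_top
    rw [Ideal.eq_top_iff_one, ← Finset.univ_sum_single (1 : ∀ i, S i)]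
    exact Ideal.sum_mem _ fun i _ => h i
  let _ : Algebra (∀ a, S a) (S i) := (Pi.evalRingHom S i).toAlgebra
  have : IsLocalization.Away (Pi.single i 1 : ∀ a, S a) (S i) := by
    refine IsLocalization.away_of_isIdempotentElem ?_ (RingHom.ker_evalRingHom _ _)
      ((Pi.evalRingHom S i).surjective)
    simp [IsIdempotentElem, ← Pi.single_mul_left]
  have hdisj : Disjoint ((Submonoid.powers (Pi.single i 1 : ∀ a, S a)) : Set (∀ a, S a)) p :=
    (Ideal.disjoint_powers_iff_notMem_of_isPrime _).mpr hi
  have := IsLocalization.isPrime_of_isPrime_disjoint (Submonoid.powers (Pi.single i 1 : ∀ a, S a))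
    (S i) p hp hdisj
  have hc : (p.map (algebraMap _ (S i))).comap (algebraMap (∀ a, S a) (S i)) = p :=
    IsLocalization.comap_map_of_isPrime_disjoint _ (S i) hp hdisj
  have key : ∀ P : Ideal (∀ a, S a), ∀ _ : P.IsPrime, P = p →
      IsRegularLocalRing (Localization.AtPrime P) → IsRegularLocalRing (Localization.AtPrime p) := by
    rintro P _ rfl h; exact h
  exact key _ inferInstance hc ((isRegularLocalRing_localization_iff
    (Submonoid.powers (Pi.single i 1 : ∀ a, S a)) _).mp inferInstance)

/-- For a finite separable extension `k1/k`, `L ⊗_{k1} A` is a direct factor of `L ⊗_k A`. -/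
theorem isRegularRing_tensor_of_separable (k k1 L A : Type u) [Field k] [Field k1] [CommRing L] [CommRing A]
    [Algebra k k1] [Algebra k L] [Algebra k1 L] [IsScalarTower k k1 L] [Algebra k A] [Algebra k1 A]
    [IsScalarTower k k1 A] [FiniteDimensional k k1] [Algebra.IsSeparable k k1]
    [IsRegularRing (L ⊗[k] A)] : IsRegularRing (L ⊗[k1] A) := by
  have := Algebra.FormallyUnramified.of_isSeparable k k1
  obtain ⟨t, ht, ht1⟩ := (Algebra.FormallyUnramified.iff_exists_tensorProduct
    (R := k) (S := k1)).mp inferInstance
  let φ : k1 ⊗[k] k1 →ₐ[k] L ⊗[k] A :=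
    Algebra.TensorProduct.map (IsScalarTower.toAlgHom k k1 L) (IsScalarTower.toAlgHom k k1 A)
  let f := Algebra.TensorProduct.mapOfCompatibleSMul k1 k k1 L A
  have hfφ : ∀ y, f (φ y) = algebraMap k1 (L ⊗[k1] A) (Algebra.TensorProduct.lmul' k y) := by
    intro y
    induction y using TensorProduct.induction_on with
    | zero => simp
    | tmul a b =>
      simp only [φ, f, Algebra.TensorProduct.map_tmul, Algebra.TensorProduct.mapOfCompatibleSMul_tmul,
        Algebra.TensorProduct.lmul'_apply_tmul, IsScalarTower.coe_toAlgHom', map_mul]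
      rw [Algebra.TensorProduct.algebraMap_apply, Algebra.TensorProduct.algebraMap_apply,
        Algebra.TensorProduct.tmul_mul_tmul, ← Algebra.algebraMap_self_apply (algebraMap k1 L a * _)]
      simp [Algebra.algebraMap_eq_smul_one, TensorProduct.smul_tmul']
    | add a b ha hb => simp only [map_add, ha, hb]
  refine isRegularRing_of_idempotent (f : L ⊗[k] A →+* L ⊗[k1] A)
    (Algebra.TensorProduct.mapOfCompatibleSMul_surjective (R := k1) (S := k) (T := k1) (A := L) (B := A)) (φ t)
    (by rw [RingHom.coe_coe, hfφ, ht1, map_one]) fun x hx => ?_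
  have hx' : x ∈ LinearMap.ker (TensorProduct.mapOfCompatibleSMul k1 k k1 L A) := hx
  rw [TensorProduct.AlgebraTensorModule.ker_mapOfCompatibleSMul] at hx'
  clear hx
  induction hx' using Submodule.span_induction with
  | mem z hz =>
    obtain ⟨a, m, n, rfl⟩ := hz
    have h0 := congrArg φ (ht a)
    rw [map_mul, map_sub, map_zero] at h0
    simp only [φ, Algebra.TensorProduct.map_tmul, map_one, IsScalarTower.coe_toAlgHom'] at h0
    have hz : (a • m) ⊗ₜ[k] n - m ⊗ₜ[k] (a • n) =
        -(m ⊗ₜ[k] n) * ((1 : L) ⊗ₜ[k] algebraMap k1 A a - algebraMap k1 L a ⊗ₜ[k] (1 : A)) := by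
      simp only [mul_sub, neg_mul, Algebra.TensorProduct.tmul_mul_tmul, mul_one, Algebra.smul_def]
      rw [mul_comm (algebraMap k1 L a) m, mul_comm (algebraMap k1 A a) n]
      abel
    rw [hz, mul_comm, mul_assoc, h0, mul_zero]
  | zero => simp
  | add a b _ _ ha hb => rw [mul_add, ha, hb, add_zero]
  | smul c a _ ha => rw [mul_smul_comm, ha, smul_zero]

end Groth.Calg4
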