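import Mathlib
import Groth.Prelude.Def_Found
import Groth.Agent.Calg4.RegularProd
import Groth.Agent.Ega4Algebra1.SepAfterInsep
import Groth.Agent.S9406
import Groth.Agent.S9408

/-!
Geometrically regular algebras stay regular after base change to finitely generated field extensions.
-/

set_option autoImplicit false

universe u

open TensorProduct

namespace Groth.Calg4

theorem isRegularRing_of_isLocalization {B : Type u} (C : Type u) [CommRing B] [CommRing C]
    [Algebra B C] [IsRegularRing B] (M : Submonoid B) [IsLocalization M C] : IsRegularRing C := by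
  have : IsNoetherianRing C := IsLocalization.isNoetherianRing M C inferInstance
  exact isRegularRing_iff.mpr fun q _ =>
    (isRegularLocalRing_localization_iff M q).mpr inferInstance

/-- A formally smooth, finitely generated field extension preserves regularity. -/
theorem isRegularRing_tensor_of_formallySmooth (k K T : Type u) [Field k] [Field K] [CommRing T]
    [Algebra k K] [Algebra k T] [IsRegularRing T] [Algebra.EssFiniteType k K]
    [Algebra.FormallySmooth k K] : IsRegularRing (K ⊗[k] T) := by
  obtain ⟨D, M, hft, hloc⟩ := (Algebra.essFiniteType_iff_exists_subalgebra k K).mp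
    (inferInstance : Algebra.EssFiniteType k K)
  have : Algebra.FinitePresentation k D := Algebra.FinitePresentation.of_finiteType.mp hft
  let p : Ideal D := Ideal.comap (algebraMap D K) ⊥
  have : p.IsPrime := Ideal.IsPrime.comap _
  have hLp : IsLocalization.AtPrime (Localization.AtPrime (⊥ : Ideal K)) p :=
    IsLocalization.isLocalization_isLocalization_atPrime_isLocalization M
      (Localization.AtPrime (⊥ : Ideal K)) (⊥ : Ideal K)
  have : Algebra.IsSmoothAt k p := by
    have : Algebra.FormallySmooth k (Localization.AtPrime (⊥ : Ideal K)) :=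
      Algebra.FormallySmooth.comp k K _
    exact Algebra.FormallySmooth.of_equiv
      ((IsLocalization.algEquiv p.primeCompl (Localization.AtPrime (⊥ : Ideal K))
        (Localization.AtPrime p)).restrictScalars k)
  obtain ⟨g, hg, hgs⟩ := Algebra.IsSmoothAt.exists_notMem_isStandardSmooth (R := k) p
  have hu : IsUnit (algebraMap D K g) := isUnit_iff_ne_zero.mpr fun h => hg (by simpa [p] using h)
  let D' := Localization.Away g
  letI : Algebra D' K := (IsLocalization.Away.lift (S := D') g hu).toAlgebra
  have : IsScalarTower D D' K := IsScalarTower.of_algebraMap_eq fun x =>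
    (IsLocalization.Away.lift_eq (S := D') g hu x).symm
  have : IsScalarTower k D' K := IsScalarTower.of_algebraMap_eq fun x => by
    rw [IsScalarTower.algebraMap_apply k D D', ← IsScalarTower.algebraMap_apply D D' K,
      ← IsScalarTower.algebraMap_apply k D K]
  have : IsLocalization (Submonoid.powers g ⊔ M) K :=
    IsLocalization.of_le M (Submonoid.powers g ⊔ M) le_sup_right fun r hr => by
      obtain ⟨y, hy, z, hz, rfl⟩ := Submonoid.mem_sup.mp hr
      obtain ⟨n, rfl⟩ := hy
      rw [map_mul, map_pow]
      exact (hu.pow n).mul (IsLocalization.map_units K ⟨z, hz⟩)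
  have : IsLocalization ((Submonoid.powers g ⊔ M).map (algebraMap D D')) K :=
    IsLocalization.isLocalization_of_submonoid_le D' K (Submonoid.powers g)
      (Submonoid.powers g ⊔ M) le_sup_left
  have : IsRegularRing (T ⊗[k] D') := Groth.Agent.S9408.isRegularRing_of_smooth T (T ⊗[k] D')
  have : IsRegularRing (D' ⊗[k] T) :=
    IsRegularRing.of_ringEquiv (Algebra.TensorProduct.comm k T D').toRingEquiv
  have : IsRegularRing ((D' ⊗[k] T) ⊗[D'] K) :=
    isRegularRing_of_isLocalization _
      (Algebra.algebraMapSubmonoid (D' ⊗[k] T) ((Submonoid.powers g ⊔ M).map (algebraMap D D')))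
  have : IsRegularRing (K ⊗[D'] (D' ⊗[k] T)) :=
    IsRegularRing.of_ringEquiv (R := (D' ⊗[k] T) ⊗[D'] K)
      (Algebra.TensorProduct.comm D' (D' ⊗[k] T) K).toRingEquiv
  exact IsRegularRing.of_ringEquiv
    (Algebra.TensorProduct.cancelBaseChange k D' D' K T).toRingEquiv

/-- Two-step version: base change to a finite extension and then a formally smooth one. -/
theorem isRegularRing_tensor_of_two_step (k k₁ K₁ S : Type u) [Field k] [Field k₁] [Field K₁]
    [CommRing S] [Algebra k k₁] [Algebra k₁ K₁] [Algebra k K₁] [IsScalarTower k k₁ K₁] [Algebra k S]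
    [IsRegularRing (k₁ ⊗[k] S)] [Algebra.EssFiniteType k₁ K₁] [Algebra.FormallySmooth k₁ K₁] :
    IsRegularRing (K₁ ⊗[k] S) := by
  have : IsRegularRing (K₁ ⊗[k₁] (k₁ ⊗[k] S)) := isRegularRing_tensor_of_formallySmooth k₁ K₁ _
  exact IsRegularRing.of_ringEquiv
    (Algebra.TensorProduct.cancelBaseChange k k₁ k₁ K₁ S).toRingEquiv

/-- A geometrically regular algebra stays regular after base change to a finitely generated field
extension. -/
theorem isRegularRing_tensor_of_isGeometricallyRegular {k : Type u} [Field k] {S : Type u}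
    [CommRing S] [Algebra k S] (hS : CAlg.IsGeometricallyRegular k S) (K : Type u) [Field K]
    [Algebra k K] [Algebra.EssFiniteType k K] : IsRegularRing (K ⊗[k] S) := by
  classical
  let Ω := AlgebraicClosure K
  have hK : Algebra.EssFiniteType k (IsScalarTower.toAlgHom k K Ω).fieldRange :=
    Algebra.EssFiniteType.of_surjective (IsScalarTower.toAlgHom k K Ω).equivFieldRange.toAlgHom
      (IsScalarTower.toAlgHom k K Ω).equivFieldRange.surjective
  obtain ⟨G, hG⟩ := IntermediateField.essFiniteType_iff.mp hK
  obtain ⟨k₁, hk₁, hsm⟩ :=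
    Groth.Ega4Algebra1.exists_finite_purelyInseparable_formallySmooth (k := k) G
  let K₁ := IntermediateField.adjoin k₁ (G : Set Ω)
  have : IsRegularRing (k₁ ⊗[k] S) := hS k₁ hk₁
  have : Algebra.EssFiniteType k₁ K₁ := IntermediateField.essFiniteType_iff.mpr ⟨G, rfl⟩
  have : IsRegularRing (K₁ ⊗[k] S) := isRegularRing_tensor_of_two_step k k₁ K₁ S
  have hle : ∀ x : K, algebraMap K Ω x ∈ K₁ := fun x => by
    have h1 : algebraMap K Ω x ∈ IntermediateField.adjoin k (G : Set Ω) :=
      hG ▸ ⟨x, rfl⟩
    exact (IntermediateField.adjoin_le_iff (T := K₁.restrictScalars k)).mpr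
      (IntermediateField.subset_adjoin _ _) h1
  letI : Algebra K K₁ := ((algebraMap K Ω).codRestrict K₁ hle).toAlgebra
  have : IsScalarTower k K K₁ := IsScalarTower.of_algebraMap_eq fun x =>
    Subtype.ext ((IsScalarTower.algebraMap_apply k k₁ Ω x).symm.trans
      ((IsScalarTower.algebraMap_apply k k₁ Ω x).trans
        (IsScalarTower.algebraMap_apply k K Ω x)))
  have : IsRegularRing (K₁ ⊗[K] (K ⊗[k] S)) :=
    IsRegularRing.of_ringEquiv (Algebra.TensorProduct.cancelBaseChange k K K K₁ S).toRingEquiv.symm
  have : IsRegularRing ((K ⊗[k] S) ⊗[K] K₁) :=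
    IsRegularRing.of_ringEquiv (Algebra.TensorProduct.comm K K₁ (K ⊗[k] S)).toRingEquiv
  exact Groth.Agent.S9406.result (K ⊗[k] S) ((K ⊗[k] S) ⊗[K] K₁)

/-- Geometric regularity is preserved by finitely generated field extensions. -/
theorem isGeometricallyRegular_baseChange {k : Type u} [Field k] {S : Type u}
    [CommRing S] [Algebra k S] (hS : CAlg.IsGeometricallyRegular k S) (K : Type u) [Field K]
    [Algebra k K] [Algebra.EssFiniteType k K] : CAlg.IsGeometricallyRegular K (K ⊗[k] S) := by
  intro L _ _ hfin
  let : Algebra k L := ((algebraMap K L).comp (algebraMap k K)).toAlgebra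
  have : IsScalarTower k K L := IsScalarTower.of_algebraMap_eq fun _ => rfl
  have : Algebra.EssFiniteType k L := Algebra.EssFiniteType.comp k K L
  have := isRegularRing_tensor_of_isGeometricallyRegular hS L
  exact IsRegularRing.of_ringEquiv (Algebra.TensorProduct.cancelBaseChange k K K L S).toRingEquiv.symm

theorem isGeometricallyRegular_of_algEquiv {k : Type u} [Field k] {S S' : Type u}
    [CommRing S] [Algebra k S] [CommRing S'] [Algebra k S'] (e : S ≃ₐ[k] S')
    (hS : CAlg.IsGeometricallyRegular k S) : CAlg.IsGeometricallyRegular k S' := by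
  intro L _ _ hfin
  have := hS L hfin
  exact IsRegularRing.of_ringEquiv
    (Algebra.TensorProduct.congr (AlgEquiv.refl (R := k) (A₁ := L)) e).toRingEquiv

end Groth.Calg4
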