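import Mathlib
import Groth.Prelude.Def_Found
import Groth.Agent.Calg4.GeomRegular
import Groth.Agent.DescentBase.FlatTower
import Groth.Agent.S9250

/-!
Regular ring maps: characterization by base change to finitely generated field extensions,
base change, composition, descent along faithfully flat maps.
-/

set_option autoImplicit false

universe u

open TensorProduct

namespace Groth.Calg4

/-- If `A → B` is regular, `L ⊗ B` is a regular ring for every essentially finite type field `L` over `A`. -/
theorem IsRegularHom.isRegularRing_tensor {A B : Type u} [CommRing A] [CommRing B] [Algebra A B]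
    (h : CAlg.IsRegularHom A B) (L : Type u) [Field L] [Algebra A L] [hf : Algebra.EssFiniteType A L] :
    IsRegularRing (L ⊗[A] B) := by
  let p := RingHom.ker (algebraMap A L)
  have : p.IsPrime := RingHom.ker_isPrime _
  let φ : p.ResidueField →+* L := Ideal.ResidueField.lift p (algebraMap A L) le_rfl fun a ha =>
    isUnit_iff_ne_zero.mpr fun h0 => ha h0
  let : Algebra p.ResidueField L := φ.toAlgebra
  have : IsScalarTower A p.ResidueField L := IsScalarTower.of_algebraMap_eq fun a =>
    (Ideal.ResidueField.lift_algebraMap p (algebraMap A L) le_rfl _ a).symm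
  have : Algebra.EssFiniteType p.ResidueField L := Algebra.EssFiniteType.of_comp A _ _
  have := isRegularRing_tensor_of_isGeometricallyRegular (h.2 p).2 L
  exact IsRegularRing.of_ringEquiv
    (Algebra.TensorProduct.cancelBaseChange A p.ResidueField p.ResidueField L B).toRingEquiv

/-- A flat map is regular when all base changes to fields are regular rings. -/
theorem isRegularHom_of_isRegularRing_tensor {A B : Type u} [CommRing A] [CommRing B] [Algebra A B]
    (hflat : Module.Flat A B)
    (h : ∀ (L : Type u) [Field L] [Algebra A L], Algebra.EssFiniteType A L →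
      IsRegularRing (L ⊗[A] B)) : CAlg.IsRegularHom A B := by
  refine ⟨hflat, fun p _ => ⟨?_, fun L _ _ hfin => ?_⟩⟩
  · have := h p.ResidueField inferInstance
    infer_instance
  · let : Algebra A L := ((algebraMap p.ResidueField L).comp (algebraMap A p.ResidueField)).toAlgebra
    have : IsScalarTower A p.ResidueField L := IsScalarTower.of_algebraMap_eq fun _ => rfl
    have := h L (Algebra.EssFiniteType.comp A p.ResidueField L)
    exact IsRegularRing.of_ringEquiv
      (Algebra.TensorProduct.cancelBaseChange A p.ResidueField p.ResidueField L B).toRingEquiv.symm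

theorem isRegularHom_iff_isRegularRing_tensor {A B : Type u} [CommRing A] [CommRing B] [Algebra A B] :
    CAlg.IsRegularHom A B ↔ Module.Flat A B ∧
      ∀ (L : Type u) [Field L] [Algebra A L], Algebra.EssFiniteType A L → IsRegularRing (L ⊗[A] B) :=
  ⟨fun h => ⟨h.1, fun L _ _ _ => IsRegularHom.isRegularRing_tensor h L⟩,
    fun h => isRegularHom_of_isRegularRing_tensor h.1 h.2⟩

theorem IsRegularHom.of_algEquiv {A B B' : Type u} [CommRing A] [CommRing B] [CommRing B']
    [Algebra A B] [Algebra A B'] (e : B ≃ₐ[A] B') (h : CAlg.IsRegularHom A B) :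
    CAlg.IsRegularHom A B' :=
  isRegularHom_of_isRegularRing_tensor
    (have := h.1; Module.Flat.of_linearEquiv e.symm.toLinearEquiv) fun L _ _ _ =>
    have := IsRegularHom.isRegularRing_tensor h L
    IsRegularRing.of_ringEquiv (Algebra.TensorProduct.congr (AlgEquiv.refl (R := A) (A₁ := L)) e).toRingEquiv

/-- Regular maps are stable under essentially finite type base change. -/
theorem IsRegularHom.baseChange {A B : Type u} [CommRing A] [CommRing B] [Algebra A B]
    (h : CAlg.IsRegularHom A B) (A' : Type u) [CommRing A'] [Algebra A A']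
    [Algebra.EssFiniteType A A'] : CAlg.IsRegularHom A' (A' ⊗[A] B) := by
  have := h.1
  refine isRegularHom_of_isRegularRing_tensor inferInstance fun L _ _ hL => ?_
  let : Algebra A L := ((algebraMap A' L).comp (algebraMap A A')).toAlgebra
  have : IsScalarTower A A' L := IsScalarTower.of_algebraMap_eq fun _ => rfl
  have : Algebra.EssFiniteType A L := Algebra.EssFiniteType.comp A A' L
  have := IsRegularHom.isRegularRing_tensor h L
  exact IsRegularRing.of_ringEquiv
    (Algebra.TensorProduct.cancelBaseChange A A' A' L B).toRingEquiv.symm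

/-- `(B ⊗_A L) ⊗_B C ≅ L ⊗_A C`. -/
noncomputable def fibreTower (A B C L : Type u) [CommRing A] [CommRing B] [CommRing C] [CommRing L]
    [Algebra A B] [Algebra B C] [Algebra A C] [IsScalarTower A B C] [Algebra A L] :
    (B ⊗[A] L) ⊗[B] C ≃+* L ⊗[A] C :=
  ((Algebra.TensorProduct.comm B (B ⊗[A] L) C).toRingEquiv.trans
    (Algebra.TensorProduct.cancelBaseChange A B B C L).toRingEquiv).trans
      (Algebra.TensorProduct.comm A C L).toRingEquiv

/-- Regular maps compose, provided the fibres of the composite are Noetherian. -/
theorem IsRegularHom.trans {A B C : Type u} [CommRing A] [CommRing B] [CommRing C]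
    [Algebra A B] [Algebra B C] [Algebra A C] [IsScalarTower A B C]
    (hAB : CAlg.IsRegularHom A B) (hBC : CAlg.IsRegularHom B C)
    (hN : ∀ (p : Ideal A) [p.IsPrime], IsNoetherianRing (p.Fiber C)) :
    CAlg.IsRegularHom A C := by
  have := hAB.1
  have := hBC.1
  refine isRegularHom_of_isRegularRing_tensor (Module.Flat.trans A B C) fun L _ _ hL => ?_
  have : IsNoetherianRing (L ⊗[A] C) := by
    let p := RingHom.ker (algebraMap A L)
    have : p.IsPrime := RingHom.ker_isPrime _
    let φ : p.ResidueField →+* L := Ideal.ResidueField.lift p (algebraMap A L) le_rfl fun a ha =>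
      isUnit_iff_ne_zero.mpr fun h0 => ha h0
    let : Algebra p.ResidueField L := φ.toAlgebra
    have : IsScalarTower A p.ResidueField L := IsScalarTower.of_algebraMap_eq fun a =>
      (Ideal.ResidueField.lift_algebraMap p (algebraMap A L) le_rfl _ a).symm
    have : Algebra.EssFiniteType p.ResidueField L := Algebra.EssFiniteType.of_comp A _ _
    have := hN p
    have : IsNoetherianRing (p.Fiber C ⊗[p.ResidueField] L) :=
      Algebra.EssFiniteType.isNoetherianRing (p.Fiber C) (p.Fiber C ⊗[p.ResidueField] L)
    exact isNoetherianRing_of_ringEquiv (p.Fiber C ⊗[p.ResidueField] L)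
      ((Algebra.TensorProduct.comm p.ResidueField (p.Fiber C) L).toRingEquiv.trans
        (Algebra.TensorProduct.cancelBaseChange A p.ResidueField p.ResidueField L C).toRingEquiv)
  have := IsRegularHom.isRegularRing_tensor hAB L
  have : IsRegularRing (B ⊗[A] L) :=
    IsRegularRing.of_ringEquiv (Algebra.TensorProduct.comm A L B).toRingEquiv
  have : IsNoetherianRing ((B ⊗[A] L) ⊗[B] C) :=
    isNoetherianRing_of_ringEquiv _ (fibreTower A B C L).symm
  have := Groth.Agent.S9250.result (B ⊗[A] L) ((B ⊗[A] L) ⊗[B] C)
    (IsRegularHom.baseChange hBC (B ⊗[A] L))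
  exact IsRegularRing.of_ringEquiv (fibreTower A B C L)

/-- Regularity descends along faithfully flat maps on the target. -/
theorem IsRegularHom.of_faithfullyFlat {A B C : Type u} [CommRing A] [CommRing B] [CommRing C]
    [Algebra A B] [Algebra B C] [Algebra A C] [IsScalarTower A B C] [Module.FaithfullyFlat B C]
    (hAC : CAlg.IsRegularHom A C) : CAlg.IsRegularHom A B := by
  have := hAC.1
  refine isRegularHom_of_isRegularRing_tensor
    (Groth.DescentBase.flat_of_flat_of_faithfullyFlat A B C) fun L _ _ hL => ?_
  have := IsRegularHom.isRegularRing_tensor hAC L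
  have : IsRegularRing ((B ⊗[A] L) ⊗[B] C) := IsRegularRing.of_ringEquiv (fibreTower A B C L).symm
  have : IsRegularRing (B ⊗[A] L) := Groth.Agent.S9406.result (B ⊗[A] L) ((B ⊗[A] L) ⊗[B] C)
  exact IsRegularRing.of_ringEquiv (Algebra.TensorProduct.comm A B L).toRingEquiv

/-- Localizing the target preserves regularity. -/
theorem IsRegularHom.localization {A B : Type u} [CommRing A] [CommRing B] [Algebra A B]
    (h : CAlg.IsRegularHom A B) (M : Submonoid B) (C : Type u) [CommRing C] [Algebra B C]
    [Algebra A C] [IsScalarTower A B C] [IsLocalization M C] : CAlg.IsRegularHom A C := by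
  have := h.1
  have : Module.Flat B C := IsLocalization.flat C M
  refine isRegularHom_of_isRegularRing_tensor (Module.Flat.trans A B C) fun L _ _ hL => ?_
  have := IsRegularHom.isRegularRing_tensor h L
  have : IsRegularRing (B ⊗[A] L) :=
    IsRegularRing.of_ringEquiv (Algebra.TensorProduct.comm A L B).toRingEquiv
  have : IsRegularRing ((B ⊗[A] L) ⊗[B] C) :=
    isRegularRing_of_isLocalization _ (Algebra.algebraMapSubmonoid (B ⊗[A] L) M)
  exact IsRegularRing.of_ringEquiv (fibreTower A B C L)

/-- Regularity of `A → B` implies that of `A' → B` for a localization `A'` of `A`. -/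
theorem IsRegularHom.localization_source {A A' B : Type u} [CommRing A] [CommRing A'] [CommRing B]
    [Algebra A A'] [Algebra A B] [Algebra A' B] [IsScalarTower A A' B] (M : Submonoid A)
    [IsLocalization M A'] (h : CAlg.IsRegularHom A B) : CAlg.IsRegularHom A' B := by
  refine isRegularHom_of_isRegularRing_tensor
    ((Module.flat_iff_of_isLocalization A' M B).mpr h.1) fun L _ _ hL => ?_
  let : Algebra A L := ((algebraMap A' L).comp (algebraMap A A')).toAlgebra
  have : IsScalarTower A A' L := IsScalarTower.of_algebraMap_eq fun _ => rfl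
  have : Algebra.EssFiniteType A A' := Algebra.EssFiniteType.of_isLocalization A' M
  have := IsRegularHom.isRegularRing_tensor h L (hf := Algebra.EssFiniteType.comp A A' L)
  exact IsRegularRing.of_ringEquiv (IsLocalization.algebraTensorEquiv M A' L B).toRingEquiv.symm

end Groth.Calg4
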