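import Mathlib
import Groth.Agent.Calg4.SmoothRegularField
import Groth.Agent.Ega4Algebra1.RegularLocal

/-!
Smooth algebras over reduced rings are reduced.
-/

set_option autoImplicit false

universe u

open TensorProduct

namespace Groth.Calg4

theorem isReduced_of_smooth_field (k S : Type u) [Field k] [CommRing S] [Algebra k S]
    [Algebra.Smooth k S] : IsReduced S := by
  refine isReduced_ofLocalizationMaximal S fun m hm => ?_
  have : Algebra.IsSmoothAt k m := Algebra.FormallySmooth.comp k S _
  have := isRegularLocalRing_of_isSmoothAt (k := k) m
  have := Groth.Ega4Algebra1.isDomain_of_isRegularLocalRing (Localization.AtPrime m)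
  infer_instance

theorem isReduced_of_smooth_of_isNoetherianRing (R S : Type u) [CommRing R] [CommRing S] [Algebra R S]
    [Algebra.Smooth R S] [IsNoetherianRing R] [IsReduced R] : IsReduced S := by
  classical
  have hfin := minimalPrimes.finite_of_isNoetherianRing R
  have : Fintype (minimalPrimes R) := hfin.fintype
  let K : minimalPrimes R → Type u := fun p =>
    haveI := p.2.1.1
    p.1.ResidueField
  have hp : ∀ p : minimalPrimes R, p.1.IsPrime := fun p => p.2.1.1
  let Pi := (p : minimalPrimes R) → p.1.ResidueField
  have hinj : Function.Injective (algebraMap R Pi) := by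
    rw [injective_iff_map_eq_zero]
    intro r hr
    have h : r ∈ sInf (minimalPrimes R) := Ideal.mem_sInf.mpr fun {p} hq => by
      have := hq.1.1
      have := congr_fun hr ⟨p, hq⟩
      exact (Ideal.algebraMap_residueField_eq_zero (I := p)).mp this
    rw [minimalPrimes, Ideal.sInf_minimalPrimes] at h
    exact (Ideal.mem_bot).mp ((nilradical_eq_zero R).le h)
  have hred : ∀ p : minimalPrimes R, IsReduced (S ⊗[R] p.1.ResidueField) := fun p => by
    have := isReduced_of_smooth_field p.1.ResidueField (p.1.ResidueField ⊗[R] S)
    exact isReduced_of_injective (Algebra.TensorProduct.comm R S p.1.ResidueField).toRingHom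
      (Algebra.TensorProduct.comm R S p.1.ResidueField).injective
  have : IsReduced (S ⊗[R] Pi) := isReduced_of_injective
    (Algebra.TensorProduct.piRight R R S fun p : minimalPrimes R => p.1.ResidueField).toRingHom
    (Algebra.TensorProduct.piRight R R S fun p : minimalPrimes R => p.1.ResidueField).injective
  refine isReduced_of_injective (Algebra.TensorProduct.includeLeft : S →ₐ[R] S ⊗[R] Pi) ?_
  have h := Algebra.TensorProduct.includeRight_injective (B := S) hinj
  exact fun a b hab => h (by simpa using congrArg (Algebra.TensorProduct.comm R S Pi) hab)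

theorem isReduced_of_smooth (R S : Type u) [CommRing R] [CommRing S] [Algebra R S]
    [Algebra.Smooth R S] [IsReduced R] : IsReduced S := by
  obtain ⟨R₀, S₀, _, _, hfg, _, ⟨e⟩⟩ := Algebra.Smooth.exists_subalgebra_fg ℤ R S
  have : IsNoetherianRing R₀ := isNoetherianRing_of_fg hfg
  have : IsReduced (S₀ ⊗[R₀] R) := IsReduced.tensorProduct_of_flat_of_forall_fg fun B hB => by
    have : IsNoetherianRing B := isNoetherianRing_of_fg hB
    have : IsReduced B := isReduced_of_injective B.val Subtype.val_injective
    have := isReduced_of_smooth_of_isNoetherianRing B (B ⊗[R₀] S₀)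
    exact isReduced_of_injective (Algebra.TensorProduct.comm R₀ S₀ B).toRingHom
      (Algebra.TensorProduct.comm R₀ S₀ B).injective
  have : IsReduced (R ⊗[R₀] S₀) := isReduced_of_injective
    (Algebra.TensorProduct.comm R₀ R S₀).toRingHom (Algebra.TensorProduct.comm R₀ R S₀).injective
  exact isReduced_of_injective e.toRingEquiv.toRingHom e.injective

end Groth.Calg4
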