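import Mathlib
import Groth.Prelude.Def_CAlg
import Groth.Agent.Calg4.RegularFlat
import Groth.Agent.Ega4Algebra2.DepthFlat
import Groth.Agent.LocCohBase.CM
import Groth.Agent.Calg6.CMSop

/-!
Cohen–Macaulayness and reducedness along flat maps with regular fibres.
-/

set_option autoImplicit false

universe u

open IsLocalRing TensorProduct

namespace Groth.Calg4

theorem isCohenMacaulayLocalRing_iff_dim_eq (A : Type u) [CommRing A] [IsLocalRing A] [IsNoetherianRing A] :
    LocCoh.IsCohenMacaulayLocalRing A ↔ ringKrullDim A = ((LocCoh.depth A A : ℕ∞) : WithBot ℕ∞) := by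
  rw [← Module.supportDim_self_eq_ringKrullDim]
  exact ⟨fun h => h.supportDim_eq_depth, fun h => { supportDim_eq_depth := h }⟩

theorem depth_le_ringKrullDim (A : Type u) [CommRing A] [IsLocalRing A] [IsNoetherianRing A] :
    ((LocCoh.depth A A : ℕ∞) : WithBot ℕ∞) ≤ ringKrullDim A := by
  rw [← Module.supportDim_self_eq_ringKrullDim]
  exact Groth.LocCohBase.depth_le_supportDim A

/-- Cohen–Macaulay ascends along flat local maps with Cohen–Macaulay closed fibre. -/
theorem isCohenMacaulayLocalRing_of_flat (A B : Type u) [CommRing A] [IsLocalRing A] [IsNoetherianRing A]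
    [CommRing B] [IsLocalRing B] [IsNoetherianRing B] [Algebra A B] [IsLocalHom (algebraMap A B)]
    [Module.Flat A B] (hA : LocCoh.IsCohenMacaulayLocalRing A)
    (hF : LocCoh.IsCohenMacaulayLocalRing (B ⧸ (maximalIdeal A).map (algebraMap A B))) :
    LocCoh.IsCohenMacaulayLocalRing B := by
  have := hF.toIsLocalRing
  rw [isCohenMacaulayLocalRing_iff_dim_eq] at hA hF ⊢
  rw [ringKrullDim_eq_add_of_flat A B, Groth.Ega4b.depth_eq_add_of_flat A B, WithBot.coe_add, hA, hF]

/-- Cohen–Macaulay descends along flat local maps with zero-dimensional closed fibre. -/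
theorem isCohenMacaulayLocalRing_of_flat_descend (A B : Type u) [CommRing A] [IsLocalRing A]
    [IsNoetherianRing A] [CommRing B] [IsLocalRing B] [IsNoetherianRing B] [Algebra A B]
    [IsLocalHom (algebraMap A B)] [Module.Flat A B] (hB : LocCoh.IsCohenMacaulayLocalRing B)
    (hrad : maximalIdeal B ≤ ((maximalIdeal A).map (algebraMap A B)).radical) :
    LocCoh.IsCohenMacaulayLocalRing A := by
  let F := B ⧸ (maximalIdeal A).map (algebraMap A B)
  have hle : (maximalIdeal A).map (algebraMap A B) ≤ maximalIdeal B :=
    ((local_hom_TFAE (algebraMap A B)).out 0 2 rfl rfl).mp inferInstance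
  have : Nontrivial F := Ideal.Quotient.nontrivial_iff.mpr
    (ne_top_of_le_ne_top (maximalIdeal.isMaximal B).ne_top hle)
  have : IsLocalRing F := IsLocalRing.of_surjective' _ Ideal.Quotient.mk_surjective
  have hmax : ∀ P : Ideal F, P.IsPrime → P = maximalIdeal F := fun P hP => by
    refine le_antisymm (IsLocalRing.le_maximalIdeal hP.ne_top) fun x hx => ?_
    obtain ⟨b, rfl⟩ := Ideal.Quotient.mk_surjective x
    have hb : b ∈ maximalIdeal B := fun h => hx (h.map (Ideal.Quotient.mk _))
    obtain ⟨n, hn⟩ := hrad hb
    refine hP.mem_of_pow_mem n ?_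
    rw [← map_pow, Ideal.Quotient.eq_zero_iff_mem.mpr hn]
    exact P.zero_mem
  have : Ring.KrullDimLE 0 F := Ring.KrullDimLE.mk₀ fun P hP => by
    rw [hmax P hP]; exact maximalIdeal.isMaximal F
  have hdimF : ringKrullDim F = 0 := le_antisymm (Ring.krullDimLE_iff.mp ‹_›) ringKrullDim_nonneg_of_nontrivial
  have hdepF : LocCoh.depth F F = 0 := by
    have := depth_le_ringKrullDim F
    rw [hdimF] at this
    exact le_antisymm (WithBot.coe_le_coe.mp this) bot_le
  rw [isCohenMacaulayLocalRing_iff_dim_eq] at hB ⊢
  rw [ringKrullDim_eq_add_of_flat A B, Groth.Ega4b.depth_eq_add_of_flat A B, hdimF, hdepF, add_zero,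
    add_zero] at hB
  exact hB

theorem isCohenMacaulayLocalRing_of_isRegularLocalRing (A : Type u) [CommRing A] [IsRegularLocalRing A] :
    LocCoh.IsCohenMacaulayLocalRing A :=
  { supportDim_eq_depth := Groth.Calg6.isCohenMacaulayModule_of_isRegularLocalRing A }

/-- Along a flat map with regular fibres, Cohen–Macaulay rings go to Cohen–Macaulay rings. -/
theorem isCohenMacaulayRing_of_flat_of_regular_fibers (R S : Type u) [CommRing R] [CommRing S]
    [Algebra R S] [Module.Flat R S] [IsNoetherianRing S] [hR : LocCoh.IsCohenMacaulayRing R]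
    (h : ∀ (p : Ideal R) [p.IsPrime], IsRegularRing (p.Fiber S)) :
    LocCoh.IsCohenMacaulayRing S := by
  refine ⟨fun q _ => ?_⟩
  set p := q.comap (algebraMap R S)
  have := h p
  let := (Localization.localRingHom p q (algebraMap R S) rfl).toAlgebra
  have : IsScalarTower R (Localization.AtPrime p) (Localization.AtPrime q) :=
    IsScalarTower.of_algebraMap_eq fun a => by
      rw [RingHom.algebraMap_toAlgebra, Localization.localRingHom_to_map,
        IsScalarTower.algebraMap_apply R S (Localization.AtPrime q)]
  have : IsLocalHom (algebraMap (Localization.AtPrime p) (Localization.AtPrime q)) :=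
    Localization.isLocalHom_localRingHom p q (algebraMap R S) rfl
  have : Module.Flat R (Localization.AtPrime q) := Module.Flat.trans R S _
  have : Module.Flat (Localization.AtPrime p) (Localization.AtPrime q) :=
    (Module.flat_iff_of_isLocalization (Localization.AtPrime p) p.primeCompl _).mpr inferInstance
  refine isCohenMacaulayLocalRing_of_flat (Localization.AtPrime p) _
    (hR.isCohenMacaulayLocalRing_localization p) ?_
  rw [← Localization.AtPrime.map_eq_maximalIdeal, Ideal.map_map, ← IsScalarTower.algebraMap_eq]
  have := isRegularLocalRing_fibLocRing R S q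
  exact isCohenMacaulayLocalRing_of_isRegularLocalRing (EGA4.FibLocRing R S q)

/-- Cohen–Macaulay rings descend along faithfully flat maps. -/
theorem isCohenMacaulayRing_of_faithfullyFlat (R S : Type u) [CommRing R] [CommRing S] [Algebra R S]
    [Module.FaithfullyFlat R S] [IsNoetherianRing R] [hS : LocCoh.IsCohenMacaulayRing S] :
    LocCoh.IsCohenMacaulayRing R := by
  refine ⟨fun p _ => ?_⟩
  obtain ⟨⟨Q, _⟩, hQ⟩ := PrimeSpectrum.comap_surjective_of_faithfullyFlat (A := R) (B := S) ⟨p, inferInstance⟩
  have hQp : Q.comap (algebraMap R S) = p := congrArg PrimeSpectrum.asIdeal hQ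
  obtain ⟨q, hq, hqQ⟩ := Ideal.exists_minimalPrimes_le
    (show p.map (algebraMap R S) ≤ Q from Ideal.map_le_iff_le_comap.mpr hQp.ge)
  have := hq.1.1
  have hqp : q.comap (algebraMap R S) = p :=
    le_antisymm ((Ideal.comap_mono hqQ).trans hQp.le) (Ideal.map_le_iff_le_comap.mp hq.1.2)
  let := (Localization.localRingHom p q (algebraMap R S) hqp.symm).toAlgebra
  have : IsScalarTower R (Localization.AtPrime p) (Localization.AtPrime q) :=
    IsScalarTower.of_algebraMap_eq fun a => by
      rw [RingHom.algebraMap_toAlgebra, Localization.localRingHom_to_map,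
        IsScalarTower.algebraMap_apply R S (Localization.AtPrime q)]
  have : IsLocalHom (algebraMap (Localization.AtPrime p) (Localization.AtPrime q)) :=
    Localization.isLocalHom_localRingHom p q (algebraMap R S) hqp.symm
  have : Module.Flat R (Localization.AtPrime q) := Module.Flat.trans R S _
  have : Module.Flat (Localization.AtPrime p) (Localization.AtPrime q) :=
    (Module.flat_iff_of_isLocalization (Localization.AtPrime p) p.primeCompl _).mpr inferInstance
  refine isCohenMacaulayLocalRing_of_flat_descend _ _ (hS.isCohenMacaulayLocalRing_localization q) ?_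
  rw [← Localization.AtPrime.map_eq_maximalIdeal (I := p), Ideal.map_map, ← IsScalarTower.algebraMap_eq,
    IsScalarTower.algebraMap_eq R S (Localization.AtPrime q), ← Ideal.map_map,
    IsLocalization.AtPrime.radical_map_of_mem_minimalPrimes (Localization.AtPrime q) q (p.map (algebraMap R S)) hq,
    IsLocalization.AtPrime.map_eq_maximalIdeal q (Localization.AtPrime q)]

/-- Reducedness ascends along flat maps with reduced fibres at minimal primes. -/
theorem isReduced_of_flat_of_reduced_fibers (R S : Type u) [CommRing R] [CommRing S]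
    [Algebra R S] [Module.Flat R S] [IsNoetherianRing R] [IsReduced R]
    (h : ∀ p ∈ minimalPrimes R, ∀ [p.IsPrime], IsReduced (p.Fiber S)) : IsReduced S := by
  classical
  refine ⟨fun x hx => ?_⟩
  let ι := (minimalPrimes R : Set (Ideal R))
  have : Finite ι := (minimalPrimes.finite_of_isNoetherianRing R).to_subtype
  have : Fintype ι := Fintype.ofFinite ι
  have hprime : ∀ p : ι, p.1.IsPrime := fun p => p.2.1.1
  let φ : R →ₗ[R] (∀ p : ι, p.1.ResidueField) := LinearMap.pi fun p => Algebra.linearMap R _
  have hφ : Function.Injective φ := by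
    rw [injective_iff_map_eq_zero]
    intro r hr
    have hr' : ∀ p ∈ minimalPrimes R, r ∈ p := fun p hp => by
      have := hp.1.1
      exact Ideal.algebraMap_residueField_eq_zero.mp (congrFun hr ⟨p, hp⟩)
    have : r ∈ sInf (minimalPrimes R) := Submodule.mem_sInf.mpr hr'
    rw [minimalPrimes, Ideal.sInf_minimalPrimes] at this
    exact (mem_nilradical.mp this).eq_zero
  have hinj := Module.Flat.rTensor_preserves_injective_linearMap (M := S) φ hφ
  have key : φ.rTensor S (1 ⊗ₜ x) = 0 := by
    apply (TensorProduct.piLeft R S (fun p : ι => p.1.ResidueField)).injective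
    rw [map_zero]
    funext p
    have := h p.1 p.2
    have h1 : (1 : p.1.ResidueField) ⊗ₜ[R] x = (0 : p.1.Fiber S) :=
      IsReduced.eq_zero _ (hx.map (Algebra.TensorProduct.includeRight (R := R) (A := p.1.ResidueField)))
    simpa [φ] using h1
  have h0 := hinj (key.trans (map_zero _).symm)
  simpa using congrArg (TensorProduct.lid R S) h0

end Groth.Calg4
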