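import Groth.Agent.PropsBasic.NormalizationFac
import Groth.Agent.S2351
import Mathlib.AlgebraicGeometry.Normalization

/-!
Characterisation of the normalization of an integral scheme.
-/

universe u

open CategoryTheory Limits AlgebraicGeometry TopologicalSpace

namespace Groth.Calg4.NormChar

variable (X : Scheme.{u}) [IsIntegral X] [QuasiCompact (X.fromSpecStalk (genericPoint X))]
  [QuasiSeparated (X.fromSpecStalk (genericPoint X))]

local notation "ν" => Curv2.normalizationι X
local notation "N" => Curv2.normalization X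
local notation "ξ" => genericPoint X

lemma isNormalScheme_specField (K : CommRingCat.{u}) (hK : IsField K) :
    Pi1.IsNormalScheme (Spec K) := by
  intro z
  let := hK.toField
  have hy : z = genericPoint (Spec K) := @Subsingleton.elim (PrimeSpectrum K) _ _ _
  subst hy
  exact ⟨inferInstanceAs (IsDomain (Spec K).functionField),
    inferInstanceAs (IsIntegrallyClosed (Spec K).functionField)⟩

/-- Lifts of the generic point to the normalization are unique. -/
lemma lift_unique {K : CommRingCat.{u}} (hK : IsField K) {g₁ g₂ : Spec K ⟶ N}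
    (h : g₁ ≫ ν = g₂ ≫ ν) (hg : ∀ z, (g₁ ≫ ν) z = ξ) : g₁ = g₂ :=
  (Groth.PropsBasic.NormalizationFac.existsUnique_fac (isNormalScheme_specField K hK)
    fun z _ => hg z).unique rfl h.symm

lemma eq_generic_of_map_eq [IsIntegral N] {z : N} (hz : ν z = ξ) : z = genericPoint N := by
  obtain ⟨_, -, -, hgen, hbij⟩ := Groth.Agent.S2351.result X
  have hg : ∀ (w : N) (_ : ν w = ξ) (p : Spec ((N).residueField w)),
      ((N).fromSpecResidueField w ≫ ν) p = ξ := fun w hw p => by
    rw [Scheme.Hom.comp_apply, Scheme.fromSpecResidueField_apply]; exact hw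
  let φ : X.residueField (ν z) ⟶ (N).residueField z := (ν).residueFieldMap z
  let η := genericPoint N
  have hK : IsField (X.residueField (ν η)) := Field.toIsField _
  have : IsIso ((ν).residueFieldMap η) := (ConcreteCategory.isIso_iff_bijective _).mpr hbij
  let c : X.residueField (ν η) ⟶ X.residueField (ν z) := (X.residueFieldCongr (hgen.trans hz.symm)).hom
  let α : Spec ((N).residueField z) ⟶ Spec ((N).residueField η) :=
    Spec.map (inv ((ν).residueFieldMap η) ≫ c ≫ φ)
  have he : (N).fromSpecResidueField z = α ≫ (N).fromSpecResidueField η := by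
    refine lift_unique X (Field.toIsField _) ?_ (hg z hz)
    rw [Category.assoc, ← Scheme.Hom.SpecMap_residueFieldMap_fromSpecResidueField,
      ← Scheme.Hom.SpecMap_residueFieldMap_fromSpecResidueField]
    simp only [α, c, φ, Spec.map_comp, Category.assoc]
    rw [← Spec.map_comp_assoc ((ν).residueFieldMap η), IsIso.hom_inv_id, Spec.map_id, Category.id_comp,
      Scheme.residueFieldCongr_fromSpecResidueField]
  have := congrArg (fun m : Spec ((N).residueField z) ⟶ N => m (IsLocalRing.closedPoint _)) he
  simpa [Scheme.fromSpecResidueField_apply] using this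

/-- The normalization is birational. -/
lemma birational [IsIntegral N] :
    (ν).base ⁻¹' {ξ} = {genericPoint N} ∧ IsIso ((ν).stalkMap (genericPoint N)) := by
  obtain ⟨_, -, -, hgen, hbij⟩ := Groth.Agent.S2351.result X
  refine ⟨Set.ext fun z => ⟨eq_generic_of_map_eq X, fun h => by rw [Set.mem_singleton_iff.1 h]; exact hgen⟩, ?_⟩
  rw [ConcreteCategory.isIso_iff_bijective]
  have hX : IsField (X.presheaf.stalk (ν (genericPoint N))) :=
    hgen.symm ▸ Field.toIsField X.functionField
  let := hX.toField
  refine ⟨RingHom.injective _, fun b => ?_⟩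
  obtain ⟨a, ha⟩ := hbij.2 ((N).residue _ b)
  obtain ⟨a', rfl⟩ := X.residue_surjective _ a
  refine ⟨a', ?_⟩
  have hinj : Function.Injective ((N).residue (genericPoint N)) := by
    let : Field ((N).presheaf.stalk (genericPoint N)) := inferInstanceAs (Field (N).functionField)
    exact RingHom.injective _
  apply hinj
  rw [← ha, ← CommRingCat.comp_apply, ← CommRingCat.comp_apply, Scheme.residue_residueFieldMap]

variable {X}

/-- A normal integral birational cover is the normalization. -/
theorem exists_iso {Y : Scheme.{u}} [IrreducibleSpace Y] (f : Y ⟶ X)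
    (hN : Pi1.IsNormalScheme Y) [IsIntegralHom f] (hη : f (genericPoint Y) = ξ)
    [IsIso (f.stalkMap (genericPoint Y))] : ∃ e : Y ≅ N, e.hom ≫ ν = f := by
  have : ∀ y : Y, _root_.IsReduced (Y.presheaf.stalk y) := fun y => by
    have := (hN y).1; infer_instance
  have hred : IsReduced Y := isReduced_of_isReduced_stalk Y
  have : IsIntegral Y := isIntegral_of_irreducibleSpace_of_isReduced Y
  have hdom : ∀ z : Y, closure {z} ∈ irreducibleComponents ↥Y → f z = ξ := fun z hz => by
    rw [irreducibleComponents_eq_singleton] at hz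
    have : z = genericPoint Y := IsGenericPoint.eq (show IsGenericPoint z Set.univ from hz)
      (genericPoint_spec Y)
    rw [this, hη]
  obtain ⟨h, hh, -⟩ := Groth.PropsBasic.NormalizationFac.existsUnique_fac (g := f) hN hdom
  let g := X.fromSpecStalk ξ
  let j : Spec (X.presheaf.stalk ξ) ⟶ Y :=
    Spec.map (inv (f.stalkMap (genericPoint Y)) ≫ X.presheaf.stalkSpecializes (Inseparable.of_eq hη).specializes') ≫
      Y.fromSpecStalk (genericPoint Y)
  have hj : j ≫ f = g := by
    simp only [j, Spec.map_comp, Category.assoc]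
    rw [← Scheme.SpecMap_stalkMap_fromSpecStalk, ← Spec.map_comp_assoc (f.stalkMap (genericPoint Y)),
      IsIso.hom_inv_id, Spec.map_id, Category.id_comp, Scheme.SpecMap_stalkSpecializes_fromSpecStalk]
  let k : N ⟶ Y := g.normalizationDesc j f hj.symm
  have hk : k ≫ f = ν := g.normalizationDesc_comp j f hj.symm
  have hjk : g.toNormalization ≫ k = j := g.toNormalization_normalizationDesc j f hj.symm
  have h1 : k ≫ h = 𝟙 N := by
    obtain ⟨_, hNN, -, hgen, -⟩ := Groth.Agent.S2351.result X
    refine (Groth.PropsBasic.NormalizationFac.existsUnique_fac (g := ν) hNN ?_).unique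
      (by rw [Category.assoc, hh, hk]) (Category.id_comp _)
    intro z hz
    rw [irreducibleComponents_eq_singleton] at hz
    have : z = genericPoint N := IsGenericPoint.eq (show IsGenericPoint z Set.univ from hz)
      (genericPoint_spec N)
    rw [this]; exact hgen
  have hjh : j ≫ h = g.toNormalization := by
    have e : (j ≫ h) ≫ ν = g := by rw [Category.assoc, hh, hj]
    have hF : IsField (X.presheaf.stalk ξ) := Field.toIsField X.functionField
    refine lift_unique X hF (e.trans g.toNormalization_fromNormalization.symm) fun z => ?_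
    rw [e]
    have hz : g z ⤳ ξ := by
      have : g z ∈ Set.range g := ⟨z, rfl⟩
      rwa [Scheme.range_fromSpecStalk] at this
    exact (hz.antisymm ((genericPoint_spec X).specializes trivial)).eq
  have : IsDominant j := ⟨by
    rw [DenseRange, dense_iff_closure_eq, ← Set.univ_subset_iff, ← (genericPoint_spec Y).def]
    refine closure_mono (Set.singleton_subset_iff.mpr ?_)
    let p : Spec (X.presheaf.stalk ξ) := IsLocalRing.closedPoint _
    have hr : j p ∈ Set.range (Y.fromSpecStalk (genericPoint Y)) :=
      ⟨_, (Scheme.Hom.comp_apply _ _ p).symm⟩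
    rw [Scheme.range_fromSpecStalk] at hr
    exact ⟨p, (hr.antisymm ((genericPoint_spec Y).specializes trivial)).eq⟩⟩
  have h2 : h ≫ k = 𝟙 Y := by
    refine ext_of_isDominant_of_isSeparated f ?_ j ?_
    · rw [Category.assoc, hk, hh, Category.id_comp]
    · rw [Category.comp_id, reassoc_of% hjh]; exact hjk
  exact ⟨⟨h, k, h2, h1⟩, hh⟩


/-- Open subschemes of normal schemes are normal. -/
theorem isNormalScheme_of_isOpenImmersion {Z W : Scheme.{u}} (i : Z ⟶ W) [IsOpenImmersion i]
    (hW : Pi1.IsNormalScheme W) : Pi1.IsNormalScheme Z := fun z => by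
  obtain ⟨h1, h2⟩ := hW (i z)
  let e : W.presheaf.stalk (i z) ≃+* Z.presheaf.stalk z :=
    (asIso (i.stalkMap z)).commRingCatIsoToRingEquiv
  exact ⟨e.symm.toMulEquiv.isDomain_iff.mpr h1, @IsIntegrallyClosed.of_equiv _ _ _ _ e h2⟩

/-- The normalization is an isomorphism over any normal open. -/
theorem isIso_restrict (V : X.Opens) (hV : (V : Set X).Nonempty)
    (hn : ∀ x ∈ V, IsIntegrallyClosed (X.presheaf.stalk x)) : IsIso (ν ∣_ V) := by
  have : Nonempty V := hV.to_subtype
  obtain ⟨hNi, hNN, -, hgen, -⟩ := Groth.Agent.S2351.result X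
  have := hNi
  have hξ : ξ ∈ V := ((genericPoint_spec X).mem_open_set_iff V.isOpen).mpr (by simpa using hV)
  have hVN : Pi1.IsNormalScheme V := fun x => by
    let e : X.presheaf.stalk x.1 ≃+* V.toScheme.presheaf.stalk x :=
      (asIso (V.ι.stalkMap x)).commRingCatIsoToRingEquiv
    exact ⟨e.symm.toMulEquiv.isDomain_iff.mpr inferInstance, @IsIntegrallyClosed.of_equiv _ _ _ _ e (hn x.1 x.2)⟩
  have hdV : ∀ z : V.toScheme, closure {z} ∈ irreducibleComponents ↥V.toScheme → V.ι z = ξ := by
    intro z hz
    rw [irreducibleComponents_eq_singleton] at hz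
    have : z = genericPoint V.toScheme :=
      IsGenericPoint.eq (show IsGenericPoint z Set.univ from hz) (genericPoint_spec V.toScheme)
    rw [this]
    exact genericPoint_eq_of_isOpenImmersion V.ι
  obtain ⟨s, hs, -⟩ := Groth.PropsBasic.NormalizationFac.existsUnique_fac (g := V.ι) hVN hdV
  have hle : Set.range s ⊆ Set.range (ν ⁻¹ᵁ V).ι := by
    rintro _ ⟨x, rfl⟩
    rw [Scheme.Opens.range_ι]
    show ν (s x) ∈ V
    rw [← Scheme.Hom.comp_apply, hs]
    exact x.2
  let s' : V.toScheme ⟶ (ν ⁻¹ᵁ V).toScheme := IsOpenImmersion.lift (ν ⁻¹ᵁ V).ι s hle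
  have hs' : s' ≫ (ν ⁻¹ᵁ V).ι = s := IsOpenImmersion.lift_fac _ _ _
  refine ⟨⟨s', ?_, ?_⟩⟩
  · rw [← cancel_mono (ν ⁻¹ᵁ V).ι, Category.assoc, hs', Category.id_comp]
    have : Nonempty (ν ⁻¹ᵁ V).toScheme := ⟨⟨genericPoint N, by
      show ν (genericPoint N) ∈ V
      rw [hgen]; exact hξ⟩⟩
    refine (Groth.PropsBasic.NormalizationFac.existsUnique_fac (g := (ν ⁻¹ᵁ V).ι ≫ ν)
      (isNormalScheme_of_isOpenImmersion (ν ⁻¹ᵁ V).ι hNN) ?_).unique ?_ rfl
    · intro z hz
      rw [irreducibleComponents_eq_singleton] at hz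
      have : z = genericPoint (ν ⁻¹ᵁ V).toScheme :=
        IsGenericPoint.eq (show IsGenericPoint z Set.univ from hz) (genericPoint_spec _)
      rw [this, Scheme.Hom.comp_apply, genericPoint_eq_of_isOpenImmersion]
      exact hgen
    · rw [Category.assoc, hs, morphismRestrict_ι]
  · rw [← cancel_mono V.ι, Category.assoc, morphismRestrict_ι, reassoc_of% hs', hs, Category.id_comp]

/-- Transport along an isomorphism of the properties of the normalization. -/
theorem of_iso {Y : Scheme.{u}} (f : Y ⟶ X) (e : Y ≅ N) (he : e.hom ≫ ν = f) :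
    Pi1.IsNormalScheme Y ∧ IsIntegralHom f ∧
      ∃ _ : IrreducibleSpace ↥Y, f.base ⁻¹' {ξ} = {genericPoint Y} ∧
        IsIso (f.stalkMap (genericPoint Y)) := by
  subst he
  obtain ⟨hNi, hNN, -, hgen, -⟩ := Groth.Agent.S2351.result X
  have := hNi
  obtain ⟨hpre, hiso⟩ := birational X
  have : Nonempty Y := ⟨e.inv (genericPoint N)⟩
  have : IsIntegral Y := isIntegral_of_isOpenImmersion e.hom
  have : IsIntegralHom ν := inferInstanceAs (IsIntegralHom (X.fromSpecStalk ξ).fromNormalization)
  have hgp : e.hom (genericPoint Y) = genericPoint N := genericPoint_eq_of_isOpenImmersion e.hom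
  refine ⟨isNormalScheme_of_isOpenImmersion e.hom hNN, inferInstance, inferInstance, ?_, ?_⟩
  · rw [Scheme.Hom.comp_base, TopCat.coe_comp, Set.preimage_comp, hpre, ← hgp]
    ext y
    exact e.hom.isOpenEmbedding.injective.eq_iff
  · rw [Scheme.Hom.stalkMap_comp]
    have h : ∀ w : N, w = genericPoint N → IsIso ((ν).stalkMap w) := by rintro _ rfl; exact hiso
    exact IsIso.comp_isIso' (h _ hgp) inferInstance

end Groth.Calg4.NormChar
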