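import Groth.Agent.Calg4.GeomRegular
import Groth.Agent.Ega4Algebra1.RegularLocal
import Groth.Agent.S9406

/-!
Descent of regularity of local rings along flat morphisms.
-/

set_option autoImplicit false

universe u

open CategoryTheory AlgebraicGeometry

namespace Groth.Calg4

/-- A regular local ring is a regular ring. -/
theorem isRegularRing_of_local (R : Type u) [CommRing R] [IsRegularLocalRing R] : IsRegularRing R :=
  isRegularRing_iff.mpr fun q _ => Groth.Ega4Algebra1.isRegularLocalRing_localization_atPrime R q

/-- Regularity of a local ring descends along a flat local homomorphism. -/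
theorem isRegularLocalRing_of_flat_local (A B : Type u) [CommRing A] [CommRing B] [IsLocalRing A]
    [IsRegularLocalRing B] [Algebra A B] [IsLocalHom (algebraMap A B)] [Module.Flat A B] :
    IsRegularLocalRing A := by
  have : IsRegularRing B := isRegularRing_of_local B
  have := Module.FaithfullyFlat.of_flat_of_isLocalHom (A := A) (B := B)
  have : IsRegularRing A := Groth.Agent.S9406.result A B
  exact IsRegularLocalRing.of_isRegularRing_of_isLocalRing A

/-- If a flat morphism sends a regular point to `g y`, then `g y` is regular. -/
theorem isRegularLocalRing_stalk_of_flatAt {Y Z : Scheme.{u}} (g : Y ⟶ Z) (y : Y)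
    (hflat : (g.stalkMap y).hom.Flat) (hreg : IsRegularLocalRing (Y.presheaf.stalk y)) :
    IsRegularLocalRing (Z.presheaf.stalk (g y)) := by
  algebraize [(g.stalkMap y).hom]
  have : IsLocalHom (algebraMap (Z.presheaf.stalk (g y)) (Y.presheaf.stalk y)) :=
    inferInstanceAs (IsLocalHom (g.stalkMap y).hom)
  exact isRegularLocalRing_of_flat_local (Z.presheaf.stalk (g y)) (Y.presheaf.stalk y)

end Groth.Calg4
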