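import Groth.Agent.FppfSmooth.Basic
import Groth.Agent.PropsBasic.LociBaseChange.Scheme
import Groth.Agent.FlatMor2.FibCrit.SchemeCrit
import Groth.Agent.SpectralTopology.FpCancel
import Mathlib.AlgebraicGeometry.Morphisms.Etale

/-! Smoothness and etaleness near a point descend along morphisms flat at the point. -/

set_option autoImplicit false
set_option backward.isDefEq.respectTransparency.types false

universe u

open CategoryTheory CategoryTheory.Limits AlgebraicGeometry TopologicalSpace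

namespace Groth.Calg4

variable {X Y Z : Scheme.{u}}

theorem flat_fromSpecStalk (X : Scheme.{u}) (x : X) : Flat (X.fromSpecStalk x) := by
  obtain ⟨U, hU, hxU, -⟩ := exists_isAffineOpen_mem_and_subset (U := (⊤ : X.Opens)) (x := x) trivial
  rw [← hU.fromSpecStalk_eq_fromSpecStalk hxU]
  let p : U := ⟨x, hxU⟩
  have h2 := hU.isLocalization_stalk' (hU.primeIdealOf p)
    (by rw [hU.fromSpec_primeIdealOf]; exact hxU)
  have hflat : Flat (Spec.map (X.presheaf.germ U x hxU)) := by
    rw [HasRingHomProperty.Spec_iff (P := @Flat)]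
    let := (X.presheaf.germ U x hxU).hom.toAlgebra
    have := hU.isLocalization_stalk ⟨x, hxU⟩
    exact RingHom.flat_algebraMap_iff.mpr
      (IsLocalization.flat _ (hU.primeIdealOf p).asIdeal.primeCompl)
  show Flat (Spec.map (X.presheaf.germ U x hxU) ≫ hU.fromSpec)
  infer_instance

/-- Being smooth on a neighbourhood of a point is being in the smooth locus. -/
theorem exists_smooth_nhd_iff (f : X ⟶ Y) [LocallyOfFinitePresentation f] (x : X) :
    (∃ U : X.Opens, x ∈ U ∧ Smooth (U.ι ≫ f)) ↔ x ∈ f.smoothLocus := by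
  constructor
  · rintro ⟨U, hxU, hU⟩
    have h : (⟨x, hxU⟩ : U) ∈ U.ι ⁻¹ᵁ f.smoothLocus := by
      rw [Scheme.Hom.preimage_smoothLocus_eq U.ι f, Scheme.Hom.smoothLocus_eq_top]; trivial
    exact h
  · intro hx
    refine ⟨f.smoothLocus, hx, ?_⟩
    rw [← Scheme.Hom.smoothLocus_eq_top_iff, ← Scheme.Hom.preimage_smoothLocus_eq]
    exact top_le_iff.mp fun p _ => p.2

/-- Smoothness near a point descends along a base change flat at the point. -/
theorem mem_smoothLocus_of_baseChange_flat_at {Y' : Scheme.{u}} (f : X ⟶ Y)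
    [LocallyOfFinitePresentation f] (g : Y' ⟶ Y) (x' : ↑(pullback f g))
    (hg : (g.stalkMap ((pullback.snd f g).base x')).hom.Flat)
    (h : x' ∈ (pullback.snd f g).smoothLocus) :
    (pullback.fst f g).base x' ∈ f.smoothLocus := by
  set y' := (pullback.snd f g).base x' with hy'
  let j := Y'.fromSpecStalk y'
  have : Flat (j ≫ g) := by
    have e : Spec.map (g.stalkMap y') ≫ Y.fromSpecStalk (g y') = j ≫ g :=
      Scheme.SpecMap_stalkMap_fromSpecStalk g
    rw [← e]
    have : Flat (Spec.map (g.stalkMap y')) := (HasRingHomProperty.Spec_iff (P := @Flat)).mpr hg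
    have := flat_fromSpecStalk Y (g y')
    infer_instance
  obtain ⟨z, hz, -⟩ := Scheme.Pullback.exists_preimage_pullback (f := pullback.snd f g) (g := j)
    x' (IsLocalRing.closedPoint _) (by rw [Scheme.fromSpecStalk_closedPoint])
  have : LocallyOfFinitePresentation (pullback.snd (pullback.snd f g) j) := inferInstance
  have hz' : z ∈ (pullback.snd (pullback.snd f g) j).smoothLocus :=
    Groth.PropsBasic.Loci.preimage_smoothLocus_le (IsPullback.of_hasPullback (pullback.snd f g) j)
      (show pullback.fst (pullback.snd f g) j z ∈ _ by rw [hz]; exact h)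
  have H : IsPullback (pullback.fst (pullback.snd f g) j ≫ pullback.fst f g)
      (pullback.snd (pullback.snd f g) j) f (j ≫ g) :=
    (IsPullback.of_hasPullback (pullback.snd f g) j).paste_horiz (IsPullback.of_hasPullback f g)
  have := Groth.PropsBasic.Loci.mem_smoothLocus_of_flat H hz'
  rwa [Scheme.Hom.comp_apply, hz] at this

theorem exists_etale_nhd_iff (f : X ⟶ Y) [LocallyOfFinitePresentation f] (x : X) :
    (∃ U : X.Opens, x ∈ U ∧ Etale (U.ι ≫ f)) ↔
      x ∈ f.smoothLocus ∧ ∃ U : X.Opens, x ∈ U ∧ FormallyUnramified (U.ι ≫ f) := by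
  constructor
  · rintro ⟨U, hxU, hU⟩
    exact ⟨(exists_smooth_nhd_iff f x).1 ⟨U, hxU, inferInstance⟩, U, hxU, inferInstance⟩
  · rintro ⟨hx, U, hxU, hU⟩
    obtain ⟨W, hxW, hW⟩ := (exists_smooth_nhd_iff f x).2 hx
    refine ⟨U ⊓ W, ⟨hxU, hxW⟩, ?_⟩
    have h1 : FormallyUnramified ((U ⊓ W).ι ≫ f) := by
      rw [← X.homOfLE_ι (inf_le_left : U ⊓ W ≤ U), Category.assoc]
      exact MorphismProperty.comp_mem @FormallyUnramified _ _ inferInstance hU
    have h2 : Smooth ((U ⊓ W).ι ≫ f) := by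
      rw [← X.homOfLE_ι (inf_le_right : U ⊓ W ≤ W), Category.assoc]
      infer_instance
    exact Etale.of_formallyUnramified_of_flat _

/-- A morphism flat at a point, composed with a morphism locally of finite type to one locally of
finite presentation, is fppf between neighbourhoods. -/
theorem exists_fppf_nhd {S : Scheme.{u}} (f : Y ⟶ S) [LocallyOfFiniteType f] (g : X ⟶ Y)
    [LocallyOfFinitePresentation (g ≫ f)] (x : X) (hg : (g.stalkMap x).hom.Flat)
    (U₀ : X.Opens) (hx : x ∈ U₀) :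
    ∃ (U : X.Opens) (V : Y.Opens) (φ : (U : Scheme.{u}) ⟶ V), U ≤ U₀ ∧ g.base x ∈ V ∧
      φ ≫ V.ι = U.ι ≫ g ∧ Flat φ ∧ LocallyOfFinitePresentation φ ∧ Surjective φ := by
  have : LocallyOfFinitePresentation g := Groth.SpectralTopology.lfp_of_comp g f
  have : LocallyOfFinitePresentation (g ≫ 𝟙 Y) := by rw [Category.comp_id]; infer_instance
  have hopen := Groth.FlatMor2.FibCrit.isOpen_structureSheaf g (𝟙 Y)
  let U : X.Opens := U₀ ⊓ ⟨_, hopen⟩
  have hxU : x ∈ U := ⟨hx, Flat.stalkMap _ _, hg⟩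
  have : Flat (U.ι ≫ g) := by
    refine Flat.of_stalkMap _ fun z => ?_
    rw [Scheme.Hom.stalkMap_comp]
    exact RingHom.Flat.comp (z.2.2.2) (Flat.stalkMap U.ι z)
  let V : Y.Opens := ⟨Set.range (U.ι ≫ g).base, (U.ι ≫ g).isOpenMap.isOpen_range⟩
  let φ : (U : Scheme.{u}) ⟶ V := IsOpenImmersion.lift V.ι (U.ι ≫ g) (by rw [Scheme.Opens.range_ι]; exact le_rfl)
  have hφ : φ ≫ V.ι = U.ι ≫ g := IsOpenImmersion.lift_fac _ _ _
  refine ⟨U, V, φ, inf_le_left, ⟨⟨x, hxU⟩, ?_⟩, hφ, ?_, ?_, ?_⟩
  · rfl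
  · refine Flat.of_stalkMap _ fun z => ?_
    have h := Flat.stalkMap (U.ι ≫ g) z
    rw [← hφ] at h
    rw [Scheme.Hom.stalkMap_comp] at h
    have : IsIso (V.ι.stalkMap (φ z)) := (IsOpenImmersion.iff_isIso_stalkMap.mp inferInstance).2 _
    exact (RingHom.Flat.respectsIso.cancel_left_isIso (V.ι.stalkMap (φ z)) _).mp h
  · have : LocallyOfFinitePresentation (φ ≫ V.ι) := by rw [hφ]; infer_instance
    exact Groth.SpectralTopology.lfp_of_comp φ V.ι
  · refine ⟨fun v => ?_⟩
    obtain ⟨z, hz⟩ := v.2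
    refine ⟨z, V.ι.isEmbedding.injective ?_⟩
    rw [← Scheme.Hom.comp_apply, hφ]
    exact hz

end Groth.Calg4
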