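import Mathlib
import Groth.Prelude.Def_Found
import Groth.Agent.Calg4.GeomRegular
import Groth.Agent.Calg4.RegularProd

/-!
Geometric regularity: invariance under isomorphisms, localisation, locality.
-/

set_option autoImplicit false

universe u

open TensorProduct

namespace Groth.Calg4

/-- Geometric regularity only depends on the pair (field, algebra) up to isomorphism. -/
theorem isGeometricallyRegular_congr {K K' S S' : Type u} [Field K] [Field K'] [CommRing S]
    [CommRing S'] [Algebra K S] [Algebra K' S'] (σ : K ≃+* K') (e : S ≃+* S')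
    (h : ∀ c, e (algebraMap K S c) = algebraMap K' S' (σ c))
    (hS : CAlg.IsGeometricallyRegular K S) : CAlg.IsGeometricallyRegular K' S' := by
  intro L _ _ hfin
  let : Algebra K K' := σ.toRingHom.toAlgebra
  let : Algebra K L := ((algebraMap K' L).comp σ.toRingHom).toAlgebra
  let : Algebra K S' := ((algebraMap K' S').comp σ.toRingHom).toAlgebra
  have : IsScalarTower K K' L := IsScalarTower.of_algebraMap_eq fun _ => rfl
  have : IsScalarTower K K' S' := IsScalarTower.of_algebraMap_eq fun _ => rfl
  have : Module.Finite K K' := Module.Finite.of_surjective (Algebra.linearMap K K') σ.surjective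
  have : Module.Finite K L := Module.Finite.trans K' L
  have := hS L this
  let e' : S ≃ₐ[K] S' := AlgEquiv.ofRingEquiv (f := e) h
  have : IsRegularRing (L ⊗[K] S') := IsRegularRing.of_ringEquiv
    (Algebra.TensorProduct.congr (AlgEquiv.refl (R := K) (A₁ := L)) e').toRingEquiv
  have : TensorProduct.CompatibleSMul K K' L S' := ⟨fun c a b => by
    obtain ⟨c, rfl⟩ := σ.surjective c
    have h1 : ∀ x : L, σ c • x = c • x := fun x => algebraMap_smul K' c x
    have h2 : ∀ x : S', σ c • x = c • x := fun x => algebraMap_smul K' c x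
    rw [h1, h2, TensorProduct.smul_tmul]⟩
  exact IsRegularRing.of_ringEquiv
    (Algebra.TensorProduct.equivOfCompatibleSMul K K' K L S').symm.toRingEquiv

/-- Geometric regularity passes to localisations. -/
theorem isGeometricallyRegular_localization {K S : Type u} [Field K] [CommRing S] [Algebra K S]
    (M : Submonoid S) (T : Type u) [CommRing T] [Algebra S T] [Algebra K T] [IsScalarTower K S T]
    [IsLocalization M T] (hS : CAlg.IsGeometricallyRegular K S) :
    CAlg.IsGeometricallyRegular K T := by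
  intro L _ _ hfin
  have := hS L hfin
  have : IsRegularRing (S ⊗[K] L) :=
    IsRegularRing.of_ringEquiv (Algebra.TensorProduct.comm K L S).toRingEquiv
  have : IsRegularRing ((S ⊗[K] L) ⊗[S] T) :=
    isRegularRing_of_isLocalization _ (Algebra.algebraMapSubmonoid (S ⊗[K] L) M)
  have : IsRegularRing (T ⊗[S] (S ⊗[K] L)) :=
    IsRegularRing.of_ringEquiv (Algebra.TensorProduct.comm S (S ⊗[K] L) T).toRingEquiv
  have : IsRegularRing (T ⊗[K] L) :=
    IsRegularRing.of_ringEquiv (Algebra.TensorProduct.cancelBaseChange K S S T L).toRingEquiv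
  exact IsRegularRing.of_ringEquiv (Algebra.TensorProduct.comm K T L).toRingEquiv

/-- Geometric regularity is Zariski local. -/
theorem isGeometricallyRegular_of_span {K S : Type u} [Field K] [CommRing S] [Algebra K S]
    [IsNoetherianRing S] (s : Set S) (hs : Ideal.span s = ⊤) (T : s → Type u) [∀ a, CommRing (T a)]
    [∀ a, Algebra S (T a)] [∀ a, Algebra K (T a)] [∀ a, IsScalarTower K S (T a)]
    [∀ a : s, IsLocalization.Away (a : S) (T a)]
    (h : ∀ a, CAlg.IsGeometricallyRegular K (T a)) : CAlg.IsGeometricallyRegular K S := by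
  intro L _ _ hfin
  have : IsNoetherianRing (S ⊗[K] L) := IsNoetherianRing.of_finite S (S ⊗[K] L)
  suffices IsRegularRing (S ⊗[K] L) from
    IsRegularRing.of_ringEquiv (Algebra.TensorProduct.comm K S L).toRingEquiv
  rw [isRegularRing_iff]
  intro Q _
  obtain ⟨a, ha, haQ⟩ : ∃ a ∈ s, algebraMap S (S ⊗[K] L) a ∉ Q := by
    by_contra hc
    push Not at hc
    have : (⊤ : Ideal S) ≤ Q.comap (algebraMap S (S ⊗[K] L)) := hs ▸ Ideal.span_le.mpr hc
    exact (Ideal.IsPrime.comap (algebraMap S (S ⊗[K] L))).ne_top (top_le_iff.mp this)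
  let C := (S ⊗[K] L) ⊗[S] T ⟨a, ha⟩
  let M := Algebra.algebraMapSubmonoid (S ⊗[K] L) (Submonoid.powers a)
  have : IsRegularRing C := by
    have := h ⟨a, ha⟩ L hfin
    have : IsRegularRing (T ⟨a, ha⟩ ⊗[K] L) :=
      IsRegularRing.of_ringEquiv (Algebra.TensorProduct.comm K L _).toRingEquiv
    have : IsRegularRing (T ⟨a, ha⟩ ⊗[S] (S ⊗[K] L)) := IsRegularRing.of_ringEquiv
      (Algebra.TensorProduct.cancelBaseChange K S S (T ⟨a, ha⟩) L).symm.toRingEquiv
    exact IsRegularRing.of_ringEquiv (Algebra.TensorProduct.comm S (T ⟨a, ha⟩) (S ⊗[K] L)).toRingEquiv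
  have : IsLocalization (Submonoid.powers a) (T ⟨a, ha⟩) :=
    (inferInstance : IsLocalization.Away ((⟨a, ha⟩ : s) : S) (T ⟨a, ha⟩))
  have hdisj : Disjoint (M : Set (S ⊗[K] L)) Q := by
    rw [Set.disjoint_left]
    rintro _ ⟨_, ⟨n, rfl⟩, rfl⟩ hx
    rw [SetLike.mem_coe, map_pow] at hx
    exact haQ (Ideal.IsPrime.mem_of_pow_mem ‹_› n hx)
  have : (Q.map (algebraMap (S ⊗[K] L) C)).IsPrime :=
    IsLocalization.isPrime_of_isPrime_disjoint M C Q ‹_› hdisj
  have h2 := (isRegularLocalRing_localization_iff (C := C) M (Q.map (algebraMap (S ⊗[K] L) C))).mp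
    inferInstance
  have e : (Q.map (algebraMap (S ⊗[K] L) C)).comap (algebraMap (S ⊗[K] L) C) = Q :=
    IsLocalization.under_map_of_isPrime_disjoint M C ‹_› hdisj
  have aux : ∀ (Q' : Ideal (S ⊗[K] L)) [Q'.IsPrime], Q' = Q →
      IsRegularLocalRing (Localization.AtPrime Q') → IsRegularLocalRing (Localization.AtPrime Q) := by
    rintro _ _ rfl h
    exact h
  exact aux _ e h2

end Groth.Calg4
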