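import Mathlib
import Groth.Prelude.Def_Found
import Groth.Agent.Calg4.GeomRegularLocal
import Groth.Agent.Ega41Exist.Geometric

/-!
Geometric regularity of Noetherian algebras: test at primes, test by height one extensions.
-/

set_option autoImplicit false

universe u

open TensorProduct IsLocalRing

namespace Groth.Calg4

/-- A Noetherian ring is regular when each prime survives in some regular localization. -/
theorem isRegularRing_of_forall_exists_localization {R : Type u} [CommRing R] [IsNoetherianRing R]
    (h : ∀ (P : Ideal R) [P.IsPrime], ∃ (M : Submonoid R) (C : Type u) (_ : CommRing C) (_ : Algebra R C),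
      IsLocalization M C ∧ Disjoint (M : Set R) P ∧ IsRegularRing C) : IsRegularRing R := by
  rw [isRegularRing_iff]
  intro P _
  obtain ⟨M, C, _, _, hloc, hdisj, hreg⟩ := h P
  have : (P.map (algebraMap R C)).IsPrime := IsLocalization.isPrime_of_isPrime_disjoint M C P ‹_› hdisj
  have h2 := (isRegularLocalRing_localization_iff (C := C) M (P.map (algebraMap R C))).mp inferInstance
  have e : (P.map (algebraMap R C)).comap (algebraMap R C) = P :=
    IsLocalization.under_map_of_isPrime_disjoint M C ‹_› hdisj
  have aux : ∀ (Q' : Ideal R) [Q'.IsPrime], Q' = P →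
      IsRegularLocalRing (Localization.AtPrime Q') → IsRegularLocalRing (Localization.AtPrime P) := by
    intro Q' _ he h
    subst he
    exact h
  exact aux _ e h2

/-- Geometric regularity can be tested at the prime ideals. -/
theorem isGeometricallyRegular_of_atPrime {K S : Type u} [Field K] [CommRing S] [Algebra K S]
    [IsNoetherianRing S]
    (h : ∀ (q : Ideal S) [q.IsPrime], CAlg.IsGeometricallyRegular K (Localization.AtPrime q)) :
    CAlg.IsGeometricallyRegular K S := by
  intro L _ _ hfin
  have : IsNoetherianRing (S ⊗[K] L) := IsNoetherianRing.of_finite S (S ⊗[K] L)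
  suffices IsRegularRing (S ⊗[K] L) from
    IsRegularRing.of_ringEquiv (Algebra.TensorProduct.comm K S L).toRingEquiv
  refine isRegularRing_of_forall_exists_localization fun Q _ => ?_
  let q := Q.comap (algebraMap S (S ⊗[K] L))
  let T := Localization.AtPrime q
  refine ⟨Algebra.algebraMapSubmonoid (S ⊗[K] L) q.primeCompl, (S ⊗[K] L) ⊗[S] T,
    inferInstance, inferInstance, inferInstance, ?_, ?_⟩
  · rw [Set.disjoint_left]
    rintro _ ⟨a, ha, rfl⟩ hx
    exact ha hx
  · have := h q L hfin
    have : IsRegularRing (T ⊗[K] L) :=
      IsRegularRing.of_ringEquiv (Algebra.TensorProduct.comm K L _).toRingEquiv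
    have : IsRegularRing (T ⊗[S] (S ⊗[K] L)) := IsRegularRing.of_ringEquiv
      (Algebra.TensorProduct.cancelBaseChange K S S T L).symm.toRingEquiv
    exact IsRegularRing.of_ringEquiv (Algebra.TensorProduct.comm S T (S ⊗[K] L)).toRingEquiv

/-- For a Noetherian algebra over a field of exponential characteristic `p`, geometric regularity
is tested by the finite extensions of height one. -/
theorem isGeometricallyRegular_of_heightOne {k S : Type u} [Field k] (p : ℕ) [ExpChar k p]
    [CommRing S] [Algebra k S] [IsNoetherianRing S]
    (h : ∀ (k' : Type u) [Field k'] [Algebra k k'], Module.Finite k k' →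
      (∀ x : k', x ^ p ∈ (algebraMap k k').range) → IsRegularRing (k' ⊗[k] S)) :
    CAlg.IsGeometricallyRegular k S := by
  refine isGeometricallyRegular_of_atPrime fun q _ L _ _ hfin => ?_
  refine Groth.Ega41Exist.isRegularRing_tensor_finite
    ((Groth.Ega41Exist.isAdicFormallySmooth_iff_regular_baseChange p).mpr fun k' _ _ hf hp => ?_)
  have := h k' hf hp
  let T := Localization.AtPrime q
  have : IsRegularRing (S ⊗[k] k') :=
    IsRegularRing.of_ringEquiv (Algebra.TensorProduct.comm k k' S).toRingEquiv
  have : IsRegularRing ((S ⊗[k] k') ⊗[S] T) :=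
    isRegularRing_of_isLocalization _ (Algebra.algebraMapSubmonoid (S ⊗[k] k') q.primeCompl)
  have : IsRegularRing (T ⊗[S] (S ⊗[k] k')) :=
    IsRegularRing.of_ringEquiv (Algebra.TensorProduct.comm S (S ⊗[k] k') T).toRingEquiv
  have : IsRegularRing (T ⊗[k] k') :=
    IsRegularRing.of_ringEquiv (Algebra.TensorProduct.cancelBaseChange k S S T k').toRingEquiv
  exact IsRegularRing.of_ringEquiv (Algebra.TensorProduct.comm k T k').toRingEquiv

end Groth.Calg4
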