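import Groth.Prelude.Def_Grpd
import Groth.Agent.GitQuot.GrpdShear
import Groth.Agent.GitQuot.GrpdField
import Groth.Agent.Variety2.DimScheme
import Groth.Agent.FibreDim.BaseChange

/-!
# Groupoid schemes over a field: dimension of the arrows
-/

set_option autoImplicit false
universe u

open AlgebraicGeometry CategoryTheory CategoryTheory.Limits

namespace Groth.Calg4.GrpdDim

/-- A second map from the base field into a finite type domain has algebraic image. -/
theorem isAlgebraic_of_hom {k B : Type u} [Field k] [CommRing B] [IsDomain B] [Algebra k B]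
    [Algebra.FiniteType k B] (φ : k →+* B) (a : k) : IsAlgebraic k (φ a) := by
  classical
  by_contra ht
  have hinj : Function.Injective (Polynomial.aeval (φ a) : Polynomial k →ₐ[k] B) :=
    transcendental_iff_injective.1 ht
  let ψ : Polynomial k →+* B := (Polynomial.aeval (φ a) : Polynomial k →ₐ[k] B).toRingHom
  let : Algebra (Polynomial k) B := ψ.toAlgebra
  have : IsScalarTower k (Polynomial k) B :=
    IsScalarTower.of_algebraMap_eq fun c => (Polynomial.aeval_C (φ a) c).symm
  have : Algebra.FiniteType (Polynomial k) B :=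
    Algebra.FiniteType.of_restrictScalars_finiteType k _ B
  have : Module.IsTorsionFree (Polynomial k) B := by
    refine Module.isTorsionFree_iff_smul_eq_zero.2 fun c m h => ?_
    rw [Algebra.smul_def, mul_eq_zero] at h
    exact h.imp_left fun h => hinj (h.trans (map_zero _).symm)
  have : Module.Flat (Polynomial k) B := inferInstance
  have : Algebra.FinitePresentation (Polynomial k) B :=
    (Algebra.FinitePresentation.of_finiteType).1 inferInstance
  have hopen : IsOpen (Set.range (PrimeSpectrum.comap (algebraMap (Polynomial k) B))) :=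
    (PrimeSpectrum.isOpenMap_comap_of_hasGoingDown_of_finitePresentation
      (R := Polynomial k) (S := B)).isOpen_range
  let P₀ : PrimeSpectrum B := ⟨⊥, Ideal.isPrime_bot⟩
  obtain ⟨_, ⟨g, rfl⟩, hg, hsub⟩ := PrimeSpectrum.isTopologicalBasis_basic_opens.exists_subset_of_mem_open
    (show PrimeSpectrum.comap (algebraMap (Polynomial k) B) P₀ ∈
      Set.range (PrimeSpectrum.comap (algebraMap (Polynomial k) B)) from ⟨P₀, rfl⟩) hopen
  have hg0 : g ≠ 0 := fun h => hg (by rw [h]; exact zero_mem _)
  -- a root of unity in `k̄` which is not a root of `g`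
  obtain ⟨N, hN, hNp⟩ := Nat.exists_infinite_primes (g.natDegree + ringChar k + 2)
  have hNk : (N : AlgebraicClosure k) ≠ 0 := by
    intro h
    have h' : (N : k) = 0 := (algebraMap k (AlgebraicClosure k)).injective (by simpa using h)
    rcases hNp.eq_one_or_self_of_dvd _ ((ringChar.spec k N).1 h') with h1 | h2
    · exact CharP.ringChar_ne_one h1
    · omega
  have hsep : (Polynomial.X ^ N - 1 : Polynomial (AlgebraicClosure k)).Separable :=
    Polynomial.X_pow_sub_one_separable_iff.2 hNk
  have hcard : (Polynomial.X ^ N - 1 : Polynomial (AlgebraicClosure k)).roots.toFinset.card = N := by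
    rw [Multiset.toFinset_card_of_nodup (Polynomial.nodup_roots hsep),
      Polynomial.Splits.natDegree_eq_card_roots (IsAlgClosed.splits _) |>.symm, ← Polynomial.C_1,
      Polynomial.natDegree_X_pow_sub_C]
  obtain ⟨α, hα, hαg⟩ : ∃ α : AlgebraicClosure k, α ^ N = 1 ∧ Polynomial.aeval α g ≠ 0 := by
    by_contra! hall
    have hsub' : (Polynomial.X ^ N - 1 : Polynomial (AlgebraicClosure k)).roots.toFinset ⊆
        (g.map (algebraMap k (AlgebraicClosure k))).roots.toFinset := by
      intro α hα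
      rw [Multiset.mem_toFinset, Polynomial.mem_roots'] at hα ⊢
      refine ⟨Polynomial.map_ne_zero hg0, ?_⟩
      have := hall α (by simpa [sub_eq_zero] using hα.2)
      rwa [Polynomial.IsRoot, Polynomial.eval_map, ← Polynomial.aeval_def]
    have := (Finset.card_le_card hsub').trans (Multiset.toFinset_card_le _)
    have := this.trans (Polynomial.card_roots' _)
    rw [hcard, Polynomial.natDegree_map] at this
    omega
  let q : PrimeSpectrum (Polynomial k) :=
    ⟨RingHom.ker (Polynomial.aeval α : Polynomial k →ₐ[k] _), RingHom.ker_isPrime _⟩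
  obtain ⟨Q, hQ⟩ := hsub (show q ∈ PrimeSpectrum.basicOpen g from fun h => hαg h)
  have hmem : (Polynomial.X ^ N - 1 : Polynomial k) ∈ q.asIdeal := by
    change Polynomial.aeval α _ = 0
    simp [hα]
  rw [← hQ] at hmem
  have hne : a ^ N - 1 ≠ 0 := by
    intro h
    apply ht
    refine ⟨Polynomial.X ^ N - Polynomial.C 1, Polynomial.X_pow_sub_C_ne_zero hNp.pos _, ?_⟩
    rw [map_sub, map_pow, Polynomial.aeval_X, Polynomial.aeval_C, map_one, ← map_pow φ, sub_eq_zero.1 h,
      map_one, sub_self]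
  have hunit : IsUnit (algebraMap (Polynomial k) B (Polynomial.X ^ N - 1)) := by
    have e : algebraMap (Polynomial k) B (Polynomial.X ^ N - 1) = φ (a ^ N - 1) := by
      change Polynomial.aeval (φ a) _ = _
      simp
    rw [e]
    exact (IsUnit.mk0 _ hne).map φ
  exact Q.2.ne_top (Ideal.eq_top_of_isUnit_mem _ hmem hunit)

noncomputable section

variable {S : Scheme.{u}} (G : Grpd.GroupoidScheme S) {k : Type u} [Field k]

/-- Over a field, specializations in `R` have the same image in `U ×_S U`. -/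
theorem j_eq_of_specializes (eU : G.U ≅ Spec (CommRingCat.of k)) [LocallyOfFiniteType G.s]
    {r r' : G.R} (h : r' ⤳ r) : G.j r' = G.j r := by
  obtain ⟨W, hW, hrW, -⟩ := exists_isAffineOpen_mem_and_subset (U := ⊤) (Set.mem_univ r)
  have hr'W : r' ∈ W := h.mem_open W.isOpen hrW
  let p' := hW.primeIdealOf ⟨r', hr'W⟩
  let p := hW.primeIdealOf ⟨r, hrW⟩
  have hle : p'.asIdeal ≤ p.asIdeal := by
    have : p' ⤳ p := by
      refine hW.fromSpec.isOpenEmbedding.toIsEmbedding.specializes_iff.1 ?_
      simp only [p, p']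
      erw [hW.fromSpec_primeIdealOf, hW.fromSpec_primeIdealOf]
      exact h
    exact (PrimeSpectrum.le_iff_specializes _ _).2 this
  let B := Γ(G.R, W) ⧸ p'.asIdeal
  let mk : Γ(G.R, W) ⟶ CommRingCat.of B := CommRingCat.ofHom (Ideal.Quotient.mk p'.asIdeal)
  let ι : Spec (CommRingCat.of B) ⟶ G.R := Spec.map mk ≫ hW.fromSpec
  obtain ⟨σ, hσ⟩ := Spec.map_surjective (ι ≫ G.s ≫ eU.hom)
  obtain ⟨τ, hτ⟩ := Spec.map_surjective (ι ≫ G.t ≫ eU.hom)
  algebraize [σ.hom]
  have : Algebra.FiniteType k B := by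
    have : IsClosedImmersion (Spec.map mk) :=
      IsClosedImmersion.spec_of_surjective _ Ideal.Quotient.mk_surjective
    have : LocallyOfFiniteType (Spec.map σ) := by rw [hσ]; infer_instance
    exact (HasRingHomProperty.Spec_iff (P := @LocallyOfFiniteType)).1 this
  let C : Subalgebra k B := Algebra.adjoin k (Set.range τ.hom)
  have : Algebra.IsIntegral k C := by
    refine Algebra.IsIntegral.adjoin ?_
    rintro _ ⟨a, rfl⟩
    exact isAlgebraic_iff_isIntegral.1 (isAlgebraic_of_hom τ.hom a)
  have hC : IsField C := isField_of_isIntegral_of_isField' (Field.toIsField k)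
  let _ : Field C := hC.toField
  let π : Spec (CommRingCat.of B) ⟶ Spec (CommRingCat.of C) :=
    Spec.map (CommRingCat.ofHom C.val.toRingHom)
  have : Subsingleton (Spec (CommRingCat.of C)) := inferInstanceAs (Subsingleton (PrimeSpectrum C))
  have : Flat π := by
    rw [HasRingHomProperty.Spec_iff (P := @Flat)]
    exact inferInstanceAs (Module.Flat C B)
  have : Nonempty (Spec (CommRingCat.of B)) := inferInstanceAs (Nonempty (PrimeSpectrum B))
  have : Surjective π := ⟨fun x => ⟨Classical.arbitrary _, Subsingleton.elim _ _⟩⟩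
  have : Epi π := Flat.epi_of_flat_of_surjective π
  let a : Spec (CommRingCat.of C) ⟶ G.U := Spec.map (CommRingCat.ofHom
    (τ.hom.codRestrict C fun x => Algebra.subset_adjoin ⟨x, rfl⟩)) ≫ eU.inv
  let b : Spec (CommRingCat.of C) ⟶ G.U :=
    Spec.map (CommRingCat.ofHom (algebraMap k C)) ≫ eU.inv
  have ha : π ≫ a = ι ≫ G.t := by
    rw [← cancel_mono eU.hom, Category.assoc, Category.assoc]
    simp only [Category.assoc, Iso.inv_hom_id, Category.comp_id]
    rw [← hτ, ← Spec.map_comp]
    rfl
  have hb : π ≫ b = ι ≫ G.s := by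
    rw [← cancel_mono eU.hom, Category.assoc, Category.assoc]
    simp only [Category.assoc, Iso.inv_hom_id, Category.comp_id]
    rw [← hσ, ← Spec.map_comp]
    rfl
  have hab : a ≫ G.pU = b ≫ G.pU := by
    rw [← cancel_epi π, reassoc_of% ha, reassoc_of% hb, G.t_over, G.s_over]
  have hj : π ≫ pullback.lift a b hab = ι ≫ G.j := by
    apply pullback.hom_ext
    · rw [Category.assoc, Category.assoc, pullback.lift_fst, Groth.GrpdBasic.j_fst, ha]
    · rw [Category.assoc, Category.assoc, pullback.lift_snd, Groth.GrpdBasic.j_snd, hb]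
  have hmem : ∀ (q : G.R) (hq : q ∈ W), p'.asIdeal ≤ (hW.primeIdealOf ⟨q, hq⟩).asIdeal →
      ∃ x, ι x = q := by
    intro q hq hpq
    obtain ⟨x, hx⟩ : hW.primeIdealOf ⟨q, hq⟩ ∈ Set.range (Spec.map mk) := by
      change _ ∈ Set.range (PrimeSpectrum.comap (Ideal.Quotient.mk p'.asIdeal))
      rw [range_comap_of_surjective _ _ Ideal.Quotient.mk_surjective, Ideal.mk_ker]
      exact hpq
    exact ⟨x, by rw [Scheme.Hom.comp_apply, hx, hW.fromSpec_primeIdealOf]⟩
  obtain ⟨x, hx⟩ := hmem r' hr'W le_rfl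
  obtain ⟨y, hy⟩ := hmem r hrW hle
  rw [← hx, ← hy, ← Scheme.Hom.comp_apply ι, ← Scheme.Hom.comp_apply ι, ← hj, Scheme.Hom.comp_apply,
    Scheme.Hom.comp_apply, Subsingleton.elim (π x) (π y)]

section Translate

variable {T : Scheme.{u}} (ρ : T ⟶ G.R)

theorem translate_aux_t :
    pullback.fst G.j (ρ ≫ G.j) ≫ G.t = (pullback.snd G.j (ρ ≫ G.j) ≫ ρ) ≫ G.t ∧
      pullback.fst G.j (ρ ≫ G.j) ≫ G.s = (pullback.snd G.j (ρ ≫ G.j) ≫ ρ) ≫ G.s := by
  have h := pullback.condition (f := G.j) (g := ρ ≫ G.j)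
  constructor
  · have := congrArg (fun f => f ≫ pullback.fst G.pU G.pU) h
    simpa only [Category.assoc, Groth.GrpdBasic.j_fst] using this
  · have := congrArg (fun f => f ≫ pullback.snd G.pU G.pU) h
    simpa only [Category.assoc, Groth.GrpdBasic.j_snd] using this

theorem translate_aux_diag :
    pullback.fst G.j (ρ ≫ G.s ≫ G.diag) ≫ G.t = (pullback.snd G.j (ρ ≫ G.s ≫ G.diag) ≫ ρ) ≫ G.s ∧
      pullback.fst G.j (ρ ≫ G.s ≫ G.diag) ≫ G.s = (pullback.snd G.j (ρ ≫ G.s ≫ G.diag) ≫ ρ) ≫ G.s := by
  have h := pullback.condition (f := G.j) (g := ρ ≫ G.s ≫ G.diag)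
  constructor
  · have := congrArg (fun f => f ≫ pullback.fst G.pU G.pU) h
    simpa only [Category.assoc, Groth.GrpdBasic.j_fst, Groth.GrpdBasic.diag_fst, Category.comp_id] using this
  · have := congrArg (fun f => f ≫ pullback.snd G.pU G.pU) h
    simpa only [Category.assoc, Groth.GrpdBasic.j_snd, Groth.GrpdBasic.diag_snd, Category.comp_id] using this

/-- Translation from the fibre over a point of `R` to the fibre over the identity. -/
def toDiag : pullback G.j (ρ ≫ G.j) ⟶ pullback G.j (ρ ≫ G.s ≫ G.diag) :=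
  pullback.lift
    (Groth.GrpdBasic.comp G ((pullback.snd G.j (ρ ≫ G.j) ≫ ρ) ≫ G.i) (pullback.fst G.j (ρ ≫ G.j))
      (by rw [Category.assoc, G.i_s, (translate_aux_t G ρ).1]))
    (pullback.snd G.j (ρ ≫ G.j)) (by
      apply pullback.hom_ext
      · simp only [Category.assoc, Groth.GrpdBasic.j_fst, Groth.GrpdBasic.diag_fst,
          Groth.GrpdBasic.comp_t, G.i_t, Category.comp_id]
      · simp only [Category.assoc, Groth.GrpdBasic.j_snd, Groth.GrpdBasic.diag_snd,
          Groth.GrpdBasic.comp_s, (translate_aux_t G ρ).2, Category.comp_id])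

/-- Translation from the fibre over the identity to the fibre over a point of `R`. -/
def ofDiag : pullback G.j (ρ ≫ G.s ≫ G.diag) ⟶ pullback G.j (ρ ≫ G.j) :=
  pullback.lift
    (Groth.GrpdBasic.comp G (pullback.snd G.j (ρ ≫ G.s ≫ G.diag) ≫ ρ)
      (pullback.fst G.j (ρ ≫ G.s ≫ G.diag)) (translate_aux_diag G ρ).1.symm)
    (pullback.snd G.j (ρ ≫ G.s ≫ G.diag)) (by
      apply pullback.hom_ext
      · simp only [Category.assoc, Groth.GrpdBasic.j_fst, Groth.GrpdBasic.comp_t]
      · simp only [Category.assoc, Groth.GrpdBasic.j_snd, Groth.GrpdBasic.comp_s,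
          (translate_aux_diag G ρ).2])

theorem toDiag_snd : toDiag G ρ ≫ pullback.snd G.j (ρ ≫ G.s ≫ G.diag) = pullback.snd G.j (ρ ≫ G.j) :=
  pullback.lift_snd _ _ _

theorem ofDiag_snd : ofDiag G ρ ≫ pullback.snd G.j (ρ ≫ G.j) = pullback.snd G.j (ρ ≫ G.s ≫ G.diag) :=
  pullback.lift_snd _ _ _

theorem toDiag_ofDiag : toDiag G ρ ≫ ofDiag G ρ = 𝟙 _ := by
  apply pullback.hom_ext
  · rw [Category.assoc, Category.id_comp, show ofDiag G ρ ≫ pullback.fst G.j (ρ ≫ G.j) =
      Groth.GrpdBasic.comp G (pullback.snd G.j (ρ ≫ G.s ≫ G.diag) ≫ ρ)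
        (pullback.fst G.j (ρ ≫ G.s ≫ G.diag)) (translate_aux_diag G ρ).1.symm from pullback.lift_fst _ _ _,
      Groth.GrpdBasic.precomp_comp]
    refine Eq.trans ?_ (Groth.GrpdBasic.comp_inv_comp_cancel G (pullback.snd G.j (ρ ≫ G.j) ≫ ρ)
      (pullback.fst G.j (ρ ≫ G.j)) (by rw [Category.assoc, G.i_s, (translate_aux_t G ρ).1]))
    apply Groth.GrpdBasic.comp_congr
    · rw [← Category.assoc, toDiag_snd]
    · exact pullback.lift_fst _ _ _
  · rw [Category.assoc, ofDiag_snd, toDiag_snd, Category.id_comp]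

theorem ofDiag_toDiag : ofDiag G ρ ≫ toDiag G ρ = 𝟙 _ := by
  apply pullback.hom_ext
  · rw [Category.assoc, Category.id_comp, show toDiag G ρ ≫ pullback.fst G.j (ρ ≫ G.s ≫ G.diag) =
      Groth.GrpdBasic.comp G ((pullback.snd G.j (ρ ≫ G.j) ≫ ρ) ≫ G.i) (pullback.fst G.j (ρ ≫ G.j))
        (by rw [Category.assoc, G.i_s, (translate_aux_t G ρ).1]) from pullback.lift_fst _ _ _,
      Groth.GrpdBasic.precomp_comp]
    refine Eq.trans ?_ (Groth.GrpdBasic.inv_comp_cancel G (pullback.snd G.j (ρ ≫ G.s ≫ G.diag) ≫ ρ)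
      (pullback.fst G.j (ρ ≫ G.s ≫ G.diag)) (translate_aux_diag G ρ).1.symm)
    apply Groth.GrpdBasic.comp_congr
    · exact (Category.assoc _ _ _).symm.trans (congrArg (fun f => f ≫ G.i)
        ((Category.assoc _ _ _).symm.trans (congrArg (fun f => f ≫ ρ) (ofDiag_snd G ρ))))
    · exact pullback.lift_fst _ _ _
  · rw [Category.assoc, toDiag_snd, ofDiag_snd, Category.id_comp]

/-- The translation isomorphism. -/
def translateIso : pullback G.j (ρ ≫ G.j) ≅ pullback G.j (ρ ≫ G.s ≫ G.diag) :=
  ⟨toDiag G ρ, ofDiag G ρ, toDiag_ofDiag G ρ, ofDiag_toDiag G ρ⟩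

end Translate

/-- Fibres of `j` over points of the image all have the dimension of the fibre over the diagonal. -/
theorem dim_fiber_eq [LocallyOfFiniteType G.s] (r : G.R) :
    topologicalKrullDim ↥(G.j.fiber (G.j r)) = topologicalKrullDim ↥(G.j.fiber (G.diag (G.s r))) := by
  have : LocallyOfFiniteType G.j := by
    have : LocallyOfFiniteType (G.j ≫ pullback.snd G.pU G.pU) := by
      rw [Groth.GrpdBasic.j_snd]; infer_instance
    exact locallyOfFiniteType_of_comp G.j (pullback.snd G.pU G.pU)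
  let T := Spec (G.R.residueField r)
  let ρ : T ⟶ G.R := G.R.fromSpecResidueField r
  let o : T := IsLocalRing.closedPoint (G.R.residueField r)
  have hρ : ρ o = r := Scheme.fromSpecResidueField_apply r o
  have key : ∀ (g : T ⟶ pullback G.pU G.pU),
      topologicalKrullDim ↥(G.j.fiber (g o)) = topologicalKrullDim ↥(pullback G.j g) := by
    intro g
    rw [← Groth.FibreDim.dim_fiber_baseChange G.j g (pullback.snd G.j g) (pullback.fst G.j g)
      (IsPullback.of_hasPullback _ _) o]
    have hpre : (pullback.snd G.j g) ⁻¹' {o} = Set.univ :=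
      Set.eq_univ_of_forall fun x => Subsingleton.elim _ _
    exact (((pullback.snd G.j g).fiberHomeo o).trans
      ((Homeomorph.setCongr hpre).trans (Homeomorph.Set.univ _))).isHomeomorph.topologicalKrullDim_eq _
  have e1 : (ρ ≫ G.j) o = G.j r := by rw [Scheme.Hom.comp_apply, hρ]
  have e2 : (ρ ≫ G.s ≫ G.diag) o = G.diag (G.s r) := by
    rw [Scheme.Hom.comp_apply, Scheme.Hom.comp_apply, hρ]
  rw [← e1, ← e2, key, key]
  exact (Scheme.homeoOfIso (translateIso G ρ)).isHomeomorph.topologicalKrullDim_eq _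

/-- Over a field `R` and the stabilizer have the same dimension. -/
theorem dim_eq (eU : G.U ≅ Spec (CommRingCat.of k)) [LocallyOfFiniteType G.s] :
    topologicalKrullDim G.R = topologicalKrullDim G.stabilizer := by
  have := Groth.GrpdBasic.subsingleton_of_iso_field k eU
  let u : G.U := eU.inv (IsLocalRing.closedPoint k)
  have hjv : ∀ r : G.R, topologicalKrullDim ↥(G.j ⁻¹' {G.j r}) =
      topologicalKrullDim ↥(G.j ⁻¹' {G.diag u}) := by
    intro r
    rw [← (G.j.fiberHomeo _).isHomeomorph.topologicalKrullDim_eq,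
      ← (G.j.fiberHomeo _).isHomeomorph.topologicalKrullDim_eq, dim_fiber_eq G r, Subsingleton.elim (G.s r) u]
  have hdiag : IsPreimmersion G.diag := by
    have : IsImmersion G.diag := inferInstanceAs (IsImmersion (pullback.diagonal G.pU))
    infer_instance
  have hstab : topologicalKrullDim G.stabilizer = topologicalKrullDim ↥(G.j ⁻¹' {G.diag u}) := by
    have he : IsPreimmersion (pullback.fst G.j G.diag) :=
      MorphismProperty.pullback_fst _ _ hdiag
    have hr : Set.range (pullback.fst G.j G.diag) = G.j ⁻¹' {G.diag u} := by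
      rw [Scheme.Pullback.range_fst]
      congr 1
      ext z
      exact ⟨fun ⟨v, hv⟩ => hv ▸ congrArg G.diag (Subsingleton.elim v u), fun hz => ⟨u, hz.symm⟩⟩
    exact ((pullback.fst G.j G.diag).isEmbedding.toHomeomorph.trans
      (Homeomorph.setCongr hr)).isHomeomorph.topologicalKrullDim_eq _
  rw [hstab]
  refine le_antisymm ?_ (topologicalKrullDim_subspace_le _ _)
  rw [Groth.Variety2.Dim.dim_eq_iSup_height]
  refine iSup_le fun η => ?_
  rw [← hjv η, ← Groth.Variety2.Dim.dim_closure_singleton]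
  have hsub : closure ({η} : Set G.R) ⊆ G.j ⁻¹' {G.j η} := fun x hx =>
    (j_eq_of_specializes G eU (specializes_iff_mem_closure.2 hx)).symm
  exact (Topology.IsEmbedding.inclusion hsub).toIsInducing.topologicalKrullDim_le

end

end Groth.Calg4.GrpdDim
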