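import Mathlib
import Groth.Agent.FibreDim.Algebra
import Groth.Agent.FlatMorOne.FlatLocusOpen
import Groth.Agent.S0395
import Groth.Agent.S9598

/-!
Quasi-finite flat algebras under a flat algebra of finite type, through a given prime of the base.
-/

set_option autoImplicit false

universe u

open TensorProduct

namespace Groth.Calg4

variable {R : Type u} [CommRing R]

/-- A finite type algebra quasi-finite at all primes is quasi-finite. -/
theorem quasiFinite_of_forall_quasiFiniteAt (S : Type u) [CommRing S] [Algebra R S]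
    [Algebra.FiniteType R S]
    (h : ∀ q : PrimeSpectrum S, Algebra.QuasiFiniteAt R q.asIdeal) : Algebra.QuasiFinite R S := by
  rw [Algebra.QuasiFinite.iff_finite_comap_preimage_singleton]
  intro x
  let X := PrimeSpectrum.comap (algebraMap R S) ⁻¹' {x}
  have : DiscreteTopology X := discreteTopology_iff_isOpen_singleton.mpr fun ⟨q, hq⟩ => by
    obtain rfl : q.comap (algebraMap R S) = x := hq
    exact (Algebra.quasiFiniteAt_iff_isOpen_singleton_fiber q).mp (h q)
  have : CompactSpace X := (PrimeSpectrum.preimageHomeomorphFiber R S x).symm.compactSpace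
  exact Set.finite_coe_iff.mp (finite_of_compact_of_discrete (X := X))

/-- Elements of `S` that vanish in the fibre at `p` are, up to units at `p`, in `p S`. -/
theorem exists_mul_mem_map_of_tmul_eq_zero {S : Type u} [CommRing S] [Algebra R S] (p : Ideal R)
    [p.IsPrime] {x : S} (hx : (1 : p.ResidueField) ⊗ₜ[R] x = 0) :
    ∃ r ∉ p, algebraMap R S r * x ∈ p.map (algebraMap R S) := by
  let g := (IsScalarTower.toAlgHom R (R ⧸ p) p.ResidueField).toLinearMap.rTensor S
  have : IsLocalizedModule (nonZeroDivisors (R ⧸ p))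
      (Algebra.linearMap (R ⧸ p) p.ResidueField) :=
    (isLocalizedModule_iff_isLocalization' _ _).mpr inferInstance
  let g' := AlgebraTensorModule.rTensor R S (Algebra.linearMap (R ⧸ p) p.ResidueField)
  have h0 : g' ((1 : R ⧸ p) ⊗ₜ[R] x) = 0 := by
    simpa [g'] using hx
  obtain ⟨⟨c, hc⟩, hcx⟩ := (IsLocalizedModule.eq_zero_iff (nonZeroDivisors (R ⧸ p)) g').mp h0
  obtain ⟨r, rfl⟩ := Ideal.Quotient.mk_surjective c
  refine ⟨r, fun hr => nonZeroDivisors.ne_zero hc (Ideal.Quotient.eq_zero_iff_mem.mpr hr), ?_⟩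
  rw [Submonoid.mk_smul, TensorProduct.smul_tmul', smul_eq_mul, mul_one] at hcx
  have h1 : (TensorProduct.quotTensorEquivQuotSMul S p) (Ideal.Quotient.mk p r ⊗ₜ[R] x) = 0 := by
    rw [hcx, map_zero]
  rw [TensorProduct.quotTensorEquivQuotSMul_mk_tmul, Submodule.Quotient.mk_eq_zero,
    Ideal.smul_top_eq_map] at h1
  rw [← Algebra.smul_def]
  exact h1

/-- If the fibre at `p` is zero-dimensional, there is a quasi-finite localisation through `p`. -/
theorem exists_quasiFinite_away {S : Type u} [CommRing S] [Algebra R S] [Algebra.FiniteType R S]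
    (p : PrimeSpectrum R) [Nontrivial (p.asIdeal.Fiber S)]
    (hdim : ringKrullDim (p.asIdeal.Fiber S) ≤ 0) :
    ∃ g : S, Algebra.QuasiFinite R (Localization.Away g) ∧
      Nontrivial (p.asIdeal.Fiber (Localization.Away g)) := by
  let e := PrimeSpectrum.preimageHomeomorphFiber R S p
  have : Ring.KrullDimLE 0 (p.asIdeal.Fiber S) := Ring.krullDimLE_iff.mpr hdim
  have : IsNoetherianRing (p.asIdeal.Fiber S) :=
    Algebra.FiniteType.isNoetherianRing p.asIdeal.ResidueField _
  have : IsArtinianRing (p.asIdeal.Fiber S) :=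
    isArtinianRing_iff_isNoetherianRing_krullDimLE_zero.mpr ⟨inferInstance, inferInstance⟩
  have : DiscreteTopology (PrimeSpectrum (p.asIdeal.Fiber S)) :=
    PrimeSpectrum.discreteTopology_iff_finite_and_krullDimLE_zero.mpr ⟨inferInstance, inferInstance⟩
  obtain ⟨Q⟩ := (inferInstance : Nonempty (PrimeSpectrum (p.asIdeal.Fiber S)))
  have : DiscreteTopology (PrimeSpectrum.comap (algebraMap R S) ⁻¹' {p}) :=
    e.symm.discreteTopology
  obtain ⟨q, hq⟩ := e.symm Q
  have hqp : q.comap (algebraMap R S) = p := hq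
  subst hqp
  have hqf : Algebra.QuasiFiniteAt R q.asIdeal :=
    (Algebra.quasiFiniteAt_iff_isOpen_singleton_fiber q).mpr (isOpen_discrete _)
  obtain ⟨_, ⟨g, rfl⟩, hqg, hgsub⟩ :=
    PrimeSpectrum.isTopologicalBasis_basic_opens.isOpen_iff.mp
      (Groth.FibreDim.isOpen_setOf_quasiFiniteAt R S) q hqf
  refine ⟨g, quasiFinite_of_forall_quasiFiniteAt _ fun P => ?_, ?_⟩
  · have hP : P.comap (algebraMap S (Localization.Away g)) ∈ PrimeSpectrum.basicOpen g :=
      (PrimeSpectrum.localization_away_comap_range (Localization.Away g) g).le ⟨P, rfl⟩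
    have : Algebra.QuasiFiniteAt R (P.comap (algebraMap S (Localization.Away g))).asIdeal := hgsub hP
    exact Algebra.QuasiFiniteAt.of_surjectiveOnStalks
      (P.comap (algebraMap S (Localization.Away g))).asIdeal
      (IsScalarTower.toAlgHom R S (Localization.Away g))
      (RingHom.surjectiveOnStalks_of_isLocalization (.powers g) _) _ rfl
  · obtain ⟨P, hP⟩ := (PrimeSpectrum.localization_away_comap_range (Localization.Away g) g).ge hqg
    have hPp : P.comap (algebraMap R (Localization.Away g)) = q.comap (algebraMap R S) := by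
      rw [← hP, IsScalarTower.algebraMap_eq R S (Localization.Away g), PrimeSpectrum.comap_comp]
      rfl
    exact (PrimeSpectrum.preimageEquivFiber R (Localization.Away g) _ ⟨P, hPp⟩).nontrivial

variable [IsNoetherianRing R]

/-- Slicing: cut out by an element regular on the fibre. -/
theorem exists_flat_slice {S : Type u} [CommRing S] [Algebra R S] [Algebra.FiniteType R S]
    [Module.Flat R S] (p : PrimeSpectrum R) (x : S)
    (hx : (1 : p.asIdeal.ResidueField) ⊗ₜ[R] x ∈ nonZeroDivisors (p.asIdeal.Fiber S))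
    (hxu : ¬ IsUnit ((1 : p.asIdeal.ResidueField) ⊗ₜ[R] x : p.asIdeal.Fiber S)) :
    ∃ (S' : Type u) (_ : CommRing S') (_ : Algebra R S') (φ : S →ₐ[R] S'),
      Algebra.FiniteType R S' ∧ Module.Flat R S' ∧ Nontrivial (p.asIdeal.Fiber S') ∧
        φ x = 0 ∧ Function.Injective (PrimeSpectrum.comap φ.toRingHom) := by
  classical
  have : IsNoetherianRing S := Algebra.FiniteType.isNoetherianRing R S
  obtain ⟨M, hM, hxM⟩ := Ideal.exists_le_maximal (Ideal.span {(1 : p.asIdeal.ResidueField) ⊗ₜ[R] x})
    (by rwa [Ne, Ideal.span_singleton_eq_top])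
  obtain ⟨⟨q, hq⟩, hQ⟩ : ∃ Q, Q = (PrimeSpectrum.preimageEquivFiber R S p).symm ⟨M, hM.isPrime⟩ :=
    ⟨_, rfl⟩
  have hxq : x ∈ q.asIdeal := by
    have hQ1 : q = ((PrimeSpectrum.preimageEquivFiber R S p).symm ⟨M, hM.isPrime⟩).1 :=
      congrArg Subtype.val hQ
    rw [hQ1]
    exact hxM (Ideal.mem_span_singleton_self _)
  have hqp : q.comap (algebraMap R S) = p := hq
  subst hqp
  set P := (q.comap (algebraMap R S)).asIdeal with hP
  let Sq := Localization.AtPrime q.asIdeal
  let Rp := Localization.AtPrime P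
  let : Algebra Rp Sq := (Localization.localRingHom P q.asIdeal (algebraMap R S) rfl).toAlgebra
  have : IsScalarTower R Rp Sq := IsScalarTower.of_algebraMap_eq fun r =>
    (IsScalarTower.algebraMap_apply R S Sq r).trans
      (Localization.localRingHom_to_map _ _ _ rfl r).symm
  have : IsLocalHom (algebraMap Rp Sq) := Localization.isLocalHom_localRingHom _ _ _ rfl
  have : Module.Flat R Sq := Module.Flat.trans R S Sq
  have : Module.Flat Rp Sq := (Module.flat_iff_of_isLocalization Rp P.primeCompl Sq).mpr ‹_›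
  have hmem : ∀ s ∈ P.map (algebraMap R S),
      algebraMap S Sq s ∈ (IsLocalRing.maximalIdeal Rp).map (algebraMap Rp Sq) := by
    intro s hs
    rw [← Localization.AtPrime.map_eq_maximalIdeal, Ideal.map_map, ← IsScalarTower.algebraMap_eq,
      IsScalarTower.algebraMap_eq R S Sq, ← Ideal.map_map]
    exact Ideal.mem_map_of_mem _ hs
  have hnzd : Ideal.Quotient.mk ((IsLocalRing.maximalIdeal Rp).map (algebraMap Rp Sq))
      (algebraMap S Sq x) ∈ nonZeroDivisors _ := by
    rw [mem_nonZeroDivisors_iff_right]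
    intro a ha
    obtain ⟨a, rfl⟩ := Ideal.Quotient.mk_surjective a
    obtain ⟨a, s, rfl⟩ := IsLocalization.exists_mk'_eq q.asIdeal.primeCompl a
    rw [← map_mul, Ideal.Quotient.eq_zero_iff_mem, ← Localization.AtPrime.map_eq_maximalIdeal,
      Ideal.map_map, ← IsScalarTower.algebraMap_eq, IsScalarTower.algebraMap_eq R S Sq,
      ← Ideal.map_map] at ha
    rw [← IsLocalization.mk'_one (M := q.asIdeal.primeCompl) Sq x, ← IsLocalization.mk'_mul, mul_one,
      IsLocalization.mk'_mem_map_algebraMap_iff] at ha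
    obtain ⟨t, ht, hta⟩ := ha
    have h0 : (1 : P.ResidueField) ⊗ₜ[R] (t * a * x) = 0 := by
      have hker : P.map (algebraMap R S) ≤
          RingHom.ker (Algebra.TensorProduct.includeRight : S →ₐ[R] P.Fiber S).toRingHom := by
        refine Ideal.map_le_iff_le_comap.mpr fun r hr => ?_
        show (1 : P.ResidueField) ⊗ₜ[R] algebraMap R S r = 0
        rw [Algebra.algebraMap_eq_smul_one, ← smul_tmul, ← Algebra.algebraMap_eq_smul_one,
          Ideal.algebraMap_residueField_eq_zero.mpr hr, zero_tmul]
      exact hker (by rwa [mul_assoc])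
    have h1 : (1 : P.ResidueField) ⊗ₜ[R] (t * a) = 0 := by
      refine (mem_nonZeroDivisors_iff_right.mp hx) _ ?_
      rw [Algebra.TensorProduct.tmul_mul_tmul, mul_one, h0]
    obtain ⟨r, hr, hra⟩ := exists_mul_mem_map_of_tmul_eq_zero P h1
    rw [Ideal.Quotient.eq_zero_iff_mem]
    have hu : IsUnit (algebraMap S Sq (algebraMap R S r * t)) :=
      IsLocalization.map_units Sq (⟨_, q.asIdeal.primeCompl.mul_mem
        (show algebraMap R S r ∈ q.asIdeal.primeCompl from hr) ht⟩ : q.asIdeal.primeCompl)
    have h2 := hmem _ hra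
    rw [show algebraMap R S r * (t * a) = algebraMap R S r * t * a from (mul_assoc _ _ _).symm,
      map_mul, Ideal.unit_mul_mem_iff_mem _ hu] at h2
    rw [IsLocalization.mk'_eq_mul_mk'_one]
    exact Ideal.mul_mem_right _ _ h2
  obtain ⟨hflat, -⟩ := Groth.Agent.S0395.result (algebraMap S Sq x) hnzd
  let I := Ideal.span {x}
  have : Module.Flat R (Sq ⧸ Ideal.span {algebraMap S Sq x}) := Module.Flat.trans R Rp _
  have hflatq : Module.Flat R (LocalizedModule q.asIdeal.primeCompl (S ⧸ I)) := by
    have e2 : Ideal.map (algebraMap S Sq) I = Ideal.span {algebraMap S Sq x} := by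
      rw [Ideal.map_span, Set.image_singleton]
    let e := (LocalizedModule.equivTensorProduct q.asIdeal.primeCompl (S ⧸ I)).restrictScalars R
    let e' := ((Algebra.TensorProduct.quotIdealMapEquivTensorQuot Sq I).toLinearEquiv).restrictScalars R
    let e'' := (Ideal.quotientEquivAlgOfEq R e2).toLinearEquiv
    exact Module.Flat.of_linearEquiv ((e.trans e'.symm).trans e'')
  have : Module.Finite S (S ⧸ I) := inferInstance
  have : Module.FinitePresentation S (S ⧸ I) := Module.finitePresentation_of_finite _ _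
  have : Algebra.FinitePresentation R S := Algebra.FinitePresentation.of_finiteType.mp ‹_›
  obtain ⟨_, ⟨g, rfl⟩, hqg, hgsub⟩ :=
    PrimeSpectrum.isTopologicalBasis_basic_opens.isOpen_iff.mp
      (Groth.FlatMorOne.isOpen_flatLocus R S (S ⧸ I)) q hflatq
  let S₁ := S ⧸ I
  let S' := Localization.Away (algebraMap S S₁ g)
  have hS' : Function.Injective (PrimeSpectrum.comap (IsScalarTower.toAlgHom R S S').toRingHom) := by
    show Function.Injective (PrimeSpectrum.comap (algebraMap S S'))
    rw [IsScalarTower.algebraMap_eq S S₁ S', PrimeSpectrum.comap_comp]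
    exact (PrimeSpectrum.comap_injective_of_surjective _ Ideal.Quotient.mk_surjective).comp
      (PrimeSpectrum.localization_comap_injective _ (.powers (algebraMap S S₁ g)))
  refine ⟨S', inferInstance, inferInstance, IsScalarTower.toAlgHom R S S', ?_, ?_, ?_, ?_, hS'⟩
  · have : Algebra.FiniteType R S₁ := inferInstance
    exact Algebra.FiniteType.trans (S := S₁) inferInstance inferInstance
  · refine Groth.FlatMorOne.flat_of_forall_flat_localized (S := S') fun Q => ?_
    let q₁ := Q.comap (algebraMap S₁ S')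
    let q₀ := q₁.comap (algebraMap S S₁)
    have hq₀ : g ∉ q₀.asIdeal := fun h => Q.isPrime.ne_top (Ideal.eq_top_of_isUnit_mem _ h
      (IsLocalization.Away.algebraMap_isUnit (algebraMap S S₁ g)))
    have : Module.Flat R (LocalizedModule q₀.asIdeal.primeCompl S₁) := hgsub hq₀
    let L := Localization.AtPrime Q.asIdeal
    have : IsLocalization.AtPrime L q₁.asIdeal :=
      IsLocalization.isLocalization_isLocalization_atPrime_isLocalization
        (.powers (algebraMap S S₁ g)) L Q.asIdeal
    have hsub : Algebra.algebraMapSubmonoid S₁ q₀.asIdeal.primeCompl = q₁.asIdeal.primeCompl := by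
      ext z
      refine ⟨?_, fun hz => ?_⟩
      · rintro ⟨w, hw, rfl⟩
        exact hw
      · obtain ⟨w, rfl⟩ := Ideal.Quotient.mk_surjective z
        exact ⟨w, hz, rfl⟩
    have : IsLocalization (Algebra.algebraMapSubmonoid S₁ q₀.asIdeal.primeCompl) L := by
      rw [hsub]; infer_instance
    have : IsLocalizedModule q₀.asIdeal.primeCompl (IsScalarTower.toAlgHom S S₁ L).toLinearMap :=
      isLocalizedModule_iff_isLocalization.mpr inferInstance
    have hL : Module.Flat R L := Module.Flat.of_linearEquiv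
      ((IsLocalizedModule.iso q₀.asIdeal.primeCompl
        (IsScalarTower.toAlgHom S S₁ L).toLinearMap).restrictScalars R).symm
    exact hL
  · have hx1 : algebraMap S S₁ g ∉ q.asIdeal.map (algebraMap S S₁) := fun h => hqg (by
      have : g ∈ (q.asIdeal.map (Ideal.Quotient.mk I)).comap (Ideal.Quotient.mk I) := h
      rwa [Ideal.comap_map_of_surjective _ Ideal.Quotient.mk_surjective, ← RingHom.ker_eq_comap_bot,
        Ideal.mk_ker, sup_of_le_left ((Ideal.span_singleton_le_iff_mem _).mpr hxq)] at this)
    obtain ⟨q₁, hq₁⟩ : q ∈ Set.range (PrimeSpectrum.comap (algebraMap S S₁)) := by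
      show q ∈ Set.range (PrimeSpectrum.comap (Ideal.Quotient.mk I))
      rw [range_comap_of_surjective _ _ Ideal.Quotient.mk_surjective, Ideal.mk_ker]
      exact (Ideal.span_singleton_le_iff_mem _).mpr hxq
    have hg₁ : algebraMap S S₁ g ∉ q₁.asIdeal := by
      rw [← hq₁] at hqg
      exact hqg
    obtain ⟨Q, hQ⟩ := (PrimeSpectrum.localization_away_comap_range S' (algebraMap S S₁ g)).ge hg₁
    have hQp : Q.comap (algebraMap R S') = q.comap (algebraMap R S) := by
      rw [← hq₁, ← hQ, IsScalarTower.algebraMap_eq R S₁ S', IsScalarTower.algebraMap_eq R S S₁,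
        PrimeSpectrum.comap_comp, PrimeSpectrum.comap_comp]
      rfl
    exact (PrimeSpectrum.preimageEquivFiber R S' _ ⟨Q, hQp⟩).nontrivial
  · show algebraMap S S' x = 0
    have h0 : algebraMap S S₁ x = 0 :=
      Ideal.Quotient.eq_zero_iff_mem.mpr (Ideal.mem_span_singleton_self x)
    rw [IsScalarTower.algebraMap_apply S S₁ S', h0, map_zero]

/-- Through every prime of a Noetherian base in the image of a flat algebra of finite type there is a
quasi-finite flat algebra under it. -/
theorem exists_quasiFinite_flat_point (p : PrimeSpectrum R) :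
    ∀ (n : ℕ) (S : Type u) [CommRing S] [Algebra R S] [Algebra.FiniteType R S] [Module.Flat R S]
      [Nontrivial (p.asIdeal.Fiber S)], ringKrullDim (p.asIdeal.Fiber S) ≤ n →
      ∃ (S' : Type u) (_ : CommRing S') (_ : Algebra R S'),
        Algebra.FiniteType R S' ∧ Module.Flat R S' ∧ Algebra.QuasiFinite R S' ∧
          Nontrivial (p.asIdeal.Fiber S') ∧ Nonempty (S →ₐ[R] S') := by
  intro n
  induction n with
  | zero =>
    intro S _ _ _ _ _ hdim
    obtain ⟨g, hqf, hnt⟩ := exists_quasiFinite_away p (hdim.trans_eq Nat.cast_zero)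
    exact ⟨Localization.Away g, inferInstance, inferInstance,
      Algebra.FiniteType.trans (S := S) inferInstance inferInstance,
      Module.Flat.trans R S _, hqf, hnt, ⟨IsScalarTower.toAlgHom R S _⟩⟩
  | succ n ih =>
    intro S _ _ _ _ _ hdim
    by_cases h0 : ringKrullDim (p.asIdeal.Fiber S) ≤ 0
    · exact ih S (h0.trans (Nat.cast_nonneg n))
    obtain ⟨f, hf, hfu⟩ := Groth.Agent.S9598.result (k := p.asIdeal.ResidueField)
      (S := p.asIdeal.Fiber S) (not_le.mp h0)
    obtain ⟨s, hs, x, hsx⟩ := Ideal.Fiber.exists_smul_eq_one_tmul p.asIdeal f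
    have hu : IsUnit (algebraMap R (p.asIdeal.Fiber S) s) := by
      rw [IsScalarTower.algebraMap_apply R p.asIdeal.ResidueField]
      exact (isUnit_iff_ne_zero.mpr fun h => hs
        (Ideal.algebraMap_residueField_eq_zero.mp h)).map _
    rw [Algebra.smul_def] at hsx
    obtain ⟨S', _, _, φ, hft, hfl, hnt, hφ, hinj⟩ := exists_flat_slice p x
      (hsx ▸ mul_mem hu.mem_nonZeroDivisors hf)
      (fun h => hfu (by rw [← hsx] at h; exact isUnit_of_mul_isUnit_right h))
    let ψ : p.asIdeal.Fiber S →ₐ[p.asIdeal.ResidueField] p.asIdeal.Fiber S' :=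
      Algebra.TensorProduct.map (AlgHom.id _ _) φ
    have hψ : ∀ P : PrimeSpectrum (p.asIdeal.Fiber S'),
        ((PrimeSpectrum.preimageEquivFiber R S p).symm (P.comap ψ.toRingHom)).1 =
          ((PrimeSpectrum.preimageEquivFiber R S' p).symm P).1.comap φ.toRingHom := by
      intro P
      apply PrimeSpectrum.ext
      show (P.asIdeal.comap ψ.toRingHom).comap Algebra.TensorProduct.includeRight.toRingHom =
        (P.asIdeal.comap Algebra.TensorProduct.includeRight.toRingHom).comap φ.toRingHom
      rw [Ideal.comap_comap, Ideal.comap_comap]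
      rfl
    have hψinj : Function.Injective (PrimeSpectrum.comap ψ.toRingHom) := fun P P' h =>
      (PrimeSpectrum.preimageEquivFiber R S' p).symm.injective
        (Subtype.ext (hinj (by rw [← hψ, ← hψ, h])))
    have hmem : ∀ P, PrimeSpectrum.comap ψ.toRingHom P ∈ PrimeSpectrum.zeroLocus
        (Ideal.span {(1 : p.asIdeal.ResidueField) ⊗ₜ[R] x} : Set (p.asIdeal.Fiber S)) := by
      intro P
      rw [PrimeSpectrum.mem_zeroLocus, SetLike.coe_subset_coe, Ideal.span_singleton_le_iff_mem]
      show ψ (1 ⊗ₜ[R] x) ∈ P.asIdeal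
      simp [ψ, hφ]
    have h1 : ringKrullDim (p.asIdeal.Fiber S') + 1 ≤ (n + 1 : ℕ) := by
      refine le_trans ?_ ((ringKrullDim_quotient_succ_le_of_nonZeroDivisor
        (hsx ▸ mul_mem hu.mem_nonZeroDivisors hf :
          (1 : p.asIdeal.ResidueField) ⊗ₜ[R] x ∈ nonZeroDivisors _)).trans hdim)
      gcongr
      rw [ringKrullDim_quotient]
      exact Order.krullDim_le_of_strictMono (fun P => ⟨_, hmem P⟩)
        (Monotone.strictMono_of_injective (fun P P' hle => Ideal.comap_mono hle)
          fun P P' h => hψinj (congrArg Subtype.val h))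
    obtain ⟨S'', _, _, h⟩ := ih S' (by
      revert h1
      generalize ringKrullDim (p.asIdeal.Fiber S') = d
      induction d using WithBot.recBotCoe with
      | bot => exact fun _ => bot_le
      | coe d =>
        intro h1
        have h2 : d + 1 ≤ ((n + 1 : ℕ) : ℕ∞) := by exact_mod_cast h1
        rw [Nat.cast_succ, ENat.add_le_add_iff_right ENat.one_ne_top] at h2
        exact_mod_cast h2)
    obtain ⟨χ⟩ := h.2.2.2.2
    exact ⟨S'', _, _, h.1, h.2.1, h.2.2.1, h.2.2.2.1, ⟨χ.comp φ⟩⟩

/-- Through every prime there is a quasi-finite flat finite type algebra under a flat one. -/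
theorem exists_quasiFinite_flat_point' (p : PrimeSpectrum R) (S : Type u) [CommRing S] [Algebra R S]
    [Algebra.FiniteType R S] [Module.Flat R S] [Nontrivial (p.asIdeal.Fiber S)] :
      ∃ (S' : Type u) (_ : CommRing S') (_ : Algebra R S'),
        Algebra.FiniteType R S' ∧ Module.Flat R S' ∧ Algebra.QuasiFinite R S' ∧
          Nontrivial (p.asIdeal.Fiber S') ∧ Nonempty (S →ₐ[R] S') := by
  obtain ⟨m, π, hπ⟩ := Algebra.FiniteType.iff_quotient_mvPolynomial''.mp
    (inferInstance : Algebra.FiniteType p.asIdeal.ResidueField (p.asIdeal.Fiber S))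
  refine exists_quasiFinite_flat_point p m S ((ringKrullDim_le_of_surjective π.toRingHom hπ).trans ?_)
  rw [MvPolynomial.ringKrullDim_of_isNoetherianRing, ringKrullDim_eq_zero_of_field, zero_add, Nat.card_fin]

end Groth.Calg4
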