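import Mathlib
import Groth.Prelude.Def_Found
import Groth.Prelude.Def_CAlgX
import Groth.Agent.Ega41Adic.RegularOfSmooth

/-!
Adic formal smoothness of `A_p → B_q` passes to the localized base changes over fields.
-/

set_option autoImplicit false

universe u

open TensorProduct IsLocalRing

namespace Groth.Calg4

/-- If `A_p → B_q` is formally smooth for the adic topology, so is `L → (L ⊗ B)_P` for every field `L`
over `A` and every prime `P` over `q`. -/
theorem isAdicFormallySmooth_tensor_localization {A B : Type u} [CommRing A] [CommRing B] [Algebra A B]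
    (q : Ideal B) [q.IsPrime]
    (hfs : letI := (Localization.localRingHom (Ideal.comap (algebraMap A B) q) q (algebraMap A B) rfl).toAlgebra
      CAlgX.IsAdicFormallySmooth (Localization.AtPrime (Ideal.comap (algebraMap A B) q))
        (Localization.AtPrime q) (maximalIdeal (Localization.AtPrime q)))
    (L : Type u) [Field L] [Algebra A L] (P : Ideal (L ⊗[A] B)) [P.IsPrime]
    (hP : P.comap (Algebra.TensorProduct.includeRight (R := A) (A := L) (B := B)).toRingHom = q) :
    CAlgX.IsAdicFormallySmooth L (Localization.AtPrime P) (maximalIdeal (Localization.AtPrime P)) := by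
  intro C _ _ J hJ ψ hψ
  obtain ⟨k, hk⟩ := hψ
  let inc := (Algebra.TensorProduct.includeRight (R := A) (A := L) (B := B)).toRingHom
  let p := Ideal.comap (algebraMap A B) q
  let fpq := Localization.localRingHom p q (algebraMap A B) rfl
  let : Algebra (Localization.AtPrime p) (Localization.AtPrime q) := fpq.toAlgebra
  let : Algebra A C := ((algebraMap L C).comp (algebraMap A L)).toAlgebra
  have : IsScalarTower A L C := IsScalarTower.of_algebraMap_eq fun _ => rfl
  have hinc : ∀ a : A, inc (algebraMap A B a) = algebraMap L (L ⊗[A] B) (algebraMap A L a) := fun a =>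
    (Algebra.TensorProduct.includeRight (R := A) (A := L) (B := B)).commutes a
  have hunit : ∀ y : p.primeCompl, IsUnit (algebraMap A C y) := fun y => by
    refine RingHom.isUnit_map (algebraMap L C) (isUnit_iff_ne_zero.mpr fun h0 => y.2 ?_)
    change algebraMap A B (y : A) ∈ q
    refine (SetLike.ext_iff.mp hP _).mp ?_
    rw [Ideal.mem_comap]
    have := hinc (y : A)
    rw [h0, map_zero] at this
    exact this ▸ P.zero_mem
  let : Algebra (Localization.AtPrime p) C :=
    (IsLocalization.lift (M := p.primeCompl) (g := algebraMap A C) hunit).toAlgebra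
  have : IsScalarTower A (Localization.AtPrime p) C := IsScalarTower.of_algebraMap_eq fun a =>
    (IsLocalization.lift_eq hunit a).symm
  let ι : Localization.AtPrime q →+* Localization.AtPrime P :=
    Localization.localRingHom q P inc hP.symm
  have hι : ∀ b : B, ι (algebraMap B (Localization.AtPrime q) b) =
      algebraMap (L ⊗[A] B) (Localization.AtPrime P) (inc b) := fun b =>
    Localization.localRingHom_to_map _ _ _ _ b
  let ψ₀ : Localization.AtPrime q →ₐ[Localization.AtPrime p] C ⧸ J :=
    { ψ.toRingHom.comp ι with
      commutes' := by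
        intro x
        refine RingHom.congr_fun (?_ : (ψ.toRingHom.comp ι).comp fpq =
          algebraMap (Localization.AtPrime p) (C ⧸ J)) x
        refine IsLocalization.ringHom_ext p.primeCompl (RingHom.ext fun a => ?_)
        simp only [RingHom.comp_apply, fpq, Localization.localRingHom_to_map, hι, hinc]
        rw [← IsScalarTower.algebraMap_apply L (L ⊗[A] B) (Localization.AtPrime P)]
        refine (ψ.commutes _).trans ?_
        rw [← IsScalarTower.algebraMap_apply A (Localization.AtPrime p) (C ⧸ J),
          IsScalarTower.algebraMap_apply L C (C ⧸ J), IsScalarTower.algebraMap_apply A C (C ⧸ J)]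
        rfl }
  have hloc : IsLocalHom ι := Localization.isLocalHom_localRingHom q P inc hP.symm
  obtain ⟨χ, hχ⟩ := hfs C J hJ ψ₀ ⟨k, fun x hx => hk (ι x) (by
    have hle : (maximalIdeal (Localization.AtPrime q)).map ι ≤ maximalIdeal (Localization.AtPrime P) :=
      Ideal.map_le_iff_le_comap.mpr fun z hz => map_nonunit ι z hz
    have h1 := Ideal.mem_map_of_mem ι hx
    rw [Ideal.map_pow] at h1
    exact Ideal.pow_right_mono hle k h1)⟩
  let χB : B →ₐ[A] C :=
    { χ.toRingHom.comp (algebraMap B (Localization.AtPrime q)) with
      commutes' := fun a => by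
        have h1 : algebraMap B (Localization.AtPrime q) (algebraMap A B a) =
            algebraMap (Localization.AtPrime p) (Localization.AtPrime q)
              (algebraMap A (Localization.AtPrime p) a) :=
          (Localization.localRingHom_to_map p q (algebraMap A B) rfl a).symm
        change χ (algebraMap B _ (algebraMap A B a)) = _
        rw [h1, χ.commutes, ← IsScalarTower.algebraMap_apply] }
  let h : L ⊗[A] B →ₐ[L] C := Algebra.TensorProduct.lift (Algebra.ofId L C) χB fun _ _ => .all _ _
  have hcomp : (Ideal.Quotient.mkₐ L J).comp h =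
      ψ.comp (IsScalarTower.toAlgHom L (L ⊗[A] B) (Localization.AtPrime P)) := by
    refine Algebra.TensorProduct.ext (AlgHom.ext fun l => ?_) (AlgHom.ext fun b => ?_)
    · exact ((Ideal.Quotient.mkₐ L J).comp h).commutes l |>.trans
        ((ψ.comp (IsScalarTower.toAlgHom L (L ⊗[A] B) (Localization.AtPrime P))).commutes l).symm
    · have := AlgHom.congr_fun hχ (algebraMap B (Localization.AtPrime q) b)
      simpa [h, χB, ψ₀, hι, inc] using this
  have hnil : IsNilpotent J := ⟨2, hJ⟩
  have hu : ∀ y : P.primeCompl, IsUnit (h y) := fun y => by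
    rw [← hnil.isUnit_quotient_mk_iff]
    exact (AlgHom.congr_fun hcomp (y : L ⊗[A] B)).symm ▸
      (IsLocalization.map_units (Localization.AtPrime P) y).map ψ
  refine ⟨IsLocalization.liftAlgHom (M := P.primeCompl) (f := h) hu, ?_⟩
  refine IsLocalization.algHom_ext P.primeCompl (AlgHom.ext fun z => ?_)
  refine Eq.trans ?_ (AlgHom.congr_fun hcomp z)
  exact congrArg (Ideal.Quotient.mk J) (IsLocalization.lift_eq hu z)

/-- In that situation, `(L ⊗ B)_P` is regular when Noetherian. -/
theorem isRegularLocalRing_tensor_localization {A B : Type u} [CommRing A] [CommRing B] [Algebra A B]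
    (q : Ideal B) [q.IsPrime]
    (hfs : letI := (Localization.localRingHom (Ideal.comap (algebraMap A B) q) q (algebraMap A B) rfl).toAlgebra
      CAlgX.IsAdicFormallySmooth (Localization.AtPrime (Ideal.comap (algebraMap A B) q))
        (Localization.AtPrime q) (maximalIdeal (Localization.AtPrime q)))
    (L : Type u) [Field L] [Algebra A L] [IsNoetherianRing (L ⊗[A] B)]
    (P : Ideal (L ⊗[A] B)) [P.IsPrime]
    (hP : P.comap (Algebra.TensorProduct.includeRight (R := A) (A := L) (B := B)).toRingHom = q) :
    IsRegularLocalRing (Localization.AtPrime P) :=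
  Groth.Ega41Adic.isRegularLocalRing_of_isAdicFormallySmooth
    (isAdicFormallySmooth_tensor_localization q hfs L P hP)

end Groth.Calg4
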