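import Mathlib
import Groth.Prelude.Def_Found
import Groth.Agent.Calg4.RegularHom
import Groth.Agent.Calg4.SmoothRegularField
import Groth.Agent.PropsBasic.LociBaseChange.Alg

/-!
Regular maps versus smooth maps for algebras of finite type.
-/

set_option autoImplicit false

universe u

open TensorProduct

namespace Groth.Calg4

/-- A geometrically regular algebra of finite type over a field is smooth. -/
theorem smooth_of_isGeometricallyRegular {k : Type u} [Field k] {S : Type u} [CommRing S]
    [Algebra k S] [Algebra.FiniteType k S] (h : CAlg.IsGeometricallyRegular k S) :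
    Algebra.Smooth k S := by
  have : Algebra.FinitePresentation k S := Algebra.FinitePresentation.of_finiteType.mp inferInstance
  have hmax : ∀ (m : Ideal S) [m.IsMaximal], Algebra.IsSmoothAt k m := by
    intro m _
    let : Field (S ⧸ m) := Ideal.Quotient.field m
    have : IsJacobsonRing S := isJacobsonRing_of_finiteType (A := k)
    have : Module.Finite k (S ⧸ m) := finite_of_finite_type_of_isJacobsonRing k (S ⧸ m)
    have := h (S ⧸ m) this
    let ψ : (S ⧸ m) ⊗[k] S →ₐ[S ⧸ m] S ⧸ m :=
      Algebra.TensorProduct.lift (AlgHom.id _ _) (Ideal.Quotient.mkₐ k m) fun _ _ => .all _ _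
    have hψ : Function.Surjective ψ := fun x => ⟨x ⊗ₜ 1, by simp [ψ]⟩
    let Q := RingHom.ker ψ.toRingHom
    have : Q.IsMaximal := RingHom.ker_isMaximal_of_surjective ψ.toRingHom hψ
    have hbij : Function.Bijective (algebraMap (S ⧸ m) Q.ResidueField) := by
      refine ⟨RingHom.injective _, fun x => ?_⟩
      obtain ⟨t, rfl⟩ := Q.algebraMap_residueField_surjective x
      refine ⟨ψ t, ?_⟩
      rw [IsScalarTower.algebraMap_apply (S ⧸ m) ((S ⧸ m) ⊗[k] S) Q.ResidueField,
        eq_comm, ← sub_eq_zero, ← map_sub, Ideal.algebraMap_residueField_eq_zero]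
      simp [Q, RingHom.mem_ker, ψ]
    have : Algebra.FormallySmooth (S ⧸ m) Q.ResidueField :=
      Algebra.FormallySmooth.of_equiv (AlgEquiv.ofBijective (Algebra.ofId (S ⧸ m) Q.ResidueField) hbij)
    have : Algebra.IsSmoothAt (S ⧸ m) Q := isSmoothAt_of_isRegularLocalRing Q
    have h2 := Groth.PropsBasic.Loci.isSmoothAt_of_tensorProduct (R := k) (S := S)
      (T := S ⧸ m) Q
    have hcomap : Q.comap (Algebra.TensorProduct.includeRight (R := k) (A := S ⧸ m) (B := S)).toRingHom = m := by
      ext s
      simp [Q, RingHom.mem_ker, ψ, Ideal.Quotient.eq_zero_iff_mem]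
    convert h2 using 2
    exact hcomap.symm
  suffices Algebra.smoothLocus k S = Set.univ from
    ⟨Algebra.smoothLocus_eq_univ_iff.mp this, inferInstance⟩
  refine Set.eq_univ_of_forall fun q => ?_
  obtain ⟨m, hm, hqm⟩ := Ideal.exists_le_maximal q.asIdeal q.2.ne_top
  exact ((PrimeSpectrum.le_iff_specializes q ⟨m, hm.isPrime⟩).mp hqm).mem_open
    Algebra.isOpen_smoothLocus (hmax m)

/-- Smooth maps are regular. -/
theorem isRegularHom_of_smooth (A B : Type u) [CommRing A] [CommRing B] [Algebra A B]
    [Algebra.Smooth A B] : CAlg.IsRegularHom A B :=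
  isRegularHom_of_isRegularRing_tensor inferInstance fun L _ _ _ =>
    Groth.Agent.S9408.isRegularRing_of_smooth L (L ⊗[A] B)

/-- For a finite type regular map, all base changes to fields are regular. -/
theorem IsRegularHom.isRegularRing_tensor_of_finiteType {A B : Type u} [CommRing A] [CommRing B]
    [Algebra A B] [Algebra.FiniteType A B] (h : CAlg.IsRegularHom A B) (L : Type u) [Field L]
    [Algebra A L] : IsRegularRing (L ⊗[A] B) := by
  let p := RingHom.ker (algebraMap A L)
  have : p.IsPrime := RingHom.ker_isPrime _
  let φ : p.ResidueField →+* L := Ideal.ResidueField.lift p (algebraMap A L) le_rfl fun a ha =>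
    isUnit_iff_ne_zero.mpr fun h0 => ha h0
  let : Algebra p.ResidueField L := φ.toAlgebra
  have : IsScalarTower A p.ResidueField L := IsScalarTower.of_algebraMap_eq fun a =>
    (Ideal.ResidueField.lift_algebraMap p (algebraMap A L) le_rfl _ a).symm
  have : Algebra.Smooth p.ResidueField (p.Fiber B) := smooth_of_isGeometricallyRegular (h.2 p).2
  have := Groth.Agent.S9408.isRegularRing_of_smooth L (L ⊗[p.ResidueField] p.Fiber B)
  exact IsRegularRing.of_ringEquiv
    (Algebra.TensorProduct.cancelBaseChange A p.ResidueField p.ResidueField L B).toRingEquiv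

/-- Regular maps of finite type are stable under arbitrary base change. -/
theorem IsRegularHom.baseChange_of_finiteType {A B : Type u} [CommRing A] [CommRing B] [Algebra A B]
    [Algebra.FiniteType A B] (h : CAlg.IsRegularHom A B) (A' : Type u) [CommRing A'] [Algebra A A'] :
    CAlg.IsRegularHom A' (A' ⊗[A] B) := by
  have := h.1
  refine isRegularHom_of_isRegularRing_tensor inferInstance fun L _ _ _ => ?_
  let : Algebra A L := ((algebraMap A' L).comp (algebraMap A A')).toAlgebra
  have : IsScalarTower A A' L := IsScalarTower.of_algebraMap_eq fun _ => rfl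
  have := IsRegularHom.isRegularRing_tensor_of_finiteType h L
  exact IsRegularRing.of_ringEquiv
    (Algebra.TensorProduct.cancelBaseChange A A' A' L B).toRingEquiv.symm

end Groth.Calg4
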