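import Mathlib
import Groth.Agent.FlatMorOne.FlatnessCriteria
import Groth.Agent.FlatMorOne.FlatLocusOpen
import Groth.Agent.Misc6.FlatInj
import Groth.Agent.RelS1H.Fibre

/-!
Slicing at a point: an element regular on the fibre at a prime, over an arbitrary base.
-/

set_option autoImplicit false

universe u

open TensorProduct Groth.RelS1H

namespace Groth.Calg4

attribute [local instance] Algebra.TensorProduct.rightAlgebra

section Noeth

variable {A B M : Type u} [CommRing A] [CommRing B] [Algebra A B] [IsNoetherianRing A] [IsNoetherianRing B]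
  [AddCommGroup M] [Module B M] [Module A M] [IsScalarTower A B M] [Module.Finite B M]

/-- Noetherian slicing at a prime. -/
theorem slice_noetherian (a : B) (q : Ideal B) [q.IsPrime] (p : Ideal A) [p.IsPrime]
    (hp : p = q.comap (algebraMap A B)) [Module.Flat A (LocalizedModule q.primeCompl M)]
    (h : IsSMulRegular (LocalizedModule q.primeCompl (M ⊗[A] p.ResidueField)) a) :
    (∀ (N : Type u) [AddCommGroup N] [Module A N] (z : M ⊗[A] N),
        (smulHom (M := M) A a).rTensor N z = 0 → ∃ s ∉ q, s • z = 0) ∧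
      Module.Flat A (LocalizedModule q.primeCompl (M ⧸ LinearMap.range (LinearMap.lsmul B M a))) := by
  let Al := Localization.AtPrime p
  let Bl := Localization.AtPrime q
  let φ : Al →+* Bl := Localization.localRingHom p q (algebraMap A B) hp
  letI : Algebra Al Bl := φ.toAlgebra
  haveI : IsLocalHom (algebraMap Al Bl) := Localization.isLocalHom_localRingHom p q (algebraMap A B) hp
  let L := LocalizedModule q.primeCompl M
  letI : Module Al L := Module.compHom L φ
  haveI : IsScalarTower Al Bl L := IsScalarTower.of_algebraMap_smul fun _ _ => rfl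
  haveI : IsScalarTower A Al L := IsScalarTower.of_algebraMap_smul fun r x => by
    show φ (algebraMap A Al r) • x = r • x
    rw [show φ (algebraMap A Al r) = algebraMap B Bl (algebraMap A B r) from
      Localization.localRingHom_to_map p q _ hp r, algebraMap_smul, algebraMap_smul]
  let i : M →ₗ[B] L := LocalizedModule.mkLinearMap q.primeCompl M
  haveI : Module.Flat Al L := (Module.flat_iff_of_isLocalization Al p.primeCompl L).2 ‹_›
  haveI : Module.Finite Bl L := inferInstance
  let u : L →ₗ[Al] L := (LinearMap.lsmul Bl L (algebraMap B Bl a)).restrictScalars Al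
  have hu : ∀ x, u x = a • x := fun x => algebraMap_smul Bl a x
  have hK : Function.Injective ((smulHom (M := L) A a).rTensor p.ResidueField) := by
    let ik := AlgebraTensorModule.rTensor A p.ResidueField i
    let e := IsLocalizedModule.iso q.primeCompl ik
    have hs : ∀ z, (smulHom (M := L) A a).rTensor p.ResidueField z = a • z := fun z => by
      induction z with
      | zero => simp
      | tmul m c => simp [smul_tmul']
      | add x y hx hy => rw [map_add, hx, hy, smul_add]
    intro x y hxy
    rw [hs, hs] at hxy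
    refine e.symm.injective (h (?_ : a • e.symm x = a • e.symm y))
    rw [← map_smul, ← map_smul, hxy]
  have hK' : Function.Injective (u.lTensor (IsLocalRing.ResidueField Al)) := by
    haveI : CompatibleSMul A Al (IsLocalRing.ResidueField Al) L :=
      IsLocalization.tensorProduct_compatibleSMul p.primeCompl Al _ _
    let e : IsLocalRing.ResidueField Al ⊗[Al] L ≃ₗ[A] L ⊗[A] p.ResidueField :=
      (TensorProduct.equivOfCompatibleSMul A Al A (IsLocalRing.ResidueField Al) L).trans (TensorProduct.comm A _ _)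
    have he : ∀ z, e (u.lTensor _ z) = (smulHom (M := L) A a).rTensor p.ResidueField (e z) := fun z => by
      induction z with
      | zero => simp
      | tmul c m => simp only [e, LinearEquiv.trans_apply, LinearMap.lTensor_tmul, hu]; rfl
      | add x y hx hy => simp only [map_add, hx, hy]
    intro x y hxy
    exact e.injective (hK (by rw [← he, ← he, hxy]))
  obtain ⟨hinj, hflat⟩ := Groth.FlatMorOne.injective_and_flat_coker Bl u hK'
  haveI : Module.Flat A (L ⧸ LinearMap.range u) := Module.Flat.trans A Al _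
  refine ⟨fun N _ _ z hz => ?_, ?_⟩
  · have hN : Function.Injective ((u.restrictScalars A).lTensor N) :=
      Groth.Misc6.flatInj N (u.restrictScalars A) ((LinearMap.range u).mkQ.restrictScalars A) hinj
        (LinearMap.exact_map_mkQ_range u) (Submodule.mkQ_surjective _)
    have hN' : Function.Injective ((u.restrictScalars A).rTensor N) :=
      (LinearMap.lTensor_inj_iff_rTensor_inj N _).1 hN
    have h0 : (u.restrictScalars A).rTensor N (AlgebraTensorModule.rTensor A N i z) = 0 := by
      have e : ∀ z, (u.restrictScalars A).rTensor N (AlgebraTensorModule.rTensor A N i z) =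
          AlgebraTensorModule.rTensor A N i ((smulHom (M := M) A a).rTensor N z) := fun z => by
        induction z with
        | zero => simp
        | tmul m c => simp [hu, i]
        | add x y hx hy => simp only [map_add, hx, hy]
      rw [e, hz, map_zero]
    obtain ⟨s, hs⟩ := (IsLocalizedModule.eq_zero_iff q.primeCompl (AlgebraTensorModule.rTensor A N i)).1
      (hN' (h0.trans (map_zero _).symm))
    exact ⟨s, s.2, hs⟩
  · let R₁ := LinearMap.range (LinearMap.lsmul B M a)
    let e1 := (localizedQuotientEquiv q.primeCompl R₁).restrictScalars A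
    have e2 : (R₁.localized q.primeCompl).restrictScalars A = (LinearMap.range u).restrictScalars A := by
      ext x
      simp only [Submodule.restrictScalars_mem, Submodule.mem_localized', LinearMap.mem_range]
      constructor
      · rintro ⟨_, ⟨m, rfl⟩, s, rfl⟩
        refine ⟨IsLocalizedModule.mk' i m s, ?_⟩
        rw [hu, ← IsLocalizedModule.mk'_smul]
        rfl
      · rintro ⟨y, rfl⟩
        obtain ⟨⟨m, s⟩, rfl⟩ := IsLocalizedModule.mk'_surjective q.primeCompl i y
        exact ⟨a • m, ⟨m, rfl⟩, s, by rw [hu]; exact IsLocalizedModule.mk'_smul i a m s⟩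
    let e3 := ((Submodule.Quotient.restrictScalarsEquiv A (R₁.localized q.primeCompl)).symm.trans
      (Submodule.quotEquivOfEq _ _ e2)).trans
        (Submodule.Quotient.restrictScalarsEquiv A (LinearMap.range u))
    exact Module.Flat.of_linearEquiv (e1.symm.trans e3)

end Noeth

/-- An element killed on a fibre after base change is killed before. -/
theorem exists_notMem_smul_eq_zero_of_baseChange {A₀ A T B M₀ M : Type u} [CommRing A₀] [CommRing A]
    [Algebra A₀ A] [CommRing T] [Algebra A₀ T] [CommRing B] [Algebra A B] [Algebra A₀ B]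
    [IsScalarTower A₀ A B] [AddCommGroup M₀] [Module A₀ M₀] [Module T M₀] [IsScalarTower A₀ T M₀]
    [AddCommGroup M] [Module B M] [Module A M] [IsScalarTower A B M] [Module A₀ M] [IsScalarTower A₀ A M]
    (σ : T →ₐ[A₀] B) {β : M₀ →ₗ[A₀] M} (hβ : IsBaseChange A β) (hsmul : ∀ (s : T) x, β (s • x) = σ s • β x)
    (hgen : ∀ b : B, ∃ (n : ℕ) (c : Fin n → A) (s : Fin n → T), b = ∑ i, algebraMap A B (c i) * σ (s i))
    (q : Ideal B) [q.IsPrime] (p : Ideal A) [p.IsPrime] (hp : p = q.comap (algebraMap A B))
    (p₀ : Ideal A₀) [p₀.IsPrime] (hp₀ : p₀ = p.comap (algebraMap A₀ A))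
    (m : M₀) (t : B) (ht : t ∉ q) (h0 : t • (β m ⊗ₜ[A] (1 : p.ResidueField)) = 0) :
    ∃ u ∉ q.comap σ.toRingHom, u • (m ⊗ₜ[A₀] (1 : p₀.ResidueField)) = 0 := by
  classical
  by_contra hc
  push Not at hc
  have hJ : ∀ u : T, u • (m ⊗ₜ[A₀] (1 : p₀.ResidueField)) = 0 → σ u ∈ q := fun u hu => by
    by_contra h
    exact hc u h hu
  subst hp hp₀
  set p := q.comap (algebraMap A B)
  set p₀ := p.comap (algebraMap A₀ A)
  let : Algebra p₀.ResidueField p.ResidueField :=
    (Ideal.ResidueField.map p₀ p (algebraMap A₀ A) rfl).toAlgebra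
  have : IsScalarTower A₀ p₀.ResidueField p.ResidueField := IsScalarTower.of_algebraMap_eq fun r => by
    rw [IsScalarTower.algebraMap_apply A₀ A p.ResidueField]
    exact (Ideal.ResidueField.map_algebraMap p₀ p (algebraMap A₀ A) rfl r).symm
  let K := q.ResidueField
  let : Algebra p.ResidueField K := (Ideal.ResidueField.map p q (algebraMap A B) rfl).toAlgebra
  have : IsScalarTower A p.ResidueField K := IsScalarTower.of_algebraMap_eq fun r => by
    rw [IsScalarTower.algebraMap_apply A B K]
    exact (Ideal.ResidueField.map_algebraMap p q (algebraMap A B) rfl r).symm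
  let : Algebra p₀.ResidueField K :=
    ((algebraMap p.ResidueField K).comp (algebraMap p₀.ResidueField p.ResidueField)).toAlgebra
  have : IsScalarTower p₀.ResidueField p.ResidueField K := IsScalarTower.of_algebraMap_eq fun _ => rfl
  have : IsScalarTower A₀ p₀.ResidueField K := IsScalarTower.of_algebraMap_eq fun r => by
    rw [IsScalarTower.algebraMap_apply p₀.ResidueField p.ResidueField K,
      ← IsScalarTower.algebraMap_apply A₀ p₀.ResidueField p.ResidueField,
      IsScalarTower.algebraMap_apply A₀ A p.ResidueField, ← IsScalarTower.algebraMap_apply A p.ResidueField K,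
      ← IsScalarTower.algebraMap_apply A₀ A K]
  let G := p₀.ResidueField ⊗[A₀] M₀
  let φ : p₀.ResidueField ⊗[A₀] T →ₗ[p₀.ResidueField] G :=
    AlgebraTensorModule.lTensor p₀.ResidueField p₀.ResidueField
      ((LinearMap.toSpanSingleton T M₀ m).restrictScalars A₀)
  let η : p₀.ResidueField ⊗[A₀] T →ₗ[p₀.ResidueField] K :=
    (Algebra.TensorProduct.lift (Algebra.ofId p₀.ResidueField K)
      ((IsScalarTower.toAlgHom A₀ B K).comp σ) fun _ _ => .all _ _).toLinearMap
  have hker : LinearMap.ker φ ≤ LinearMap.ker η := by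
    intro x hx
    obtain ⟨r, hr, u, hru⟩ := Ideal.Fiber.exists_smul_eq_one_tmul p₀ (S := T) x
    have hu0 : u • (m ⊗ₜ[A₀] (1 : p₀.ResidueField)) = 0 := by
      apply (TensorProduct.comm A₀ M₀ p₀.ResidueField).injective
      rw [map_zero, TensorProduct.smul_tmul', TensorProduct.comm_tmul]
      calc (1 : p₀.ResidueField) ⊗ₜ[A₀] (u • m) = φ ((1 : p₀.ResidueField) ⊗ₜ[A₀] u) := rfl
        _ = φ (r • x) := by rw [hru]
        _ = 0 := by rw [LinearMap.map_smul_of_tower, LinearMap.mem_ker.mp hx, smul_zero]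
    have h1 : η (r • x) = 0 := by
      rw [hru]
      show (algebraMap p₀.ResidueField K) 1 * algebraMap B K (σ u) = 0
      rw [map_one, one_mul, Ideal.algebraMap_residueField_eq_zero]
      exact hJ u hu0
    rw [LinearMap.map_smul_of_tower, Algebra.smul_def] at h1
    refine LinearMap.mem_ker.mpr ((mul_eq_zero.mp h1).resolve_left fun h => hr ?_)
    rw [IsScalarTower.algebraMap_apply A₀ p₀.ResidueField K, map_eq_zero,
      Ideal.algebraMap_residueField_eq_zero] at h
    exact h
  obtain ⟨ψ, hψ⟩ := LinearMap.exists_extend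
    (((LinearMap.ker φ).liftQ η hker).comp φ.quotKerEquivRange.symm.toLinearMap)
  have hψ' : ∀ u : T, ψ ((1 : p₀.ResidueField) ⊗ₜ[A₀] (u • m)) = algebraMap B K (σ u) := by
    intro u
    have h2 := LinearMap.congr_fun hψ ⟨φ ((1 : p₀.ResidueField) ⊗ₜ[A₀] u), LinearMap.mem_range_self _ _⟩
    have h3 : φ.quotKerEquivRange.symm ⟨φ ((1 : p₀.ResidueField) ⊗ₜ[A₀] u), LinearMap.mem_range_self _ _⟩ =
        Submodule.Quotient.mk ((1 : p₀.ResidueField) ⊗ₜ[A₀] u) :=
      (LinearEquiv.symm_apply_eq _).mpr (Subtype.ext rfl)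
    simp only [LinearMap.comp_apply, LinearEquiv.coe_coe, h3, Submodule.liftQ_apply] at h2
    refine Eq.trans h2 ?_
    show (algebraMap p₀.ResidueField K) 1 * algebraMap B K (σ u) = _
    rw [map_one, one_mul]
  let g : M₀ →ₗ[A₀] K := (ψ.restrictScalars A₀).comp (TensorProduct.mk A₀ p₀.ResidueField M₀ 1)
  let Ψ₁ : M →ₗ[A] K := hβ.lift g
  let Ψ : M ⊗[A] p.ResidueField →ₗ[A] K :=
    TensorProduct.lift ((LinearMap.mul A K).compl₂ ((IsScalarTower.toAlgHom A p.ResidueField K).toLinearMap) ∘ₗ Ψ₁)
  have key : Ψ (t • (β m ⊗ₜ[A] (1 : p.ResidueField))) = algebraMap B K t := by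
    obtain ⟨n, c, s, rfl⟩ := hgen t
    rw [Finset.sum_smul, map_sum, map_sum]
    refine Finset.sum_congr rfl fun i _ => ?_
    have h1 : (algebraMap A B (c i) * σ (s i)) • β m = c i • β (s i • m) := by
      rw [mul_smul, ← hsmul, algebraMap_smul]
    rw [TensorProduct.smul_tmul', h1, ← TensorProduct.smul_tmul', map_smul]
    show c i • (Ψ₁ (β (s i • m)) * (algebraMap p.ResidueField K) 1) = _
    rw [map_one, mul_one, IsBaseChange.lift_eq, map_mul, Algebra.smul_def,
      IsScalarTower.algebraMap_apply A B K]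
    exact congrArg (_ * ·) (hψ' (s i))
  rw [h0, map_zero] at key
  exact ht (Ideal.algebraMap_residueField_eq_zero.mp key.symm)

/-- Base change commutes with quotients by images. -/
theorem isBaseChange_quotient {A₀ A M₀ M M₀' M' : Type u} [CommRing A₀] [CommRing A] [Algebra A₀ A]
    [AddCommGroup M₀] [Module A₀ M₀] [AddCommGroup M] [Module A M] [Module A₀ M] [IsScalarTower A₀ A M]
    [AddCommGroup M₀'] [Module A₀ M₀'] [AddCommGroup M'] [Module A M'] [Module A₀ M'] [IsScalarTower A₀ A M']
    {β : M₀ →ₗ[A₀] M} (hβ : IsBaseChange A β) (π₀ : M₀ →ₗ[A₀] M₀') (π : M →ₗ[A] M')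
    (hπ₀ : Function.Surjective π₀) (hπ : Function.Surjective π) (β' : M₀' →ₗ[A₀] M')
    (hcomm : ∀ x, β' (π₀ x) = π (β x))
    (hker : LinearMap.ker π ≤ Submodule.span A (β '' LinearMap.ker π₀)) :
    IsBaseChange A β' := by
  refine IsBaseChange.of_lift_unique _ fun Q _ _ _ _ g => ?_
  let : AddCommGroup Q := Module.addCommMonoidToAddCommGroup A
  let G : M →ₗ[A] Q := hβ.lift (g.comp π₀)
  have hGN : LinearMap.ker π ≤ LinearMap.ker G := by
    refine hker.trans ?_
    rw [Submodule.span_le]
    rintro _ ⟨x, hx, rfl⟩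
    rw [SetLike.mem_coe, LinearMap.mem_ker, IsBaseChange.lift_eq, LinearMap.comp_apply,
      LinearMap.mem_ker.mp hx, map_zero]
  let G' : M' →ₗ[A] Q := (Submodule.liftQ (LinearMap.ker π) G hGN).comp (π.quotKerEquivOfSurjective hπ).symm.toLinearMap
  have hG' : ∀ x, G' (π x) = G x := fun x => by
    have h1 : (π.quotKerEquivOfSurjective hπ).symm (π x) = Submodule.Quotient.mk x :=
      (LinearEquiv.symm_apply_eq _).mpr rfl
    simp [G', h1]
  refine ⟨G', ?_, fun G'' hG'' => ?_⟩
  · ext y
    obtain ⟨x, rfl⟩ := hπ₀ y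
    rw [LinearMap.comp_apply, LinearMap.restrictScalars_apply, hcomm, hG', IsBaseChange.lift_eq,
      LinearMap.comp_apply]
  · have h2 : G''.comp π = G'.comp π := by
      refine hβ.algHom_ext _ _ fun x => ?_
      rw [LinearMap.comp_apply, LinearMap.comp_apply, hG', IsBaseChange.lift_eq, ← hcomm]
      exact LinearMap.congr_fun hG'' (π₀ x)
    exact LinearMap.ext fun y => by
      obtain ⟨x, rfl⟩ := hπ y
      exact LinearMap.congr_fun h2 x

/-- An element of `M ⊗ κ(p)` is, up to a scalar outside `p`, of the form `m ⊗ 1`. -/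
theorem exists_smul_eq_tmul_one {A M : Type u} [CommRing A] [AddCommGroup M] [Module A M]
    (p : Ideal A) [p.IsPrime] (z : M ⊗[A] p.ResidueField) :
    ∃ r ∉ p, ∃ m : M, r • z = m ⊗ₜ[A] (1 : p.ResidueField) := by
  induction z using TensorProduct.induction_on with
  | zero => exact ⟨1, (Ideal.ne_top_iff_one p).mp (Ideal.IsPrime.ne_top ‹_›), 0, by simp⟩
  | tmul m c =>
    obtain ⟨x, y, hy, rfl⟩ := IsFractionRing.div_surjective (A ⧸ p) c
    obtain ⟨x, rfl⟩ := Ideal.Quotient.mk_surjective x
    obtain ⟨y, rfl⟩ := Ideal.Quotient.mk_surjective y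
    have hy0 : (algebraMap (A ⧸ p) p.ResidueField) (Ideal.Quotient.mk p y) ≠ 0 :=
      IsFractionRing.to_map_ne_zero_of_mem_nonZeroDivisors hy
    refine ⟨y, fun h => hy0 (by rw [Ideal.Quotient.eq_zero_iff_mem.mpr h, map_zero]), x • m, ?_⟩
    rw [← TensorProduct.tmul_smul, TensorProduct.smul_tmul, Algebra.smul_def y, Algebra.smul_def x,
      mul_one, IsScalarTower.algebraMap_apply A (A ⧸ p) p.ResidueField y,
      IsScalarTower.algebraMap_apply A (A ⧸ p) p.ResidueField x]
    congr 1
    exact mul_div_cancel₀ _ hy0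
  | add a b ha hb =>
    obtain ⟨r, hr, m, hm⟩ := ha
    obtain ⟨r', hr', m', hm'⟩ := hb
    refine ⟨r * r', fun h => (Ideal.IsPrime.mem_or_mem ‹_› h).elim hr hr', r' • m + r • m', ?_⟩
    rw [smul_add, add_tmul, ← TensorProduct.smul_tmul', ← TensorProduct.smul_tmul', ← hm, ← hm',
      smul_smul, smul_smul, mul_comm r' r]

set_option maxHeartbeats 800000 in
/-- Regularity on a fibre descends. -/
theorem isSMulRegular_descend {C A T B N M : Type u} [CommRing C] [CommRing A] [Algebra C A]
    [CommRing T] [Algebra C T] [CommRing B] [Algebra A B] [Algebra C B] [IsScalarTower C A B]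
    [AddCommGroup N] [Module C N] [Module T N] [IsScalarTower C T N]
    [AddCommGroup M] [Module B M] [Module A M] [IsScalarTower A B M] [Module C M] [IsScalarTower C A M]
    (σ : T →ₐ[C] B) {β : N →ₗ[C] M} (hβ : IsBaseChange A β) (hsmul : ∀ (s : T) x, β (s • x) = σ s • β x)
    (hgen : ∀ b : B, ∃ (n : ℕ) (c : Fin n → A) (s : Fin n → T), b = ∑ i, algebraMap A B (c i) * σ (s i))
    (a₀ : T) (a : B) (ha : σ a₀ = a) (q : Ideal B) [q.IsPrime]
    (p : Ideal A) [p.IsPrime] (hp : p = q.comap (algebraMap A B))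
    (p₀ : Ideal C) [p₀.IsPrime] (hp₀' : p₀ = p.comap (algebraMap C A))
    (hp₀ : p₀ = (q.comap σ.toRingHom).comap (algebraMap C T))
    (h : IsSMulRegular (LocalizedModule q.primeCompl (M ⊗[A] p.ResidueField)) a) :
    IsSMulRegular (LocalizedModule (q.comap σ.toRingHom).primeCompl (N ⊗[C] p₀.ResidueField)) a₀ := by
  let q₀ : Ideal T := q.comap σ.toRingHom
  have hzero : ∀ x : LocalizedModule q₀.primeCompl (N ⊗[C] p₀.ResidueField), a₀ • x = 0 → x = 0 := by
    intro x hx
    induction x using LocalizedModule.induction_on with | h z s =>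
    rw [LocalizedModule.smul'_mk, IsLocalizedModule.mk_eq_mk', IsLocalizedModule.mk'_eq_zero',
      Subtype.exists] at hx
    obtain ⟨t, ht, htz⟩ := hx
    obtain ⟨r, hr, m, hm⟩ := exists_smul_eq_tmul_one p₀ z
    have h2 : (t * a₀) • (m ⊗ₜ[C] (1 : p₀.ResidueField)) = 0 := by
      rw [← hm, smul_comm, mul_smul]
      exact (congrArg (r • ·) htz).trans (smul_zero r)
    let : Algebra p₀.ResidueField p.ResidueField :=
      (Ideal.ResidueField.map p₀ p (algebraMap C A) hp₀').toAlgebra
    have : IsScalarTower C p₀.ResidueField p.ResidueField := IsScalarTower.of_algebraMap_eq fun c => by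
      rw [IsScalarTower.algebraMap_apply C A p.ResidueField]
      exact (Ideal.ResidueField.map_algebraMap p₀ p (algebraMap C A) hp₀' c).symm
    let j : N ⊗[C] p₀.ResidueField →ₗ[C] M ⊗[A] p.ResidueField :=
      (TensorProduct.mapOfCompatibleSMul A C C M p.ResidueField).comp
        (TensorProduct.map β ((Algebra.linearMap p₀.ResidueField p.ResidueField).restrictScalars C))
    have hj : ∀ (s : T) (w : N ⊗[C] p₀.ResidueField), j (s • w) = σ s • j w := by
      intro s w
      induction w using TensorProduct.induction_on with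
      | zero => simp
      | tmul n k => simp [j, TensorProduct.smul_tmul', hsmul]
      | add u v hu hv => simp only [smul_add, map_add, hu, hv]
    have h3 : (σ t * a) • (β m ⊗ₜ[A] (1 : p.ResidueField)) = 0 := by
      have := congrArg j h2
      rw [hj, map_mul, ha, map_zero] at this
      simpa [j] using this
    obtain ⟨t', ht', h4⟩ : ∃ t' ∉ q, t' • (β m ⊗ₜ[A] (1 : p.ResidueField)) = 0 := by
      have h5 : a • LocalizedModule.mk (β m ⊗ₜ[A] (1 : p.ResidueField)) (1 : q.primeCompl) = 0 := by
        rw [LocalizedModule.smul'_mk, IsLocalizedModule.mk_eq_mk', IsLocalizedModule.mk'_eq_zero',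
          Subtype.exists]
        exact ⟨σ t, (ht : σ t ∉ q), (mul_smul (σ t) a _).symm.trans h3⟩
      have h6 := h (h5.trans (smul_zero a).symm)
      rw [IsLocalizedModule.mk_eq_mk', IsLocalizedModule.mk'_eq_zero', Subtype.exists] at h6
      obtain ⟨t', ht', h6⟩ := h6
      exact ⟨t', ht', h6⟩
    obtain ⟨u, hu, hu0⟩ := exists_notMem_smul_eq_zero_of_baseChange σ hβ hsmul hgen q p hp p₀ hp₀'
      m t' ht' h4
    rw [IsLocalizedModule.mk_eq_mk', IsLocalizedModule.mk'_eq_zero', Subtype.exists]
    refine ⟨u * algebraMap C T r, q₀.primeCompl.mul_mem hu (fun hrq => hr ?_), ?_⟩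
    · rw [hp₀]; exact hrq
    · rw [Submonoid.mk_smul, mul_smul, algebraMap_smul, hm]
      exact hu0
  exact fun x y hxy => sub_eq_zero.mp (hzero _ (by rw [smul_sub]; exact sub_eq_zero.mpr hxy))

set_option maxHeartbeats 800000 in
/-- Universal regularity and flatness of the quotient pass to the base change. -/
theorem slice_conclude {C A T B N M : Type u} [CommRing C] [CommRing A] [Algebra C A]
    [CommRing T] [Algebra C T] [CommRing B] [Algebra A B] [Algebra C B] [IsScalarTower C A B]
    [AddCommGroup N] [Module C N] [Module T N] [IsScalarTower C T N]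
    [AddCommGroup M] [Module B M] [Module A M] [IsScalarTower A B M] [Module C M] [IsScalarTower C A M]
    (σ : T →ₐ[C] B) {β : N →ₗ[C] M} (hβ : IsBaseChange A β) (hsmul : ∀ (s : T) x, β (s • x) = σ s • β x)
    (a₀ : T) (a : B) (ha : σ a₀ = a) (q : Ideal B) [q.IsPrime]
    (huniv : ∀ (P : Type u) [AddCommGroup P] [Module C P] (z : N ⊗[C] P),
        (smulHom (M := N) C a₀).rTensor P z = 0 → ∃ s ∉ q.comap σ.toRingHom, s • z = 0)
    (hflatq : Module.Flat C (LocalizedModule (q.comap σ.toRingHom).primeCompl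
      (N ⧸ LinearMap.range (LinearMap.lsmul T N a₀)))) :
    IsSMulRegular (LocalizedModule q.primeCompl M) a ∧
      Module.Flat A (LocalizedModule q.primeCompl (M ⧸ LinearMap.range (LinearMap.lsmul B M a))) := by
  have : IsScalarTower C B M := IsScalarTower.of_algebraMap_smul fun c m => by
    rw [IsScalarTower.algebraMap_apply C A B, algebraMap_smul, algebraMap_smul]
  refine ⟨?_, ?_⟩
  · have hzero : ∀ x : LocalizedModule q.primeCompl M, a • x = 0 → x = 0 := by
      intro x hx
      induction x using LocalizedModule.induction_on with | h m s =>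
      rw [LocalizedModule.smul'_mk, IsLocalizedModule.mk_eq_mk', IsLocalizedModule.mk'_eq_zero',
        Subtype.exists] at hx
      obtain ⟨t, ht, htm⟩ := hx
      rw [Submonoid.mk_smul, smul_comm] at htm
      let e : N ⊗[C] A ≃ₗ[C] M := (TensorProduct.comm C N A).trans (hβ.equiv.restrictScalars C)
      have he : ∀ (s : T) z, e (s • z) = σ s • e z := fun s z => by
        induction z using TensorProduct.induction_on with
        | zero => simp
        | tmul x r =>
          simp only [e, smul_tmul', LinearEquiv.trans_apply, TensorProduct.comm_tmul,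
            LinearEquiv.restrictScalars_apply, IsBaseChange.equiv_tmul, hsmul]
          exact smul_comm r (σ s) (β x)
        | add x y hx hy => simp only [smul_add, map_add, hx, hy]
      obtain ⟨z, hz⟩ := e.surjective (t • m)
      have hu : ∀ z : N ⊗[C] A, (smulHom (M := N) C a₀).rTensor A z = a₀ • z := fun z => by
        induction z using TensorProduct.induction_on with
        | zero => simp
        | tmul m c => simp [smul_tmul']
        | add x y hx hy => rw [map_add, hx, hy, smul_add]
      obtain ⟨s', hs', hsz⟩ := huniv A z (e.injective (by rw [hu, he, ha, hz, htm, map_zero]))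
      rw [IsLocalizedModule.mk_eq_mk', IsLocalizedModule.mk'_eq_zero', Subtype.exists]
      refine ⟨σ s' * t, q.primeCompl.mul_mem hs' ht, ?_⟩
      rw [Submonoid.mk_smul, mul_smul, ← hz, ← he, hsz, map_zero]
    exact fun x y hxy => sub_eq_zero.mp (hzero _ (by rw [smul_sub]; exact sub_eq_zero.mpr hxy))
  · let N₁ := LinearMap.range (LinearMap.lsmul T N a₀)
    let M₁ := LinearMap.range (LinearMap.lsmul B M a)
    have hle : N₁.restrictScalars C ≤ LinearMap.ker ((M₁.mkQ.restrictScalars C).comp β) := by
      rintro _ ⟨n, rfl⟩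
      rw [LinearMap.mem_ker]
      exact (Submodule.Quotient.mk_eq_zero _).mpr ⟨β n, by
        show a • β n = β (a₀ • n)
        rw [hsmul, ha]⟩
    let β₁ : (N ⧸ N₁) →ₗ[C] (M ⧸ M₁) :=
      ((N₁.restrictScalars C).liftQ _ hle).comp
        (Submodule.Quotient.restrictScalarsEquiv C N₁).symm.toLinearMap
    have hcomm : ∀ x : N, β₁ (Submodule.Quotient.mk x) = Submodule.Quotient.mk (β x) := fun x => by
      simp [β₁]
    have hβ₁ : IsBaseChange A β₁ := by
      refine isBaseChange_quotient (M₀' := N ⧸ N₁) (M' := M ⧸ M₁) hβ (N₁.mkQ.restrictScalars C)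
        (M₁.mkQ.restrictScalars A) (Submodule.mkQ_surjective N₁) (Submodule.mkQ_surjective M₁) β₁ hcomm ?_
      intro m' hm'
      obtain ⟨m, rfl⟩ : m' ∈ M₁ := (Submodule.Quotient.mk_eq_zero _).mp hm'
      clear hm'
      induction m using hβ.inductionOn with
      | zero => simp
      | tmul n =>
        refine Submodule.subset_span ⟨a₀ • n, (Submodule.Quotient.mk_eq_zero _).mpr ⟨n, rfl⟩, ?_⟩
        rw [hsmul, ha]
        rfl
      | smul c m hm =>
        rw [LinearMap.lsmul_apply, smul_comm]
        exact Submodule.smul_mem _ c hm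
      | add x y hx hy => rw [map_add]; exact add_mem hx hy
    exact Groth.FlatMorOne.flat_localized_baseChange (B := C) (R := A)
      (M := N ⧸ N₁) (M' := M ⧸ M₁) σ.toRingHom hβ₁
      (fun s x => by
        obtain ⟨x, rfl⟩ := Submodule.Quotient.mk_surjective _ x
        exact congrArg Submodule.Quotient.mk (hsmul s x)) q


set_option synthInstance.maxHeartbeats 200000 in
set_option maxHeartbeats 2000000 in
open Groth.FlatMorOne in
/-- Slicing at a prime over an arbitrary base. -/
theorem slice {A B M : Type u} [CommRing A] [CommRing B] [Algebra A B] [Algebra.FinitePresentation A B]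
    [AddCommGroup M] [Module B M] [Module A M] [IsScalarTower A B M] [Module.FinitePresentation B M]
    (a : B) (q : Ideal B) [q.IsPrime] [Module.Flat A (LocalizedModule q.primeCompl M)]
    (h : IsSMulRegular (LocalizedModule q.primeCompl (M ⊗[A] (q.comap (algebraMap A B)).ResidueField)) a) :
    IsSMulRegular (LocalizedModule q.primeCompl M) a ∧
      Module.Flat A (LocalizedModule q.primeCompl (M ⧸ LinearMap.range (LinearMap.lsmul B M a))) := by
  classical
  obtain ⟨R₀, hR₀, S₀, _, _, _, _, hS₀, hpush, M₀, _, _, _, _, _, _, f₀, hM₀, hf₀⟩ := exists_models A B M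
  have : IsNoetherianRing R₀ := Algebra.FiniteType.isNoetherianRing ℤ R₀
  obtain ⟨A₁, hA₁, hflat₁⟩ := exists_stage_flat_at (R₀ := R₀) (R := A) hf₀ ⟨q, ‹_›⟩ ‹_›
  obtain ⟨A₂, hA₂, a₂, ha₂⟩ := exists_sMap_eq R₀ S₀ ((pushoutAlgEquiv R₀ A S₀ B).symm a)
  set C := A₁ ⊔ A₂
  have hC : C.FG := hA₁.sup hA₂
  have : IsNoetherianRing C := isNoetherianRing_of_fg hC
  let T := SOf R₀ S₀ C
  let N := MOf R₀ S₀ M₀ C
  have : Algebra.FiniteType C T := inferInstance
  have : IsNoetherianRing T := Algebra.FiniteType.isNoetherianRing C _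
  have : Module.Finite T N := inferInstance
  let σr : T →+* B := (stageAlgHom R₀ A S₀ B C).toRingHom
  let σ : T →ₐ[C] B :=
    { σr with
      commutes' := fun c => by
        show pushoutAlgEquiv R₀ A S₀ B (sMap R₀ S₀ C.val (c ⊗ₜ[R₀] (1 : S₀))) = _
        rw [sMap_tmul]
        exact pushoutAlgEquiv_algebraMap (R₀ := R₀) (R := A) (S₀ := S₀) (S := B) (c : A) }
  let β : N →ₗ[C] M := stageLinearMap (R₀ := R₀) (R := A) hf₀ C
  have hβ : IsBaseChange A β := isBaseChange_stageLinearMap hf₀ C
  have hsmul : ∀ (s : T) x, β (s • x) = σ s • β x := stageLinearMap_smul hf₀ C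
  let a₀ : T := sMap R₀ S₀ (Subalgebra.inclusion (le_sup_right : A₂ ≤ C)) a₂
  have ha : σ a₀ = a := by
    show pushoutAlgEquiv R₀ A S₀ B (sMap R₀ S₀ C.val a₀) = a
    rw [sMap_sMap, Subalgebra.val_comp_inclusion, ha₂]
    exact (pushoutAlgEquiv R₀ A S₀ B).apply_symm_apply a
  have hgen : ∀ b : B, ∃ (n : ℕ) (c : Fin n → A) (s : Fin n → T), b = ∑ i, algebraMap A B (c i) * σ (s i) := by
    intro b
    obtain ⟨x, rfl⟩ := (pushoutAlgEquiv R₀ A S₀ B).surjective b
    induction x using TensorProduct.induction_on with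
    | zero => exact ⟨0, Fin.elim0, Fin.elim0, by simp⟩
    | tmul c s =>
      refine ⟨1, fun _ => c, fun _ => (1 : C) ⊗ₜ[R₀] s, ?_⟩
      rw [Fin.sum_univ_one]
      show _ = algebraMap A B c * pushoutAlgEquiv R₀ A S₀ B (sMap R₀ S₀ C.val ((1 : C) ⊗ₜ[R₀] s))
      rw [sMap_tmul, map_one, pushoutAlgEquiv_tmul, pushoutAlgEquiv_tmul, map_one, one_mul]
    | add x y hx hy =>
      obtain ⟨n, c, s, hx⟩ := hx
      obtain ⟨n', c', s', hy⟩ := hy
      exact ⟨n + n', Fin.append c c', Fin.append s s', by
        rw [map_add, hx, hy, Fin.sum_univ_add]; simp⟩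
  let q₀ : Ideal T := q.comap σ.toRingHom
  let p : Ideal A := q.comap (algebraMap A B)
  let p₀ : Ideal C := p.comap (algebraMap C A)
  have : Module.Flat C (LocalizedModule q₀.primeCompl N) := hflat₁ C hC le_sup_left
  have hp₀ : p₀ = q₀.comap (algebraMap C T) := by
    ext c
    show algebraMap A B (algebraMap C A c) ∈ q ↔ σ (algebraMap C T c) ∈ q
    rw [σ.commutes]
    rfl
  have H₀ : IsSMulRegular (LocalizedModule q₀.primeCompl (N ⊗[C] p₀.ResidueField)) a₀ :=
    isSMulRegular_descend σ hβ hsmul hgen a₀ a ha q p rfl p₀ rfl hp₀ h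
  obtain ⟨huniv, hflatq⟩ := slice_noetherian a₀ q₀ p₀ hp₀ H₀
  exact slice_conclude σ hβ hsmul a₀ a ha q huniv hflatq

end Groth.Calg4
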