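import Mathlib
import Groth.Agent.Calg4.FibreSlice

/-!
Slicing by a sequence regular on the fibre at a prime.
-/

set_option autoImplicit false

universe u

open TensorProduct RingTheory.Sequence

namespace Groth.Calg4

/-- Localization preserves linear equivalences. -/
noncomputable def locCongr {B X Y : Type u} [CommRing B] [AddCommGroup X] [Module B X] [AddCommGroup Y]
    [Module B Y] (S : Submonoid B) (e : X ≃ₗ[B] Y) : LocalizedModule S X ≃ₗ[B] LocalizedModule S Y :=
  (((LocalizedModule.equivTensorProduct S X).restrictScalars B).trans
    (TensorProduct.congr (LinearEquiv.refl B (Localization S)) e)).trans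
    ((LocalizedModule.equivTensorProduct S Y).restrictScalars B).symm

/-- Localization commutes with `QuotSMulTop`. -/
noncomputable def locQuotSMulTop {B X : Type u} [CommRing B] [AddCommGroup X] [Module B X]
    (S : Submonoid B) (a : B) :
    QuotSMulTop a (LocalizedModule S X) ≃ₗ[B] LocalizedModule S (QuotSMulTop a X) :=
  ((((QuotSMulTop.congr a ((LocalizedModule.equivTensorProduct S X).restrictScalars B)).trans
    (QuotSMulTop.equivTensorQuot a _)).trans
    (TensorProduct.assoc B (Localization S) X (B ⧸ Ideal.span {a}))).trans
    (TensorProduct.congr (LinearEquiv.refl B (Localization S)) (QuotSMulTop.equivTensorQuot a X).symm)).trans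
    ((LocalizedModule.equivTensorProduct S (QuotSMulTop a X)).restrictScalars B).symm

/-- `QuotSMulTop` commutes with tensoring over the base. -/
noncomputable def quotSMulTopTensor {A B X : Type u} [CommRing A] [CommRing B] [Algebra A B]
    [AddCommGroup X] [Module B X] [Module A X] [IsScalarTower A B X] (a : B) (K : Type u)
    [AddCommGroup K] [Module A K] :
    QuotSMulTop a (X ⊗[A] K) ≃ₗ[B] (QuotSMulTop a X) ⊗[A] K :=
  (((QuotSMulTop.equivTensorQuot a _).trans (TensorProduct.comm B _ _)).trans
    (AlgebraTensorModule.assoc A B B (B ⧸ Ideal.span {a}) X K).symm).trans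
    (AlgebraTensorModule.congr
      ((TensorProduct.comm B _ _).trans (QuotSMulTop.equivTensorQuot a X).symm) (LinearEquiv.refl A K))

set_option maxHeartbeats 800000 in
/-- A sequence regular on the fibre at a prime is regular there, with flat quotients. -/
theorem slice_list {A B : Type u} [CommRing A] [CommRing B] [Algebra A B]
    [Algebra.FinitePresentation A B] (q : Ideal B) [q.IsPrime] :
    ∀ (g : List B) (M : Type u) [AddCommGroup M] [Module B M] [Module A M] [IsScalarTower A B M]
      [Module.FinitePresentation B M], Module.Flat A (LocalizedModule q.primeCompl M) →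
      IsWeaklyRegular (LocalizedModule q.primeCompl (M ⊗[A] (q.comap (algebraMap A B)).ResidueField)) g →
      IsWeaklyRegular (LocalizedModule q.primeCompl M) g ∧
        ∀ i ≤ g.length, Module.Flat A
          (LocalizedModule q.primeCompl (M ⧸ (Ideal.ofList (g.take i) • (⊤ : Submodule B M)))) := by
  intro g
  induction g with
  | nil =>
    intro M _ _ _ _ _ hflat _
    refine ⟨IsWeaklyRegular.nil _ _, fun i _ => ?_⟩
    have := hflat
    exact Module.Flat.of_linearEquiv ((locCongr q.primeCompl
      (Submodule.quotEquivOfEqBot _ (by simp))).restrictScalars A)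
  | cons a rest ih =>
    intro M _ _ _ _ _ hflat hreg
    have := hflat
    rw [isWeaklyRegular_cons_iff] at hreg
    obtain ⟨h1, h2⟩ := slice a q hreg.1
    let eR : (M ⧸ LinearMap.range (LinearMap.lsmul B M a)) ≃ₗ[B] QuotSMulTop a M :=
      Submodule.quotEquivOfEq _ _ (by
        ext x
        simp [Submodule.mem_smul_pointwise_iff_exists])
    have hflat' : Module.Flat A (LocalizedModule q.primeCompl (QuotSMulTop a M)) :=
      Module.Flat.of_linearEquiv ((locCongr q.primeCompl eR).symm.restrictScalars A)
    have : Module.FinitePresentation B (QuotSMulTop a M) :=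
      Module.finitePresentation_of_surjective (Submodule.mkQ _) (Submodule.mkQ_surjective _) (by
        rw [Submodule.ker_mkQ]
        exact Submodule.FG.map ((LinearMap.lsmul B M) a) Module.Finite.fg_top)
    obtain ⟨h3, h4⟩ := ih (QuotSMulTop a M) hflat'
      (((locQuotSMulTop q.primeCompl a).trans
        (locCongr q.primeCompl (quotSMulTopTensor a _))).isWeaklyRegular_congr rest |>.mp hreg.2)
    refine ⟨(isWeaklyRegular_cons_iff _ _ _).mpr
      ⟨h1, ((locQuotSMulTop q.primeCompl a).isWeaklyRegular_congr rest).mpr h3⟩, fun i hi => ?_⟩
    cases i with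
    | zero =>
      exact Module.Flat.of_linearEquiv ((locCongr q.primeCompl
        (Submodule.quotEquivOfEqBot _ (by simp))).restrictScalars A)
    | succ i =>
      have := h4 i (by simpa using hi)
      rw [List.take_succ_cons]
      exact Module.Flat.of_linearEquiv ((locCongr q.primeCompl
        (Submodule.quotOfListConsSMulTopEquivQuotSMulTopInner M a (rest.take i))).restrictScalars A)

end Groth.Calg4
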