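import Mathlib

/-!
Descent of a finite field extension to a subfield containing its structure constants.
-/

set_option autoImplicit false

universe u

open TensorProduct

namespace Groth.Calg4

theorem exists_intermediateField_descent {K k L ι : Type u} [Field K] [Field k] [Field L] [Algebra K k]
    [Algebra k L] [Algebra K L] [IsScalarTower K k L] [Fintype ι] (b : Module.Basis ι k L)
    (hmul : ∀ i j l, b.repr (b i * b j) l ∈ Set.range (algebraMap K k))
    (hone : ∀ l, b.repr 1 l ∈ Set.range (algebraMap K k)) :
    ∃ L1 : IntermediateField K L, FiniteDimensional K L1 ∧ Nonempty (k ⊗[K] L1 ≃ₐ[k] L) := by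
  classical
  let V := Submodule.span K (Set.range b)
  have hmem : ∀ x : L, (∀ l, b.repr x l ∈ Set.range (algebraMap K k)) → x ∈ V := by
    intro x hx
    rw [← b.sum_repr x]
    refine Submodule.sum_mem _ fun l _ => ?_
    obtain ⟨c, hc⟩ := hx l
    rw [← hc, algebraMap_smul]
    exact Submodule.smul_mem _ _ (Submodule.subset_span ⟨l, rfl⟩)
  have hVmul : ∀ x y, x ∈ V → y ∈ V → x * y ∈ V := by
    intro x y hx hy
    induction hx using Submodule.span_induction with
    | mem x hx =>
      obtain ⟨i, rfl⟩ := hx
      induction hy using Submodule.span_induction with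
      | mem y hy => obtain ⟨j, rfl⟩ := hy; exact hmem _ (hmul i j)
      | zero => simp
      | add y z _ _ hy hz => rw [mul_add]; exact add_mem hy hz
      | smul c y _ hy => rw [mul_smul_comm]; exact Submodule.smul_mem _ _ hy
    | zero => simp
    | add x z _ _ hx hz => rw [add_mul]; exact add_mem hx hz
    | smul c x _ hx => rw [smul_mul_assoc]; exact Submodule.smul_mem _ _ hx
  have hVone : (1 : L) ∈ V := hmem 1 hone
  let S := V.toSubalgebra hVone hVmul
  have hli : LinearIndependent K b := b.linearIndependent.restrict_scalars' K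
  let b1 : Module.Basis ι K S := Module.Basis.span hli
  have : Module.Finite K S := Module.Finite.of_basis b1
  have : Algebra.IsIntegral K S := Algebra.IsIntegral.of_finite K S
  let L1 : IntermediateField K L := S.toIntermediateField fun x hx =>
    S.inv_mem_of_algebraic (x := ⟨x, hx⟩)
      ((Algebra.IsIntegral.isIntegral (R := K) (⟨x, hx⟩ : S)).map S.val).isAlgebraic
  let bT : Module.Basis ι k (k ⊗[K] S) := b1.baseChange k
  let φ : k ⊗[K] S →ₐ[k] L :=
    Algebra.TensorProduct.lift (Algebra.ofId k L) S.val fun _ _ => Commute.all _ _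
  have h : φ.toLinearMap = (bT.equiv b (Equiv.refl ι)).toLinearMap := by
    refine bT.ext fun i => ?_
    simp only [LinearEquiv.coe_coe, Module.Basis.equiv_apply, Equiv.refl_apply,
      AlgHom.toLinearMap_apply]
    rw [show bT i = (1 : k) ⊗ₜ[K] (b1 i : S) from Module.Basis.baseChange_apply _ _ i]
    change φ ((1 : k) ⊗ₜ[K] (b1 i : S)) = b i
    simp only [φ, Algebra.TensorProduct.lift_tmul, map_one, one_mul]
    exact congrArg Subtype.val (Module.Basis.span_apply hli i)
  have hbij : Function.Bijective φ := by
    have h' := congrArg DFunLike.coe h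
    exact (h' ▸ (bT.equiv b (Equiv.refl ι)).bijective :)
  let e : L1 ≃ₐ[K] S :=
    { toFun := fun x => ⟨x.1, x.2⟩
      invFun := fun x => ⟨x.1, x.2⟩
      left_inv := fun _ => rfl
      right_inv := fun _ => rfl
      map_mul' := fun _ _ => rfl
      map_add' := fun _ _ => rfl
      commutes' := fun _ => rfl }
  exact ⟨L1, (Module.Finite.of_basis b1 : Module.Finite K S),
    ⟨(Algebra.TensorProduct.congr AlgEquiv.refl e).trans (AlgEquiv.ofBijective φ hbij)⟩⟩

end Groth.Calg4
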