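import Groth.Prelude.Def_CAlgX
import Groth.Agent.AdicLinTop.CompletionQuot
import Mathlib.RingTheory.AdicCompletion.Basic
import Mathlib.RingTheory.Ideal.Quotient.Operations

/-! Adic formal smoothness and completion of source or target, for finitely generated ideals. -/

set_option autoImplicit false

universe u

namespace Groth.Calg4.AdicCompletionSmooth

open Groth.AdicLinTop.CompletionQuot

variable {R : Type u} [CommRing R] {I : Ideal R}

theorem exists_sub_mem (hI : I.FG) (n : ℕ) (b : AdicCompletion I R) :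
    ∃ a : R, b - algebraMap R _ a ∈ (I.map (algebraMap R (AdicCompletion I R))) ^ n := by
  obtain ⟨a, ha⟩ := Ideal.Quotient.mk_surjective (AdicCompletion.evalₐ I n b)
  refine ⟨a, ?_⟩
  rw [← ker_evalₐ I hI n]
  show AdicCompletion.evalₐ I n _ = 0
  rw [map_sub, evalₐ_algebraMap, ha, sub_self]

theorem ext_of_kills (hI : I.FG) {D : Type u} [CommRing D] (f g : AdicCompletion I R →+* D) (n : ℕ)
    (h : ∀ a, f (algebraMap R _ a) = g (algebraMap R _ a))
    (hf : ∀ a ∈ I ^ n, f (algebraMap R _ a) = 0) : f = g := by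
  refine RingHom.ext fun b => ?_
  obtain ⟨a, ha⟩ := exists_sub_mem hI n b
  have key : ∀ φ : AdicCompletion I R →+* D, (∀ a ∈ I ^ n, φ (algebraMap R _ a) = 0) →
      φ b = φ (algebraMap R _ a) := fun φ hφ => by
    rw [← sub_eq_zero, ← map_sub]
    have : (I.map (algebraMap R (AdicCompletion I R))) ^ n ≤ RingHom.ker φ := by
      rw [← Ideal.map_pow, Ideal.map_le_iff_le_comap]
      exact fun x hx => hφ x hx
    exact this ha
  rw [key f hf, key g fun a ha => (h a).symm.trans (hf a ha), h]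

/-- Completing the target. -/
theorem iff_completion_target {A S : Type u} [CommRing A] [CommRing S] [Algebra A S] (𝔟 : Ideal S)
    (h𝔟 : 𝔟.FG) :
    CAlgX.IsAdicFormallySmooth A S 𝔟 ↔
      CAlgX.IsAdicFormallySmooth A (AdicCompletion 𝔟 S) (𝔟.map (algebraMap S (AdicCompletion 𝔟 S))) := by
  set Sh := AdicCompletion 𝔟 S
  constructor
  · intro h C _ _ J hJ u ⟨k, hk⟩
    obtain ⟨v, hv⟩ := h C J hJ (u.comp (IsScalarTower.toAlgHom A S Sh)) ⟨k, fun x hx => hk _ (by
      rw [← Ideal.map_pow]; exact Ideal.mem_map_of_mem _ hx)⟩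
    have hvJ : ∀ x ∈ 𝔟 ^ k, v x ∈ J := fun x hx =>
      Ideal.Quotient.eq_zero_iff_mem.mp ((AlgHom.congr_fun hv x).trans (hk _ (by
        rw [← Ideal.map_pow]; exact Ideal.mem_map_of_mem _ hx)))
    have hv0 : ∀ x ∈ 𝔟 ^ (k + k), v x = 0 := fun x hx => by
      rw [pow_add] at hx
      have h2 : v x ∈ J ^ 2 := by
        rw [sq]
        refine Submodule.mul_induction_on hx (fun a ha b hb => ?_) fun a b ha hb => ?_
        · rw [map_mul]; exact Ideal.mul_mem_mul (hvJ a ha) (hvJ b hb)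
        · rw [map_add]; exact add_mem ha hb
      rw [hJ, Ideal.mem_bot] at h2
      exact h2
    let w : Sh →ₐ[A] C := (Ideal.Quotient.liftₐ (𝔟 ^ (k + k)) v hv0).comp
      ((AdicCompletion.evalₐ 𝔟 (k + k)).restrictScalars A)
    have hw : ∀ b, w (algebraMap S Sh b) = v b := fun b => by
      show Ideal.Quotient.liftₐ (𝔟 ^ (k + k)) v hv0
        (AdicCompletion.evalₐ 𝔟 (k + k) (algebraMap S Sh b)) = v b
      rw [evalₐ_algebraMap]; rfl
    have key : ((Ideal.Quotient.mk J).comp w.toRingHom) = u.toRingHom := by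
      refine ext_of_kills h𝔟 _ _ (k + k) (fun a => ?_) fun a ha => ?_
      · show Ideal.Quotient.mk J (w (algebraMap S Sh a)) = u (algebraMap S Sh a)
        rw [hw]
        exact AlgHom.congr_fun hv a
      · show Ideal.Quotient.mk J (w (algebraMap S Sh a)) = 0
        rw [hw, hv0 a ha, map_zero]
    exact ⟨w, AlgHom.ext fun x => RingHom.congr_fun key x⟩
  · intro h C _ _ J hJ u ⟨k, hk⟩
    let u' : Sh →ₐ[A] C ⧸ J :=
      (Ideal.Quotient.liftₐ (𝔟 ^ k) u hk).comp ((AdicCompletion.evalₐ 𝔟 k).restrictScalars A)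
    obtain ⟨w, hw⟩ := h C J hJ u' ⟨k, fun x hx => by
      show Ideal.Quotient.liftₐ (𝔟 ^ k) u hk (AdicCompletion.evalₐ 𝔟 k x) = 0
      rw [← ker_evalₐ 𝔟 h𝔟 k] at hx
      rw [show AdicCompletion.evalₐ 𝔟 k x = 0 from hx, map_zero]⟩
    refine ⟨w.comp (IsScalarTower.toAlgHom A S Sh), AlgHom.ext fun b =>
      (AlgHom.congr_fun hw (algebraMap S Sh b)).trans ?_⟩
    show Ideal.Quotient.liftₐ (𝔟 ^ k) u hk (AdicCompletion.evalₐ 𝔟 k (algebraMap S Sh b)) = u b
    rw [evalₐ_algebraMap]; rfl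

/-- Completing the source. -/
theorem iff_completion_source (hI : I.FG) (S : Type u) [CommRing S] [Algebra R S]
    [Algebra (AdicCompletion I R) S] [IsScalarTower R (AdicCompletion I R) S] (𝔟 : Ideal S)
    (hc : ∃ c : ℕ, (I ^ c).map (algebraMap R S) ≤ 𝔟) :
    CAlgX.IsAdicFormallySmooth R S 𝔟 ↔
      CAlgX.IsAdicFormallySmooth (AdicCompletion I R) S 𝔟 := by
  set Rh := AdicCompletion I R
  obtain ⟨c, hc⟩ := hc
  have hpow : ∀ k, ∀ a ∈ I ^ (c * k), algebraMap R S a ∈ 𝔟 ^ k := fun k a ha =>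
    Ideal.pow_right_mono hc k (by
      rw [← Ideal.map_pow, ← pow_mul]; exact Ideal.mem_map_of_mem _ ha)
  have hsq : ∀ {C : Type u} [CommRing C] [Algebra R C] (J : Ideal C) (_ : J ^ 2 = ⊥) (k : ℕ)
      (_ : ∀ a ∈ I ^ (c * k), algebraMap R C a ∈ J), ∀ a ∈ I ^ (c * k + c * k), algebraMap R C a = 0 := by
    intro C _ _ J hJ k hCJ a ha
    rw [pow_add] at ha
    have h2 : algebraMap R C a ∈ J ^ 2 := by
      rw [sq]
      refine Submodule.mul_induction_on ha (fun a ha b hb => ?_) fun a b ha hb => ?_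
      · rw [map_mul]; exact Ideal.mul_mem_mul (hCJ a ha) (hCJ b hb)
      · rw [map_add]; exact add_mem ha hb
    rw [hJ, Ideal.mem_bot] at h2
    exact h2
  constructor
  · intro h C _ _ J hJ ψ ⟨k, hk⟩
    letI : Algebra R C := ((algebraMap Rh C).comp (algebraMap R Rh)).toAlgebra
    haveI : IsScalarTower R Rh C := IsScalarTower.of_algebraMap_eq fun _ => rfl
    obtain ⟨χ, hχ⟩ := h C J hJ (ψ.restrictScalars R) ⟨k, hk⟩
    have hCJ : ∀ a ∈ I ^ (c * k), algebraMap R C a ∈ J := fun a ha =>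
      Ideal.Quotient.eq_zero_iff_mem.mp (((ψ.restrictScalars R).commutes a).symm.trans (hk _ (hpow k a ha)))
    have key : χ.toRingHom.comp (algebraMap Rh S) = algebraMap Rh C := by
      refine ext_of_kills hI _ _ (c * k + c * k) (fun a => ?_) fun a ha => ?_
      · show χ (algebraMap Rh S (algebraMap R Rh a)) = _
        rw [← IsScalarTower.algebraMap_apply, χ.commutes]
        rfl
      · show χ (algebraMap Rh S (algebraMap R Rh a)) = 0
        rw [← IsScalarTower.algebraMap_apply, χ.commutes, hsq J hJ k hCJ a ha]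
    exact ⟨{ χ.toRingHom with commutes' := fun b => RingHom.congr_fun key b },
      AlgHom.ext fun x => AlgHom.congr_fun hχ x⟩
  · intro h C _ _ J hJ ψ ⟨k, hk⟩
    have hCJ : ∀ a ∈ I ^ (c * k), algebraMap R C a ∈ J := fun a ha =>
      Ideal.Quotient.eq_zero_iff_mem.mp ((ψ.commutes a).symm.trans (hk _ (hpow k a ha)))
    have hR0 := hsq J hJ k hCJ
    let θ : Rh →+* C := (Ideal.Quotient.lift (I ^ (c * k + c * k)) (algebraMap R C) hR0).comp
      (AdicCompletion.evalₐ I (c * k + c * k)).toRingHom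
    have hθ : ∀ a, θ (algebraMap R Rh a) = algebraMap R C a := fun a => by
      show Ideal.Quotient.lift _ _ hR0 (AdicCompletion.evalₐ I (c * k + c * k) (algebraMap R Rh a)) = _
      rw [evalₐ_algebraMap, Ideal.Quotient.lift_mk]
    letI : Algebra Rh C := θ.toAlgebra
    have key : ψ.toRingHom.comp (algebraMap Rh S) = (Ideal.Quotient.mk J).comp θ := by
      refine ext_of_kills hI _ _ (c * k + c * k) (fun a => ?_) fun a ha => ?_
      · show ψ (algebraMap Rh S (algebraMap R Rh a)) = Ideal.Quotient.mk J (θ (algebraMap R Rh a))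
        rw [← IsScalarTower.algebraMap_apply, ψ.commutes, hθ]
        rfl
      · show ψ (algebraMap Rh S (algebraMap R Rh a)) = 0
        rw [← IsScalarTower.algebraMap_apply, ψ.commutes, IsScalarTower.algebraMap_apply R C (C ⧸ J),
          hR0 a ha, map_zero]
    obtain ⟨χ, hχ⟩ := h C J hJ { ψ.toRingHom with commutes' := fun b => RingHom.congr_fun key b } ⟨k, hk⟩
    refine ⟨{ χ.toRingHom with commutes' := fun a => ?_ }, AlgHom.ext fun x => AlgHom.congr_fun hχ x⟩
    show χ (algebraMap R S a) = _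
    rw [IsScalarTower.algebraMap_apply R Rh S, χ.commutes]
    exact hθ a

end Groth.Calg4.AdicCompletionSmooth
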