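import Groth.Agent.CI.Locus
import Groth.Agent.FrobLCI.Avramov.Flat
import Groth.Agent.DualCore.FibreRings
import Groth.Agent.Calg4.GeomRegular
import Groth.Agent.S4611

/-!
Rings with complete intersection local rings: invariance, flat maps, tensor products of fields.
-/

set_option autoImplicit false

universe u

open TensorProduct IsLocalRing

namespace Groth.Calg4

/-- Locally complete intersection, transported along an isomorphism. -/
theorem ciAtPrimes_of_ringEquiv {R S : Type u} [CommRing R] [CommRing S] (e : R ≃+* S)
    (h : ∀ (p : Ideal R) [p.IsPrime], Pi1.IsCompleteIntersection (Localization.AtPrime p))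
    (P : Ideal S) [P.IsPrime] : Pi1.IsCompleteIntersection (Localization.AtPrime P) :=
  Groth.CI.isCompleteIntersection_of_ringEquiv (IsLocalization.ringEquivOfRingEquiv
    (Localization.AtPrime (P.comap e)) (Localization.AtPrime P) e (e.map_primeCompl_comap_eq P)) (h (P.comap e))

/-- The local rings of a regular ring are complete intersections. -/
theorem ciAtPrimes_of_isRegularRing {R : Type u} [CommRing R] [IsRegularRing R] (P : Ideal R) [P.IsPrime] :
    Pi1.IsCompleteIntersection (Localization.AtPrime P) :=
  Groth.CI.isCompleteIntersection_of_isRegularLocalRing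

/-- A flat algebra over a ring with CI local rings, with CI fibres, has CI local rings. -/
theorem ciAtPrimes_of_flat {A B : Type u} [CommRing A] [CommRing B] [Algebra A B] [IsNoetherianRing A]
    [IsNoetherianRing B] [Module.Flat A B]
    (hA : ∀ (p : Ideal A) [p.IsPrime], Pi1.IsCompleteIntersection (Localization.AtPrime p))
    (hF : ∀ (p : Ideal A) [p.IsPrime] (Q : Ideal (p.Fiber B)) [Q.IsPrime],
      Pi1.IsCompleteIntersection (Localization.AtPrime Q))
    (n : Ideal B) [n.IsPrime] : Pi1.IsCompleteIntersection (Localization.AtPrime n) := by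
  let p := n.comap (algebraMap A B)
  have : n.LiesOver p := ⟨rfl⟩
  let : Algebra (Localization.AtPrime p) (Localization.AtPrime n) :=
    (Localization.localRingHom p n (algebraMap A B) rfl).toAlgebra
  have : IsScalarTower A (Localization.AtPrime p) (Localization.AtPrime n) :=
    IsScalarTower.of_algebraMap_eq fun a => by
      rw [RingHom.algebraMap_toAlgebra, Localization.localRingHom_to_map, IsScalarTower.algebraMap_apply A B]
  have : IsLocalHom (algebraMap (Localization.AtPrime p) (Localization.AtPrime n)) :=
    Localization.isLocalHom_localRingHom p n (algebraMap A B) rfl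
  have : Module.Flat (Localization.AtPrime p) (Localization.AtPrime n) :=
    RingHom.Flat.localRingHom (RingHom.flat_algebraMap_iff.2 ‹Module.Flat A B›) n p rfl
  have hmap : (maximalIdeal (Localization.AtPrime p)).map (algebraMap _ (Localization.AtPrime n)) =
      p.map (algebraMap A (Localization.AtPrime n)) := by
    rw [← Localization.AtPrime.map_eq_maximalIdeal, Ideal.map_map, ← IsScalarTower.algebraMap_eq]
  have hle : (maximalIdeal (Localization.AtPrime p)).map (algebraMap _ (Localization.AtPrime n)) ≤
      maximalIdeal (Localization.AtPrime n) :=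
    Ideal.map_le_iff_le_comap.mpr fun a ha => by simpa [mem_maximalIdeal] using ha
  have : Nontrivial (Localization.AtPrime n ⧸
      (maximalIdeal (Localization.AtPrime p)).map (algebraMap _ (Localization.AtPrime n))) :=
    Ideal.Quotient.nontrivial_iff.mpr (ne_top_of_le_ne_top (maximalIdeal.isMaximal _).ne_top hle)
  have : IsLocalRing (Localization.AtPrime n ⧸
      (maximalIdeal (Localization.AtPrime p)).map (algebraMap _ (Localization.AtPrime n))) :=
    .of_surjective' (Ideal.Quotient.mk _) Ideal.Quotient.mk_surjective
  refine (Groth.FrobLCI.Avramov.isCompleteIntersection_iff_of_flat (Localization.AtPrime p)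
    (Localization.AtPrime n)).mpr ⟨hA p, ?_⟩
  obtain ⟨Q, hQ, ⟨e⟩⟩ := Groth.DualCore.exists_fibre_localization_equiv (A := A) n
  exact Groth.CI.isCompleteIntersection_of_ringEquiv (e.trans (Ideal.quotEquivOfEq hmap).symm) (hF p Q)

/-- A weakly regular sequence generating a kernel cuts out complete intersection local rings in a regular ring. -/
theorem ciAtPrimes_of_weaklyRegular {R T C : Type u} [CommRing R] [CommRing T] [CommRing C] [Algebra R T]
    [Module.Flat R T] [IsRegularRing T] (π : T →+* C) (hπ : Function.Surjective π) (rs : List R)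
    (hrs : RingTheory.Sequence.IsWeaklyRegular R rs)
    (hker : RingHom.ker π = (Ideal.ofList rs).map (algebraMap R T))
    (P : Ideal C) [P.IsPrime] : Pi1.IsCompleteIntersection (Localization.AtPrime P) := by
  let L := Localization.AtPrime (P.comap π)
  rw [Groth.CI.isCompleteIntersection_atPrime_iff π hπ P]
  have : Module.Flat T L := IsLocalization.flat L (P.comap π).primeCompl
  have : Module.Flat R L := Module.Flat.trans R T L
  have h1 : Ideal.ofList (rs.map (algebraMap R L)) = (RingHom.ker π).map (algebraMap T L) := by
    rw [hker, Ideal.map_map, Ideal.map_ofList, ← IsScalarTower.algebraMap_eq]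
  refine ⟨rs.map (algebraMap R L), h1, ?_⟩
  refine (IsLocalRing.isRegular_iff_isWeaklyRegular_of_subset_maximalIdeal fun r hr => ?_).mpr
    (hrs.of_flat (S := L))
  have hr' : r ∈ Ideal.ofList (rs.map (algebraMap R L)) := Ideal.subset_span hr
  rw [h1] at hr'
  have hle : RingHom.ker π ≤ P.comap π := fun x hx => by
    rw [Ideal.mem_comap, RingHom.mem_ker.mp hx]
    exact P.zero_mem
  rw [← Localization.AtPrime.map_eq_maximalIdeal]
  exact Ideal.map_mono hle hr'

/-- Regularity of `B ⊗ κ` passes to `B_M ⊗ κ`. -/
theorem isRegularRing_tensor_localization {k B κ : Type u} [CommRing k] [CommRing B] [CommRing κ] [Algebra k B]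
    [Algebra k κ] (M : Submonoid B) (T : Type u) [CommRing T] [Algebra B T] [Algebra k T] [IsScalarTower k B T]
    [IsLocalization M T] [IsRegularRing (B ⊗[k] κ)] : IsRegularRing (T ⊗[k] κ) := by
  have : IsRegularRing ((B ⊗[k] κ) ⊗[B] T) :=
    isRegularRing_of_isLocalization _ (Algebra.algebraMapSubmonoid (B ⊗[k] κ) M)
  have : IsRegularRing (T ⊗[B] (B ⊗[k] κ)) :=
    IsRegularRing.of_ringEquiv (Algebra.TensorProduct.comm B (B ⊗[k] κ) T).toRingEquiv
  exact IsRegularRing.of_ringEquiv (Algebra.TensorProduct.cancelBaseChange k B B T κ).toRingEquiv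

/-- The tensor product of a field with a finitely generated field extension is locally CI. -/
theorem ciAtPrimes_field_tensor {k K κ : Type u} [Field k] [Field K] [Field κ] [Algebra k K] [Algebra k κ]
    [Algebra.EssFiniteType k K] (P : Ideal (K ⊗[k] κ)) [P.IsPrime] :
    Pi1.IsCompleteIntersection (Localization.AtPrime P) := by
  obtain ⟨n, q, _, φ, hφ⟩ := Groth.Agent.S4611.result (A := k) (B := K)
  obtain ⟨rs, hrs, hreg⟩ := (Groth.CI.isCompleteIntersection_iff_of_surjective φ.toRingHom hφ).mp
    (Groth.CI.isCompleteIntersection_of_isRegularLocalRing (A := K))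
  have : IsRegularRing (κ ⊗[k] (MvPolynomial (Fin n) k)) :=
    IsRegularRing.of_ringEquiv (MvPolynomial.algebraTensorAlgEquiv k κ (σ := Fin n)).symm.toRingEquiv
  have : IsRegularRing ((MvPolynomial (Fin n) k) ⊗[k] κ) :=
    IsRegularRing.of_ringEquiv (Algebra.TensorProduct.comm k κ (MvPolynomial (Fin n) k)).toRingEquiv
  have : IsRegularRing ((Localization.AtPrime q) ⊗[k] κ) :=
    isRegularRing_tensor_localization (k := k) (B := MvPolynomial (Fin n) k) (κ := κ) q.primeCompl
      (Localization.AtPrime q)
  let π : Localization.AtPrime q ⊗[k] κ →+* K ⊗[k] κ :=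
    (Algebra.TensorProduct.map φ (AlgHom.id k κ)).toRingHom
  have hπ : Function.Surjective π :=
    TensorProduct.map_surjective (g := φ.toLinearMap) (g' := LinearMap.id) hφ Function.surjective_id
  refine ciAtPrimes_of_weaklyRegular (R := Localization.AtPrime q) (T := Localization.AtPrime q ⊗[k] κ)
    (C := K ⊗[k] κ) π hπ rs hreg.toIsWeaklyRegular ?_ P
  rw [hrs]
  exact Algebra.TensorProduct.rTensor_ker φ hφ

end Groth.Calg4
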