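import Groth.Agent.CMMor.Criterion
import Groth.Agent.Syntomic.CIFibre
import Groth.Agent.Flatmor4.CMComp
import Groth.Agent.FibreDim.Composition
import Groth.Agent.FibreDim.BaseChange
import Groth.Agent.FibreDim.Equidim

/-!
# Flat algebras with Cohen–Macaulay fibres: relative dimensions
-/

set_option autoImplicit false
set_option linter.style.haveILetI false

universe u

open AlgebraicGeometry CategoryTheory IsLocalRing

namespace Groth.Calg4.CMDecomp

variable (R S : Type u) [CommRing R] [CommRing S] [Algebra R S]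

/-- The structure morphism. -/
noncomputable abbrev str : Spec (CommRingCat.of S) ⟶ Spec (CommRingCat.of R) :=
  Spec.map (CommRingCat.ofHom (algebraMap R S))

theorem lfp_str [Algebra.FinitePresentation R S] : LocallyOfFinitePresentation (str R S) :=
  (HasRingHomProperty.Spec_iff (P := @LocallyOfFinitePresentation)).mpr
    (RingHom.finitePresentation_algebraMap.mpr ‹_›)

theorem flat_str [Module.Flat R S] : Flat (str R S) :=
  (HasRingHomProperty.Spec_iff (P := @Flat)).mpr (RingHom.flat_algebraMap_iff.mpr ‹_›)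

theorem fiberStalk_equiv (q : PrimeSpectrum S) :
    Nonempty (((Spec (CommRingCat.of S)).presheaf.stalk q ⧸
      (maximalIdeal ((Spec (CommRingCat.of R)).presheaf.stalk ((str R S) q))).map
        ((str R S).stalkMap q).hom) ≃+* EGA4.FibLocRing R S q.asIdeal) := by
  let φ : CommRingCat.of R ⟶ CommRingCat.of S := CommRingCat.ofHom (algebraMap R S)
  set p := q.asIdeal.comap (algebraMap R S) with hp
  let ι := Scheme.arrowStalkMapSpecIso φ q
  let θ : Localization.AtPrime p →+* Localization.AtPrime q.asIdeal :=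
    Localization.localRingHom p q.asIdeal (algebraMap R S) rfl
  let e₁ : (Spec (CommRingCat.of R)).presheaf.stalk ((str R S) q) ≃+* Localization.AtPrime p :=
    (Arrow.leftFunc.mapIso ι).commRingCatIsoToRingEquiv
  let e₂ : (Spec (CommRingCat.of S)).presheaf.stalk q ≃+* Localization.AtPrime q.asIdeal :=
    (Arrow.rightFunc.mapIso ι).commRingCatIsoToRingEquiv
  have hcomm : e₂.toRingHom.comp ((str R S).stalkMap q).hom = θ.comp e₁.toRingHom :=
    (congrArg CommRingCat.Hom.hom ι.hom.w).symm
  have hmap : ((maximalIdeal ((Spec (CommRingCat.of R)).presheaf.stalk ((str R S) q))).map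
      ((str R S).stalkMap q).hom).map e₂.toRingHom =
      p.map (algebraMap R (Localization.AtPrime q.asIdeal)) := by
    rw [Ideal.map_map, hcomm, ← Ideal.map_map]
    have h1 : (maximalIdeal ((Spec (CommRingCat.of R)).presheaf.stalk ((str R S) q))).map e₁.toRingHom =
        p.map (algebraMap R (Localization.AtPrime p)) := by
      rw [Localization.AtPrime.map_eq_maximalIdeal]
      exact IsLocalRing.eq_maximalIdeal (Ideal.map_isMaximal_of_equiv e₁)
    rw [h1, Ideal.map_map]
    congr 1
    refine RingHom.ext fun a => ?_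
    rw [RingHom.comp_apply, Localization.localRingHom_to_map, ← IsScalarTower.algebraMap_apply]
  exact ⟨Ideal.quotientEquiv _ _ e₂ hmap.symm⟩

theorem isCMAt_str_iff [Module.Flat R S] (q : PrimeSpectrum S) :
    MoreMor.IsCMAt (str R S) q ↔
      (haveI := Groth.Ega4b.fibLocRing_isLocalRing R S q.asIdeal
       LocCoh.IsCohenMacaulayLocalRing (EGA4.FibLocRing R S q.asIdeal)) := by
  have := Groth.Ega4b.fibLocRing_isLocalRing R S q.asIdeal
  obtain ⟨e⟩ := fiberStalk_equiv R S q
  have := flat_str R S
  rw [Groth.Flatmor4.isCMAt_iff]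
  exact ⟨fun h => Groth.Ega4b.isCohenMacaulayLocalRing_of_ringEquiv e h.2,
    fun h => ⟨Flat.stalkMap (str R S) q, Groth.Ega4b.isCohenMacaulayLocalRing_of_ringEquiv e.symm h⟩⟩

theorem forall_isCMAt_iff [Module.Flat R S] [Algebra.FiniteType R S] :
    (∀ q : PrimeSpectrum S, MoreMor.IsCMAt (str R S) q) ↔
      ∀ p : PrimeSpectrum R, LocCoh.IsCohenMacaulayRing (p.asIdeal.Fiber S) := by
  constructor
  · intro h p
    have : IsNoetherianRing (p.asIdeal.Fiber S) := Algebra.FiniteType.isNoetherianRing p.asIdeal.ResidueField _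
    refine ⟨fun Q _ => ?_⟩
    let x := (PrimeSpectrum.preimageEquivFiber R S p).symm ⟨Q, inferInstance⟩
    have := Groth.Ega4b.fibLocRing_isLocalRing R S x.1.asIdeal
    obtain ⟨e⟩ := Groth.Syntomic.exists_localization_fibre_equiv p.asIdeal Q x.1.asIdeal rfl
      (congrArg PrimeSpectrum.asIdeal x.2)
    exact Groth.Ega4b.isCohenMacaulayLocalRing_of_ringEquiv e.symm ((isCMAt_str_iff R S _).1 (h x.1))
  · intro h q
    rw [isCMAt_str_iff]
    have := Groth.Ega4b.fibLocRing_isLocalRing R S q.asIdeal
    let p : PrimeSpectrum R := PrimeSpectrum.comap (algebraMap R S) q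
    let Q := PrimeSpectrum.preimageEquivFiber R S p ⟨q, rfl⟩
    have hQ : Q.asIdeal.comap Algebra.TensorProduct.includeRight = q.asIdeal :=
      congrArg (fun x => x.1.asIdeal) ((PrimeSpectrum.preimageEquivFiber R S p).symm_apply_apply ⟨q, rfl⟩)
    obtain ⟨e⟩ := Groth.Syntomic.exists_localization_fibre_equiv p.asIdeal Q.asIdeal q.asIdeal hQ rfl
    have := h p
    exact Groth.Ega4b.isCohenMacaulayLocalRing_of_ringEquiv e
      (LocCoh.IsCohenMacaulayRing.isCohenMacaulayLocalRing_localization Q.asIdeal)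

/-- If the fibre dimension is constant `d`, every component of every fibre has dimension `d`. -/
theorem dim_component_eq [Algebra.FiniteType R S] {d : ℕ}
    (h : ∀ q : PrimeSpectrum S, FlatMor.fibreDimAt (str R S) q = d) (p : PrimeSpectrum R)
    (P : Ideal (p.asIdeal.Fiber S)) (hP : P ∈ minimalPrimes (p.asIdeal.Fiber S)) :
    ringKrullDim (p.asIdeal.Fiber S ⧸ P) = ((d : ℕ) : WithBot ℕ∞) := by
  have := Ideal.minimalPrimes_isPrime hP
  let H := PrimeSpectrum.preimageHomeomorphFiber R S p
  let e : PrimeSpectrum (p.asIdeal.Fiber S) → PrimeSpectrum S := Subtype.val ∘ H.symm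
  have he : Topology.IsEmbedding e := Topology.IsEmbedding.subtypeVal.comp H.symm.isEmbedding
  have hr : Set.range e = (str R S).base ⁻¹' {p} := by
    rw [Set.range_comp, H.symm.surjective.range_eq, Set.image_univ, Subtype.range_coe]
    rfl
  have hdim : ∀ Q : PrimeSpectrum (p.asIdeal.Fiber S),
      FlatMor.localDim (PrimeSpectrum (p.asIdeal.Fiber S)) Q = ((d : ℕ) : WithBot ℕ∞) := fun Q => by
    rw [← Groth.FibreDim.fibreDimAt_eq_of_range (str R S) p he hr Q]
    exact h _
  obtain ⟨P', hle, heq⟩ := Groth.FibreDim.exists_ringKrullDim_quotient_eq_localDim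
    p.asIdeal.ResidueField (S := p.asIdeal.Fiber S) ⟨P, inferInstance⟩
  have : P'.asIdeal = P := le_antisymm hle (hP.2 ⟨P'.isPrime, bot_le⟩ hle)
  rw [← this, heq, hdim]

end Groth.Calg4.CMDecomp
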