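import Groth.Agent.Calg4.ColimitTensor

/-! Descent of finiteness, surjectivity, bijectivity and unramifiedness to a finite stage. -/

namespace Groth.Calg4

open TensorProduct

universe u

variable {ι : Type u} [Preorder ι] [IsDirected ι (· ≤ ·)] [Nonempty ι]
variable {A₀ : Type u} [CommRing A₀] {G : ι → Type u} [∀ i, CommRing (G i)] [∀ i, Algebra A₀ (G i)]
variable {A : Type u} [CommRing A] [Algebra A₀ A]
variable {f : ∀ i j, i ≤ j → (G i →ₐ[A₀] G j)} {g : ∀ i, G i →ₐ[A₀] A}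
variable {B : Type u} [CommRing B] [Algebra A₀ B] {C : Type u} [CommRing C] [Algebra B C]

theorem surjective_algebraMap_tensor {S : Type*} [CommRing S] [Algebra B S] (s : Set C)
    (hs : Algebra.adjoin B s = ⊤) (h : ∀ c ∈ s, ∃ x : S, algebraMap S (S ⊗[B] C) x = 1 ⊗ₜ c) :
    Function.Surjective (algebraMap S (S ⊗[B] C)) := by
  let Rg := (IsScalarTower.toAlgHom B S (S ⊗[B] C)).range
  have hle : (⊤ : Subalgebra B C) ≤ Rg.comap Algebra.TensorProduct.includeRight := by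
    rw [← hs, Algebra.adjoin_le_iff]
    intro c hc
    exact h c hc
  intro z
  induction z using TensorProduct.induction_on with
  | zero => exact ⟨0, map_zero _⟩
  | tmul x c =>
    obtain ⟨y, hy⟩ := hle (Algebra.mem_top (x := c))
    refine ⟨x * y, ?_⟩
    change algebraMap S (S ⊗[B] C) y = 1 ⊗ₜ c at hy
    rw [map_mul, hy, Algebra.TensorProduct.algebraMap_apply, Algebra.TensorProduct.tmul_mul_tmul,
      mul_one, one_mul]
    rfl
  | add a b ha hb =>
    obtain ⟨a', rfl⟩ := ha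
    obtain ⟨b', rfl⟩ := hb
    exact ⟨a' + b', map_add _ _ _⟩

theorem adjoin_range_tmul_eq_top {S : Type*} [CommRing S] [Algebra B S] (s : Set C)
    (hs : Algebra.adjoin B s = ⊤) :
    Algebra.adjoin S ((fun c : C => (1 : S) ⊗ₜ[B] c) '' s) = ⊤ :=
  Algebra.TensorProduct.adjoin_one_tmul_image_eq_top _ hs

attribute [local instance] Algebra.TensorProduct.rightAlgebra

namespace IsColim

theorem exists_surjective (H : IsColim f g) [Algebra.FiniteType B C]
    (h : Function.Surjective (algebraMap (B ⊗[A₀] A) ((B ⊗[A₀] A) ⊗[B] C))) (i₀ : ι) :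
    ∃ i, Nonempty (Trans g i₀ i) ∧
      Function.Surjective (algebraMap (B ⊗[A₀] G i) ((B ⊗[A₀] G i) ⊗[B] C)) := by
  obtain ⟨s, hs⟩ := (‹Algebra.FiniteType B C›).out
  choose b hb using fun c : C => h (1 ⊗ₜ c)
  obtain ⟨i, ⟨φ₀⟩, w, hw⟩ := H.bsurj_ring i₀ fun c : s => b c
  obtain ⟨j, φ, hφ⟩ := H.bkill_finite (M := C)
    (fun c : s => algebraMap _ ((B ⊗[A₀] G i) ⊗[B] C) (w c) - 1 ⊗ₜ (c : C)) fun c => by
      rw [← cmap_eq_mmap, map_sub, cmap_algebraMap, hw, hb]
      simp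
  refine ⟨j, ⟨φ₀.trans φ⟩, surjective_algebraMap_tensor (s : Set C) hs fun c hc => ?_⟩
  refine ⟨bmap B φ.1 (w ⟨c, hc⟩), ?_⟩
  have := hφ ⟨c, hc⟩
  rw [← cmap_eq_mmap, map_sub, sub_eq_zero, cmap_algebraMap, cmap_tmul, map_one] at this
  exact this

theorem exists_finite (H : IsColim f g) [Algebra.FiniteType B C]
    (h : Module.Finite (B ⊗[A₀] A) ((B ⊗[A₀] A) ⊗[B] C)) (i₀ : ι) :
    ∃ i, Nonempty (Trans g i₀ i) ∧ Module.Finite (B ⊗[A₀] G i) ((B ⊗[A₀] G i) ⊗[B] C) := by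
  classical
  obtain ⟨s, hs⟩ := (‹Algebra.FiniteType B C›).out
  choose p hpm hp using fun c : C =>
    IsIntegral.of_finite (B ⊗[A₀] A) ((1 : B ⊗[A₀] A) ⊗ₜ[B] c)
  obtain ⟨i, ⟨φ₀⟩, w, hw⟩ := H.bsurj_ring i₀
    fun k : (Σ c : s, Fin (p c).natDegree) => (p k.1).coeff k.2
  let q : s → Polynomial (B ⊗[A₀] G i) := fun c =>
    Polynomial.X ^ (p c).natDegree + ∑ l : Fin (p c).natDegree, Polynomial.C (w ⟨c, l⟩) * Polynomial.X ^ (l : ℕ)
  have hq : ∀ c, (q c).map (bmap B (g i)).toRingHom = p c := by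
    intro c
    conv_rhs => rw [(hpm c).as_sum]
    simp only [q, Polynomial.map_add, Polynomial.map_pow, Polynomial.map_X, Polynomial.map_sum,
      Polynomial.map_mul, Polynomial.map_C, AlgHom.toRingHom_eq_coe, RingHom.coe_coe, hw]
    rw [Finset.sum_range]
  have hqm : ∀ c, (q c).Monic := fun c => Polynomial.monic_X_pow_add (Polynomial.degree_sum_fin_lt _)
  obtain ⟨j, φ, hφ⟩ := H.bkill_finite (M := C)
    (fun c : s => Polynomial.aeval ((1 : B ⊗[A₀] G i) ⊗ₜ[B] (c : C)) (q c)) fun c => by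
      rw [← cmap_eq_mmap, Polynomial.aeval_def]
      change (cmap B C (g i)).toRingHom _ = 0
      rw [Polynomial.hom_eval₂]
      convert hp c using 1
      conv_rhs => rw [← hq c, Polynomial.eval₂_map]
      congr 1
      exact TensorProduct.map_tmul .. |>.trans (by simp)
  refine ⟨j, ⟨φ₀.trans φ⟩, ?_⟩
  have hint : ∀ c ∈ s, IsIntegral (B ⊗[A₀] G j) ((1 : B ⊗[A₀] G j) ⊗ₜ[B] c) := by
    intro c hc
    refine ⟨(q ⟨c, hc⟩).map (bmap B φ.1).toRingHom, (hqm _).map _, ?_⟩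
    have := hφ ⟨c, hc⟩
    rw [← cmap_eq_mmap, Polynomial.aeval_def] at this
    change (cmap B C φ.1).toRingHom _ = 0 at this
    rw [Polynomial.hom_eval₂] at this
    rw [Polynomial.eval₂_map]
    convert this using 1
    congr 1
    simp
  have := fg_adjoin_of_finite (s.finite_toSet.image fun c : C => (1 : B ⊗[A₀] G j) ⊗ₜ[B] c) (by
    rintro _ ⟨c, hc, rfl⟩
    exact hint c hc)
  rw [adjoin_range_tmul_eq_top (s : Set C) hs, Algebra.top_toSubmodule] at this
  exact Module.finite_def.mpr this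

theorem exists_bijective (H : IsColim f g) [Algebra.FinitePresentation B C]
    (h : Function.Bijective (algebraMap (B ⊗[A₀] A) ((B ⊗[A₀] A) ⊗[B] C))) (i₀ : ι) :
    ∃ i, Nonempty (Trans g i₀ i) ∧
      Function.Bijective (algebraMap (B ⊗[A₀] G i) ((B ⊗[A₀] G i) ⊗[B] C)) := by
  obtain ⟨i, ⟨φ₀⟩, hi⟩ := H.exists_surjective h.2 i₀
  have hfg := Algebra.FinitePresentation.ker_fG_of_surjective
    (Algebra.ofId (B ⊗[A₀] G i) ((B ⊗[A₀] G i) ⊗[B] C)) hi
  obtain ⟨t, ht⟩ := hfg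
  obtain ⟨j, φ, hφ⟩ := H.bkill_ring (fun x : t => (x : B ⊗[A₀] G i)) fun x => by
    have hx : algebraMap _ ((B ⊗[A₀] G i) ⊗[B] C) (x : B ⊗[A₀] G i) = 0 := by
      have : (x : B ⊗[A₀] G i) ∈ Ideal.span (t : Set (B ⊗[A₀] G i)) := Ideal.subset_span x.2
      rwa [show Ideal.span (t : Set (B ⊗[A₀] G i)) = _ from ht] at this
    apply h.1
    rw [← cmap_algebraMap, hx, map_zero, map_zero]
  have hker : ∀ x, algebraMap _ ((B ⊗[A₀] G i) ⊗[B] C) x = 0 → bmap B φ.1 x = 0 := by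
    intro x hx
    have : x ∈ Ideal.span (t : Set (B ⊗[A₀] G i)) := by
      rw [show Ideal.span (t : Set (B ⊗[A₀] G i)) = _ from ht]; exact hx
    exact (Ideal.span_le.mpr fun y hy => hφ ⟨y, hy⟩ : Ideal.span _ ≤ RingHom.ker (bmap B φ.1)) this
  choose r hr using hi
  have hr' : ∀ {x y}, algebraMap _ ((B ⊗[A₀] G i) ⊗[B] C) x = y → bmap B φ.1 x = bmap B φ.1 (r y) := by
    intro x y hxy
    rw [← sub_eq_zero, ← map_sub]
    exact hker _ (by rw [map_sub, hxy, hr, sub_self])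
  let χ : C →ₐ[B] B ⊗[A₀] G j :=
    { toFun := fun c => bmap B φ.1 (r (1 ⊗ₜ c))
      map_one' := (hr' (x := 1) (map_one _)).symm.trans (map_one _)
      map_mul' := fun a b => by
        rw [← map_mul]
        exact (hr' (by rw [map_mul, hr, hr, Algebra.TensorProduct.tmul_mul_tmul, one_mul])).symm
      map_zero' := (hr' (x := 0) (by rw [map_zero, TensorProduct.tmul_zero])).symm.trans (map_zero _)
      map_add' := fun a b => by
        rw [← map_add]
        exact (hr' (by rw [map_add, hr, hr, TensorProduct.tmul_add])).symm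
      commutes' := fun b => by
        rw [← AlgHom.commutes (bmap B φ.1) b]
        refine (hr' ?_).symm
        rw [← IsScalarTower.algebraMap_apply B (B ⊗[A₀] G i)]
        exact ((Algebra.TensorProduct.includeRight : C →ₐ[B] (B ⊗[A₀] G i) ⊗[B] C).commutes b).symm }
  let ret : (B ⊗[A₀] G j) ⊗[B] C →ₐ[B] B ⊗[A₀] G j :=
    Algebra.TensorProduct.lift (AlgHom.id _ _) χ fun _ _ => Commute.all _ _
  refine ⟨j, ⟨φ₀.trans φ⟩, fun x y hxy => ?_, ?_⟩
  · have := congrArg ret hxy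
    simpa [ret, Algebra.TensorProduct.algebraMap_apply] using this
  · obtain ⟨s, hs⟩ : Algebra.FiniteType B C := inferInstance
    refine surjective_algebraMap_tensor (s : Set C) hs fun c _ => ⟨bmap B φ.1 (r (1 ⊗ₜ c)), ?_⟩
    rw [← cmap_algebraMap, hr, cmap_tmul, map_one]

theorem kaehler_subsingleton_iff (G' : Type u) [CommRing G'] [Algebra A₀ G'] :
    Algebra.FormallyUnramified (B ⊗[A₀] G') ((B ⊗[A₀] G') ⊗[B] C) ↔
      Subsingleton ((B ⊗[A₀] G') ⊗[B] Ω[C⁄B]) := by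
  rw [Algebra.formallyUnramified_iff]
  exact (KaehlerDifferential.tensorKaehlerEquivBase B (B ⊗[A₀] G') C
    ((B ⊗[A₀] G') ⊗[B] C)).toEquiv.subsingleton_congr.symm

theorem exists_unramified (H : IsColim f g) [Algebra.FiniteType B C]
    (h : Algebra.FormallyUnramified (B ⊗[A₀] A) ((B ⊗[A₀] A) ⊗[B] C)) (i₀ : ι) :
    ∃ i, Nonempty (Trans g i₀ i) ∧
      Algebra.Unramified (B ⊗[A₀] G i) ((B ⊗[A₀] G i) ⊗[B] C) := by
  obtain ⟨s, hs⟩ := (‹Algebra.FiniteType B C›).out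
  have hA := (kaehler_subsingleton_iff (B := B) (C := C) A).mp h
  obtain ⟨t, ht⟩ := (inferInstance : Module.Finite C Ω[C⁄B]).fg_top
  obtain ⟨j, φ, hφ⟩ := H.bkill_finite (M := Ω[C⁄B])
    (fun x : t => (1 : B ⊗[A₀] G i₀) ⊗ₜ[B] (x : Ω[C⁄B])) fun x => Subsingleton.elim _ _
  refine ⟨j, ⟨φ⟩, ⟨(kaehler_subsingleton_iff (B := B) (C := C) (G j)).mpr ?_, inferInstance⟩⟩
  refine subsingleton_of_forall_eq 0 fun z => ?_
  induction z using TensorProduct.induction_on with
  | zero => rfl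
  | tmul x m =>
    have hm : m ∈ Submodule.span C (t : Set Ω[C⁄B]) := ht ▸ Submodule.mem_top
    suffices h1 : (1 : B ⊗[A₀] G j) ⊗ₜ[B] m = 0 by
      have := congrArg (fun z => x • z) h1
      simpa [TensorProduct.smul_tmul'] using this
    induction hm using Submodule.span_induction with
    | mem m hm => simpa [mmap] using hφ ⟨m, hm⟩
    | zero => simp
    | add a b _ _ ha hb => rw [TensorProduct.tmul_add, ha, hb, add_zero]
    | smul c a _ ha =>
      have := congrArg (LinearMap.lTensor (B ⊗[A₀] G j) (LinearMap.lsmul C Ω[C⁄B] c |>.restrictScalars B)) ha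
      simpa using this
  | add a b ha hb => rw [ha, hb, add_zero]

end IsColim

end Groth.Calg4
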