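import Mathlib

/-! Directed colimits of algebras and tensor products. -/

namespace Groth.Calg4

open TensorProduct

universe u

variable {ι : Type u} [Preorder ι] [IsDirected ι (· ≤ ·)] [Nonempty ι]
variable {A₀ : Type u} [CommRing A₀] {G : ι → Type u} [∀ i, CommRing (G i)] [∀ i, Algebra A₀ (G i)]
variable {A : Type u} [CommRing A] [Algebra A₀ A]

/-- A directed family of algebras with colimit `A`. -/
structure IsColim (f : ∀ i j, i ≤ j → (G i →ₐ[A₀] G j)) (g : ∀ i, G i →ₐ[A₀] A) : Prop where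
  comp : ∀ i j (h : i ≤ j), (g j).comp (f i j h) = g i
  surj : ∀ a : A, ∃ i, ∃ x : G i, g i x = a
  ker : ∀ i (x : G i), g i x = 0 → ∃ j, ∃ h : i ≤ j, f i j h x = 0

/-- A map between two stages that commutes with the maps to the colimit. -/
def Trans (g : ∀ i, G i →ₐ[A₀] A) (i j : ι) : Type u :=
  {φ : G i →ₐ[A₀] G j // (g j).comp φ = g i}

namespace Trans

variable {g : ∀ i, G i →ₐ[A₀] A}

/-- Composition. -/
def trans {i j k : ι} (φ : Trans g i j) (ψ : Trans g j k) : Trans g i k :=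
  ⟨ψ.1.comp φ.1, by rw [← AlgHom.comp_assoc, ψ.2, φ.2]⟩

/-- Identity. -/
def refl (i : ι) : Trans g i i := ⟨AlgHom.id _ _, AlgHom.comp_id _⟩

theorem apply {i j : ι} (φ : Trans g i j) (x : G i) : g j (φ.1 x) = g i x :=
  AlgHom.congr_fun φ.2 x

end Trans

theorem lTensor_rTensor_comm {R : Type*} [CommRing R] {N N' P Q : Type*} [AddCommGroup N] [Module R N]
    [AddCommGroup N'] [Module R N'] [AddCommGroup P] [Module R P] [AddCommGroup Q] [Module R Q]
    (h : N →ₗ[R] N') (k : P →ₗ[R] Q) (x : P ⊗[R] N) :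
    h.lTensor Q (k.rTensor N x) = k.rTensor N' (h.lTensor P x) := by
  rw [← LinearMap.comp_apply, LinearMap.lTensor_comp_rTensor, ← LinearMap.rTensor_comp_lTensor,
    LinearMap.comp_apply]

namespace IsColim

variable {f : ∀ i j, i ≤ j → (G i →ₐ[A₀] G j)} {g : ∀ i, G i →ₐ[A₀] A}

theorem exists_common (H : IsColim f g) (i j : ι) :
    ∃ k, Nonempty (Trans g i k) ∧ Nonempty (Trans g j k) := by
  obtain ⟨k, hi, hj⟩ := exists_ge_ge i j
  exact ⟨k, ⟨⟨f i k hi, H.comp i k hi⟩⟩, ⟨⟨f j k hj, H.comp j k hj⟩⟩⟩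

theorem exists_zero_finset (H : IsColim f g) {i : ι} (s : Finset (G i)) (hs : ∀ x ∈ s, g i x = 0) :
    ∃ j, ∃ φ : Trans g i j, ∀ x ∈ s, φ.1 x = 0 := by
  classical
  induction s using Finset.induction_on with
  | empty => exact ⟨i, Trans.refl i, by simp⟩
  | insert a s _ ih =>
    obtain ⟨j, φ, hφ⟩ := ih fun x hx => hs x (Finset.mem_insert_of_mem hx)
    obtain ⟨k, h, hk⟩ := H.ker j (φ.1 a) (by rw [φ.apply]; exact hs a (Finset.mem_insert_self a s))
    refine ⟨k, φ.trans ⟨f j k h, H.comp j k h⟩, fun x hx => ?_⟩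
    rcases Finset.mem_insert.mp hx with rfl | hx
    · exact hk
    · change f j k h (φ.1 x) = 0
      rw [hφ x hx, map_zero]

theorem exists_eq (H : IsColim f g) {i : ι} (x y : G i) (h : g i x = g i y) :
    ∃ j, ∃ φ : Trans g i j, φ.1 x = φ.1 y := by
  obtain ⟨j, φ, hφ⟩ := H.exists_zero_finset {x - y} (by simp [h])
  exact ⟨j, φ, sub_eq_zero.mp (by simpa using hφ (x - y) (by simp))⟩

theorem tensor_surj (H : IsColim f g) {M : Type*} [AddCommGroup M] [Module A₀ M] (z : M ⊗[A₀] A) :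
    ∃ i w, (g i).toLinearMap.lTensor M w = z := by
  induction z using TensorProduct.induction_on with
  | zero => exact ⟨Classical.arbitrary ι, 0, map_zero _⟩
  | tmul m a =>
    obtain ⟨i, x, rfl⟩ := H.surj a
    exact ⟨i, m ⊗ₜ x, rfl⟩
  | add y z hy hz =>
    obtain ⟨i, v, rfl⟩ := hy
    obtain ⟨j, w, rfl⟩ := hz
    obtain ⟨k, ⟨φ⟩, ⟨ψ⟩⟩ := H.exists_common i j
    refine ⟨k, φ.1.toLinearMap.lTensor M v + ψ.1.toLinearMap.lTensor M w, ?_⟩
    rw [map_add, ← LinearMap.comp_apply, ← LinearMap.lTensor_comp, ← LinearMap.comp_apply,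
      ← LinearMap.lTensor_comp, ← AlgHom.comp_toLinearMap, ← AlgHom.comp_toLinearMap, φ.2, ψ.2]

theorem tensor_kill_free (H : IsColim f g) (σ : Type*) {i : ι} (w : (σ →₀ A₀) ⊗[A₀] G i)
    (hw : (g i).toLinearMap.lTensor (σ →₀ A₀) w = 0) :
    ∃ j, ∃ φ : Trans g i j, φ.1.toLinearMap.lTensor (σ →₀ A₀) w = 0 := by
  classical
  have nat : ∀ {N : Type u} [AddCommGroup N] [Module A₀ N] (h : G i →ₗ[A₀] N) (s : σ),
      finsuppScalarLeft A₀ N σ (h.lTensor (σ →₀ A₀) w) s =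
        h (finsuppScalarLeft A₀ (G i) σ w s) := by
    intro N _ _ h s
    clear hw
    induction w using TensorProduct.induction_on with
    | zero => simp
    | tmul p n => simp [finsuppScalarLeft_apply_tmul_apply]
    | add a b ha hb => simp [map_add, ha, hb]
  let c := finsuppScalarLeft A₀ (G i) σ w
  obtain ⟨j, φ, hφ⟩ := H.exists_zero_finset (c.support.image c) (by
    intro x hx
    obtain ⟨s, -, rfl⟩ := Finset.mem_image.mp hx
    rw [← AlgHom.toLinearMap_apply, ← nat, hw, map_zero]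
    rfl)
  refine ⟨j, φ, (finsuppScalarLeft A₀ (G j) σ).injective ?_⟩
  ext s
  rw [map_zero, nat, AlgHom.toLinearMap_apply, Finsupp.coe_zero, Pi.zero_apply]
  by_cases hs : c s = 0
  · rw [show finsuppScalarLeft A₀ (G i) σ w s = 0 from hs, map_zero]
  · exact hφ _ (Finset.mem_image_of_mem _ (Finsupp.mem_support_iff.mpr hs))

theorem tensor_kill (H : IsColim f g) {M : Type*} [AddCommGroup M] [Module A₀ M] {i : ι}
    (w : M ⊗[A₀] G i) (hw : (g i).toLinearMap.lTensor M w = 0) :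
    ∃ j, ∃ φ : Trans g i j, φ.1.toLinearMap.lTensor M w = 0 := by
  let π : (M →₀ A₀) →ₗ[A₀] M := Finsupp.linearCombination A₀ id
  have hπ : Function.Surjective π := Finsupp.linearCombination_surjective _ Function.surjective_id
  obtain ⟨K, hK₁, hK₂, κ, hex⟩ : ∃ (K : Type _) (_ : AddCommGroup K) (_ : Module A₀ K)
      (κ : K →ₗ[A₀] (M →₀ A₀)), Function.Exact κ π :=
    ⟨LinearMap.ker π, inferInstance, inferInstance, (LinearMap.ker π).subtype,
      fun y => LinearMap.exact_subtype_ker_map π y⟩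
  obtain ⟨v, rfl⟩ := LinearMap.rTensor_surjective (G i) hπ w
  rw [lTensor_rTensor_comm] at hw
  obtain ⟨u, hu⟩ := (rTensor_exact (Q := A) (f := κ) (g := π) hex hπ _).mp hw
  obtain ⟨j, u', rfl⟩ := H.tensor_surj u
  obtain ⟨k, ⟨φ⟩, ⟨ψ⟩⟩ := H.exists_common i j
  have hd : (g k).toLinearMap.lTensor (M →₀ A₀)
      (φ.1.toLinearMap.lTensor _ v - κ.rTensor (G k) (ψ.1.toLinearMap.lTensor _ u')) = 0 := by
    rw [map_sub, lTensor_rTensor_comm]
    simp only [← LinearMap.comp_apply, ← LinearMap.lTensor_comp, ← AlgHom.comp_toLinearMap, φ.2, ψ.2]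
    simp only [LinearMap.comp_apply, hu, sub_self]
  obtain ⟨l, χ, hχ⟩ := H.tensor_kill_free _ _ hd
  refine ⟨l, φ.trans χ, ?_⟩
  rw [map_sub, sub_eq_zero, lTensor_rTensor_comm, ← LinearMap.comp_apply, ← LinearMap.lTensor_comp] at hχ
  change (χ.1.toLinearMap ∘ₗ φ.1.toLinearMap).lTensor M (π.rTensor (G i) v) = 0
  rw [lTensor_rTensor_comm, hχ, ← LinearMap.comp_apply, ← LinearMap.rTensor_comp, hex.linearMap_comp_eq_zero,
    LinearMap.rTensor_zero, LinearMap.zero_apply]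

end IsColim

section BaseChange

variable {B : Type u} [CommRing B] [Algebra A₀ B]
variable (B) in
/-- The transition map after base change to `B`. -/
noncomputable def bmap {G' G'' : Type u} [CommRing G'] [Algebra A₀ G'] [CommRing G''] [Algebra A₀ G'']
    (φ : G' →ₐ[A₀] G'') : B ⊗[A₀] G' →ₐ[B] B ⊗[A₀] G'' :=
  Algebra.TensorProduct.map (AlgHom.id B B) φ

@[simp] theorem bmap_tmul {G' G'' : Type u} [CommRing G'] [Algebra A₀ G'] [CommRing G''] [Algebra A₀ G'']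
    (φ : G' →ₐ[A₀] G'') (b : B) (x : G') : bmap B φ (b ⊗ₜ x) = b ⊗ₜ φ x := rfl

theorem bmap_comp {G₁ G₂ G₃ : Type u} [CommRing G₁] [Algebra A₀ G₁] [CommRing G₂] [Algebra A₀ G₂]
    [CommRing G₃] [Algebra A₀ G₃] (φ : G₁ →ₐ[A₀] G₂) (ψ : G₂ →ₐ[A₀] G₃) :
    bmap B (ψ.comp φ) = (bmap B ψ).comp (bmap B φ) := by
  ext x
  simp [bmap]

variable (B) in
/-- `M ⊗ (B ⊗ G)` moved along a transition map, on the base-changed module. -/
noncomputable def mmap (M : Type*) [AddCommGroup M] [Module B M]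
    {G' G'' : Type u} [CommRing G'] [Algebra A₀ G'] [CommRing G''] [Algebra A₀ G'']
    (φ : G' →ₐ[A₀] G'') : (B ⊗[A₀] G') ⊗[B] M →ₗ[B] (B ⊗[A₀] G'') ⊗[B] M :=
  (bmap B φ).toLinearMap.rTensor M

theorem mmap_comp (M : Type*) [AddCommGroup M] [Module B M] {G₁ G₂ G₃ : Type u}
    [CommRing G₁] [Algebra A₀ G₁] [CommRing G₂] [Algebra A₀ G₂]
    [CommRing G₃] [Algebra A₀ G₃] (φ : G₁ →ₐ[A₀] G₂) (ψ : G₂ →ₐ[A₀] G₃)
    (x : (B ⊗[A₀] G₁) ⊗[B] M) : mmap B M (ψ.comp φ) x = mmap B M ψ (mmap B M φ x) := by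
  rw [mmap, bmap_comp, AlgHom.comp_toLinearMap, LinearMap.rTensor_comp, LinearMap.comp_apply]
  rfl

theorem mmap_id (M : Type*) [AddCommGroup M] [Module B M] {G₁ : Type u} [CommRing G₁] [Algebra A₀ G₁]
    (x : (B ⊗[A₀] G₁) ⊗[B] M) : mmap B M (AlgHom.id A₀ G₁) x = x := by
  rw [mmap, bmap, Algebra.TensorProduct.map_id, AlgHom.toLinearMap_id, LinearMap.rTensor_id,
    LinearMap.id_apply]

/-- `(B ⊗ G) ⊗_B M = M ⊗ G`. -/
noncomputable def cancel (M : Type*) [AddCommGroup M] [Module B M] [Module A₀ M] [IsScalarTower A₀ B M]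
    (G' : Type u) [CommRing G'] [Algebra A₀ G'] : (B ⊗[A₀] G') ⊗[B] M ≃ₗ[B] M ⊗[A₀] G' :=
  TensorProduct.comm B _ M ≪≫ₗ AlgebraTensorModule.cancelBaseChange A₀ B B M G'

theorem cancel_mmap (M : Type*) [AddCommGroup M] [Module B M] [Module A₀ M] [IsScalarTower A₀ B M]
    {G' G'' : Type u} [CommRing G'] [Algebra A₀ G'] [CommRing G''] [Algebra A₀ G'']
    (φ : G' →ₐ[A₀] G'') (x : (B ⊗[A₀] G') ⊗[B] M) :
    cancel M G'' (mmap B M φ x) = φ.toLinearMap.lTensor M (cancel M G' x) := by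
  induction x using TensorProduct.induction_on with
  | zero => simp
  | tmul y m =>
    induction y using TensorProduct.induction_on with
    | zero => simp
    | tmul b t => simp [cancel, mmap]
    | add a b ha hb => simp only [TensorProduct.add_tmul, map_add, ha, hb]
  | add a b ha hb => simp only [map_add, ha, hb]

variable {f : ∀ i j, i ≤ j → (G i →ₐ[A₀] G j)} {g : ∀ i, G i →ₐ[A₀] A}
variable {M : Type*} [AddCommGroup M] [Module B M]

theorem IsColim.bsurj (H : IsColim f g) (z : (B ⊗[A₀] A) ⊗[B] M) :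
    ∃ i w, mmap B M (g i) w = z := by
  let : Module A₀ M := Module.compHom M (algebraMap A₀ B)
  have : IsScalarTower A₀ B M := IsScalarTower.of_compHom A₀ B M
  obtain ⟨i, w, hw⟩ := H.tensor_surj (cancel M A z)
  refine ⟨i, (cancel M (G i)).symm w, (cancel M A).injective ?_⟩
  rw [cancel_mmap, LinearEquiv.apply_symm_apply, hw]

theorem IsColim.bkill (H : IsColim f g) {i : ι} (w : (B ⊗[A₀] G i) ⊗[B] M)
    (hw : mmap B M (g i) w = 0) : ∃ j, ∃ φ : Trans g i j, mmap B M φ.1 w = 0 := by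
  let : Module A₀ M := Module.compHom M (algebraMap A₀ B)
  have : IsScalarTower A₀ B M := IsScalarTower.of_compHom A₀ B M
  obtain ⟨j, φ, hφ⟩ := H.tensor_kill (cancel M (G i) w) (by rw [← cancel_mmap, hw, map_zero])
  refine ⟨j, φ, (cancel M (G j)).injective ?_⟩
  rw [cancel_mmap, hφ, map_zero]

theorem IsColim.bkill_finite (H : IsColim f g) {κ : Type*} [Finite κ] {i : ι}
    (w : κ → (B ⊗[A₀] G i) ⊗[B] M) (hw : ∀ k, mmap B M (g i) (w k) = 0) :
    ∃ j, ∃ φ : Trans g i j, ∀ k, mmap B M φ.1 (w k) = 0 := by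
  classical
  have := Fintype.ofFinite κ
  suffices ∀ s : Finset κ, ∃ j, ∃ φ : Trans g i j, ∀ k ∈ s, mmap B M φ.1 (w k) = 0 by
    obtain ⟨j, φ, h⟩ := this Finset.univ
    exact ⟨j, φ, fun k => h k (Finset.mem_univ k)⟩
  intro s
  induction s using Finset.induction_on with
  | empty => exact ⟨i, Trans.refl i, by simp⟩
  | insert a s _ ih =>
    obtain ⟨j, φ, hφ⟩ := ih
    obtain ⟨k, ψ, hψ⟩ := H.bkill (mmap B M φ.1 (w a)) (by rw [← mmap_comp, φ.2]; exact hw a)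
    refine ⟨k, φ.trans ψ, fun x hx => ?_⟩
    change mmap B M (ψ.1.comp φ.1) (w x) = 0
    rw [mmap_comp]
    rcases Finset.mem_insert.mp hx with rfl | hx
    · exact hψ
    · rw [hφ x hx, map_zero]

theorem IsColim.bsurj_finite (H : IsColim f g) (i₀ : ι) {κ : Type*} [Finite κ]
    (z : κ → (B ⊗[A₀] A) ⊗[B] M) :
    ∃ i, Nonempty (Trans g i₀ i) ∧ ∃ w : κ → (B ⊗[A₀] G i) ⊗[B] M, ∀ k, mmap B M (g i) (w k) = z k := by
  classical
  have := Fintype.ofFinite κ
  suffices ∀ s : Finset κ, ∃ i, Nonempty (Trans g i₀ i) ∧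
      ∃ w : κ → (B ⊗[A₀] G i) ⊗[B] M, ∀ k ∈ s, mmap B M (g i) (w k) = z k by
    obtain ⟨j, h, w, hw⟩ := this Finset.univ
    exact ⟨j, h, w, fun k => hw k (Finset.mem_univ k)⟩
  intro s
  induction s using Finset.induction_on with
  | empty => exact ⟨i₀, ⟨Trans.refl i₀⟩, 0, by simp⟩
  | insert a s ha ih =>
    obtain ⟨i, ⟨φ₀⟩, w, hw⟩ := ih
    obtain ⟨j, v, hv⟩ := H.bsurj (z a)
    obtain ⟨k, ⟨φ⟩, ⟨ψ⟩⟩ := H.exists_common i j
    refine ⟨k, ⟨φ₀.trans φ⟩, Function.update (fun x => mmap B M φ.1 (w x)) a (mmap B M ψ.1 v), ?_⟩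
    intro x hx
    rcases Finset.mem_insert.mp hx with rfl | hx
    · rw [Function.update_self, ← mmap_comp, ψ.2, hv]
    · rw [Function.update_of_ne (ne_of_mem_of_not_mem hx ha), ← mmap_comp, φ.2, hw x hx]

variable {C : Type u} [CommRing C] [Algebra B C]

variable (B C) in
/-- The transition map on the base changes of `C`. -/
noncomputable def cmap {G' G'' : Type u} [CommRing G'] [Algebra A₀ G'] [CommRing G''] [Algebra A₀ G'']
    (φ : G' →ₐ[A₀] G'') : (B ⊗[A₀] G') ⊗[B] C →ₐ[B] (B ⊗[A₀] G'') ⊗[B] C :=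
  Algebra.TensorProduct.map (bmap B φ) (AlgHom.id B C)

theorem cmap_eq_mmap {G' G'' : Type u} [CommRing G'] [Algebra A₀ G'] [CommRing G''] [Algebra A₀ G'']
    (φ : G' →ₐ[A₀] G'') (x : (B ⊗[A₀] G') ⊗[B] C) : cmap B C φ x = mmap B C φ x := by
  induction x using TensorProduct.induction_on with
  | zero => simp
  | tmul y c => rfl
  | add a b ha hb => simp only [map_add, ha, hb]

@[simp] theorem cmap_tmul {G' G'' : Type u} [CommRing G'] [Algebra A₀ G'] [CommRing G''] [Algebra A₀ G'']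
    (φ : G' →ₐ[A₀] G'') (y : B ⊗[A₀] G') (c : C) : cmap B C φ (y ⊗ₜ c) = bmap B φ y ⊗ₜ c := rfl

theorem cmap_algebraMap {G' G'' : Type u} [CommRing G'] [Algebra A₀ G'] [CommRing G''] [Algebra A₀ G'']
    (φ : G' →ₐ[A₀] G'') (y : B ⊗[A₀] G') :
    cmap B C φ (algebraMap _ _ y) = algebraMap _ _ (bmap B φ y) := rfl

theorem cmap_comp {G₁ G₂ G₃ : Type u} [CommRing G₁] [Algebra A₀ G₁] [CommRing G₂] [Algebra A₀ G₂]
    [CommRing G₃] [Algebra A₀ G₃] (φ : G₁ →ₐ[A₀] G₂) (ψ : G₂ →ₐ[A₀] G₃)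
    (x : (B ⊗[A₀] G₁) ⊗[B] C) : cmap B C (ψ.comp φ) x = cmap B C ψ (cmap B C φ x) := by
  simp only [cmap_eq_mmap, mmap_comp]

theorem IsColim.bsurj_ring (H : IsColim f g) (i₀ : ι) {κ : Type*} [Finite κ] (z : κ → B ⊗[A₀] A) :
    ∃ i, Nonempty (Trans g i₀ i) ∧ ∃ w : κ → B ⊗[A₀] G i, ∀ k, bmap B (g i) (w k) = z k := by
  obtain ⟨i, h, w, hw⟩ := H.bsurj_finite (B := B) (M := B) i₀ fun k => z k ⊗ₜ 1
  refine ⟨i, h, fun k => TensorProduct.rid B _ (w k), fun k => ?_⟩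
  have hnat : ∀ x, TensorProduct.rid B _ (mmap B B (g i) x) =
      bmap B (g i) (TensorProduct.rid B _ x) := by
    intro x
    induction x using TensorProduct.induction_on with
    | zero => simp
    | tmul y b => simp [mmap, map_smul]
    | add a b ha hb => simp only [map_add, ha, hb]
  rw [← hnat, hw k, TensorProduct.rid_tmul, one_smul]

theorem IsColim.bkill_ring (H : IsColim f g) {κ : Type*} [Finite κ] {i : ι}
    (w : κ → B ⊗[A₀] G i) (hw : ∀ k, bmap B (g i) (w k) = 0) :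
    ∃ j, ∃ φ : Trans g i j, ∀ k, bmap B φ.1 (w k) = 0 := by
  obtain ⟨j, φ, hφ⟩ := H.bkill_finite (B := B) (M := B) (fun k => w k ⊗ₜ 1) fun k => by
    simp [mmap, hw k]
  refine ⟨j, φ, fun k => ?_⟩
  simpa [mmap] using congrArg (TensorProduct.rid B _) (hφ k)

end BaseChange

end Groth.Calg4
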