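import Mathlib
import Groth.Agent.Calg4.ColimitTensor
import Groth.Agent.Calg4.SmoothRegularField
import Groth.Agent.Ega4Algebra1.RegularParams
import Groth.Agent.Ega4Algebra2.RsopRegular

/-!
A Noetherian colimit of regular rings is regular; colimits of flat algebras are flat.
-/

set_option autoImplicit false

universe u

open IsLocalRing RingTheory.Sequence TensorProduct

namespace Groth.Calg4

/-- A Noetherian local ring which is a directed colimit, along local maps, of regular local rings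
is regular. -/
theorem isRegularLocalRing_of_colimit {ι : Type u} [Preorder ι] [IsDirectedOrder ι] [Nonempty ι]
    (C : Type u) [CommRing C] [IsLocalRing C] [IsNoetherianRing C]
    (Ci : ι → Type u) [∀ i, CommRing (Ci i)] [∀ i, IsRegularLocalRing (Ci i)]
    (φ : ∀ i j, i ≤ j → (Ci i →+* Ci j)) (ψ : ∀ i, Ci i →+* C) [∀ i, IsLocalHom (ψ i)]
    (hc : ∀ i j h x, ψ j (φ i j h x) = ψ i x)
    (hsurj : ∀ c, ∃ i x, ψ i x = c)
    (hker : ∀ i x, ψ i x = 0 → ∃ j, ∃ h : i ≤ j, φ i j h x = 0) :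
    IsRegularLocalRing C := by
  classical
  obtain ⟨d, hd⟩ : ∃ d, (maximalIdeal C).spanFinrank = d := ⟨_, rfl⟩
  obtain ⟨x, hx⟩ := Groth.Ega4Algebra1.exists_span_eq_maximalIdeal (R := C) hd
  have hxm : ∀ l, x l ∈ maximalIdeal C := fun l => hx ▸ Ideal.subset_span (Set.mem_range_self l)
  have hreg : IsWeaklyRegular C (List.ofFn x) := by
    rw [Groth.Ega4b.isWeaklyRegular_ofFn_iff]
    intro k a ha
    have hset : (x '' {l | l < k}) = Set.range (fun l : {l : Fin d // l < k} => x l) :=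
      Set.image_eq_range _ _
    rw [hset] at ha ⊢
    obtain ⟨c, hc'⟩ := Ideal.mem_span_range_iff_exists_fun.mp ha
    choose iy y hy using fun l => hsurj (x l)
    choose ic c₀ hc₀ using fun l => hsurj (c l)
    obtain ⟨ia, a₀, ha₀⟩ := hsurj a
    obtain ⟨j₁, hj₁⟩ := Finite.exists_le iy
    obtain ⟨j₂, hj₂⟩ := Finite.exists_le ic
    obtain ⟨j₃, hj₁₃, hj₂₃⟩ := exists_ge_ge j₁ j₂
    obtain ⟨j, hj₃, hja⟩ := exists_ge_ge j₃ ia
    have hyj : ∀ l, iy l ≤ j := fun l => (hj₁ l).trans (hj₁₃.trans hj₃)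
    have hcj : ∀ l, ic l ≤ j := fun l => (hj₂ l).trans (hj₂₃.trans hj₃)
    obtain ⟨w, hw, h0⟩ := hker j (φ _ j (hyj k) (y k) * φ _ j hja a₀ -
      ∑ l : {l : Fin d // l < k}, φ _ j (hcj l) (c₀ l) * φ _ j (hyj l) (y l)) (by
        rw [map_sub, map_sum, map_mul]
        simp only [map_mul, hc, hy, hc₀, ha₀, hc', sub_self])
    let y' : Fin d → Ci w := fun l => φ j w hw (φ _ j (hyj l) (y l))
    have hy' : ∀ l, ψ w (y' l) = x l := fun l => by rw [hc, hc, hy]
    have hym : ∀ l, y' l ∈ maximalIdeal (Ci w) := fun l hu =>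
      hxm l (hy' l ▸ hu.map (ψ w))
    have hreg' : IsWeaklyRegular (Ci w) (List.ofFn y') := by
      refine Groth.Ega4b.isWeaklyRegular_of_independent_mod_sq d _ y' hym fun e he l hu => ?_
      have hle : (maximalIdeal (Ci w)).map (ψ w) ≤ maximalIdeal C :=
        Ideal.map_le_iff_le_comap.mpr fun a ha h => ha ((isUnit_map_iff (ψ w) a).mp h)
      have h2 : ψ w (∑ l, e l * y' l) ∈ maximalIdeal C ^ 2 :=
        Ideal.pow_right_mono hle 2 (Ideal.map_pow (ψ w) _ 2 ▸ Ideal.mem_map_of_mem _ he)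
      simp only [map_sum, map_mul, hy'] at h2
      exact coeff_mem_maximalIdeal_of_span_eq x hx hd _ h2 l (hu.map (ψ w))
    rw [Groth.Ega4b.isWeaklyRegular_ofFn_iff] at hreg'
    have hset' : (y' '' {l | l < k}) = Set.range (fun l : {l : Fin d // l < k} => y' l) :=
      Set.image_eq_range _ _
    have hmem := hreg' k (φ j w hw (φ _ j hja a₀)) (by
      rw [hset', Ideal.mem_span_range_iff_exists_fun]
      refine ⟨fun l => φ j w hw (φ _ j (hcj l) (c₀ l)), ?_⟩
      rw [map_sub, map_mul, map_sum, sub_eq_zero] at h0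
      simp only [map_mul] at h0
      exact h0.symm)
    rw [hset', Ideal.mem_span_range_iff_exists_fun] at hmem
    obtain ⟨e, he⟩ := hmem
    rw [Ideal.mem_span_range_iff_exists_fun]
    refine ⟨fun l => ψ w (e l), ?_⟩
    have := congrArg (ψ w) he
    simpa only [map_sum, map_mul, hy', hc, ha₀] using this
  have hreg2 : IsRegular C (List.ofFn x) := by
    refine ⟨hreg, ?_⟩
    rw [smul_eq_mul, Ideal.mul_top, Groth.Ega4Algebra1.ofList_ofFn, hx]
    exact fun h => (maximalIdeal.isMaximal C).ne_top h.symm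
  have hdim := ringKrullDim_add_length_eq_ringKrullDim_of_isRegular _ hreg2
  refine IsRegularLocalRing.of_spanFinrank_maximalIdeal_le _ ?_
  rw [hd, ← hdim, List.length_ofFn]
  have : Nontrivial (C ⧸ Ideal.ofList (List.ofFn x)) := Ideal.Quotient.nontrivial_iff.mpr
    (by rw [Groth.Ega4Algebra1.ofList_ofFn, hx]; exact (maximalIdeal.isMaximal C).ne_top)
  exact le_add_of_nonneg_left ringKrullDim_nonneg_of_nontrivial

section

variable {ι : Type u} [Preorder ι] [IsDirectedOrder ι] [Nonempty ι]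
variable {R : Type u} [CommRing R] {G : ι → Type u} [∀ i, CommRing (G i)] [∀ i, Algebra R (G i)]
variable {A : Type u} [CommRing A] [Algebra R A]
variable {f : ∀ i j, i ≤ j → (G i →ₐ[R] G j)} {g : ∀ i, G i →ₐ[R] A}

theorem IsColim.flat (H : IsColim f g) [∀ i, Module.Flat R (G i)] : Module.Flat R A := by
  rw [Module.Flat.iff_rTensor_preserves_injective_linearMap]
  intro N N' _ _ _ _ h hh
  rw [injective_iff_map_eq_zero]
  intro z hz
  obtain ⟨i, w, rfl⟩ := H.tensor_surj z
  rw [← lTensor_rTensor_comm] at hz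
  obtain ⟨j, φ, hφ⟩ := H.tensor_kill _ hz
  rw [lTensor_rTensor_comm] at hφ
  have h0 : φ.1.toLinearMap.lTensor N w = 0 :=
    Module.Flat.rTensor_preserves_injective_linearMap (M := G j) h hh
      (by rw [hφ, map_zero])
  rw [← φ.2, AlgHom.comp_toLinearMap, LinearMap.lTensor_comp, LinearMap.comp_apply, h0, map_zero]

theorem IsColim.killed_later (H : IsColim f g) {i j : ι} (φ : Trans g i j) (x : G i)
    (hx : φ.1 x = 0) : ∃ k, ∃ h : i ≤ k, f i k h x = 0 :=
  H.ker i x (by rw [← φ.apply x, hx, map_zero])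

/-- An element killed by some map over the colimit is killed by a transition map. -/
theorem IsColim.exists_transition_kill (H : IsColim f g)
    (hf : ∀ i j k hij hjk x, f j k hjk (f i j hij x) = f i k (hij.trans hjk) x)
    {M : Type*} [AddCommGroup M] [Module R M] {i : ι} (x : M ⊗[R] G i)
    (hx : (g i).toLinearMap.lTensor M x = 0) :
    ∃ n, ∃ h : i ≤ n, (f i n h).toLinearMap.lTensor M x = 0 := by
  obtain ⟨j, φ, hφ⟩ := H.tensor_kill x hx
  suffices h : ∃ n, ∃ (h : i ≤ n) (h' : j ≤ n), (f i n h).toLinearMap.lTensor M x =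
      (f j n h').toLinearMap.lTensor M (φ.1.toLinearMap.lTensor M x) by
    obtain ⟨n, h, h', e⟩ := h
    exact ⟨n, h, by rw [e, hφ, map_zero]⟩
  clear hφ hx
  induction x using TensorProduct.induction_on with
  | zero =>
    obtain ⟨n, h, h'⟩ := exists_ge_ge i j
    exact ⟨n, h, h', by simp only [map_zero]⟩
  | tmul m y =>
    obtain ⟨l, h, h'⟩ := exists_ge_ge i j
    obtain ⟨n, hn, e⟩ := H.ker l (f i l h y - f j l h' (φ.1 y)) (by
      rw [map_sub, ← AlgHom.comp_apply, H.comp, ← AlgHom.comp_apply, H.comp, φ.apply, sub_self])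
    rw [map_sub, sub_eq_zero, hf, hf] at e
    exact ⟨n, h.trans hn, h'.trans hn, by simp [e]⟩
  | add a b ha hb =>
    obtain ⟨n₁, h₁, h₁', e₁⟩ := ha
    obtain ⟨n₂, h₂, h₂', e₂⟩ := hb
    obtain ⟨n, k₁, k₂⟩ := exists_ge_ge n₁ n₂
    refine ⟨n, h₁.trans k₁, h₁'.trans k₁, ?_⟩
    have c : ∀ {p q : ι} (hp : p ≤ q) (hq : q ≤ n) (z : M ⊗[R] G p),
        (f q n hq).toLinearMap.lTensor M ((f p q hp).toLinearMap.lTensor M z) =
          (f p n (hp.trans hq)).toLinearMap.lTensor M z := fun hp hq z => by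
      rw [← LinearMap.comp_apply, ← LinearMap.lTensor_comp]
      congr 2
      exact LinearMap.ext (hf _ _ _ hp hq)
    have E₁ := congrArg ((f n₁ n k₁).toLinearMap.lTensor M) e₁
    have E₂ := congrArg ((f n₂ n k₂).toLinearMap.lTensor M) e₂
    rw [c, c] at E₁ E₂
    simp only [map_add, E₁, E₂]

/-- A Noetherian colimit of regular rings is regular. -/
theorem IsColim.isRegularRing (H : IsColim f g)
    (hf : ∀ i j k hij hjk x, f j k hjk (f i j hij x) = f i k (hij.trans hjk) x) [IsNoetherianRing A]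
    [∀ i, IsRegularRing (G i)] : IsRegularRing A := by
  classical
  rw [isRegularRing_iff]
  intro q _
  let qi : ∀ i, Ideal (G i) := fun i => q.comap (g i).toRingHom
  have hqq : ∀ i j h, qi i = (qi j).comap (f i j h).toRingHom := by
    intro i j h
    change q.comap _ = (q.comap _).comap _
    rw [Ideal.comap_comap, ← H.comp i j h]
    rfl
  let φ : ∀ i j, i ≤ j → (Localization.AtPrime (qi i) →+* Localization.AtPrime (qi j)) :=
    fun i j h => Localization.localRingHom (qi i) (qi j) (f i j h).toRingHom (hqq i j h)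
  let ψ : ∀ i, Localization.AtPrime (qi i) →+* Localization.AtPrime q :=
    fun i => Localization.localRingHom (qi i) q (g i).toRingHom rfl
  have hc : ∀ i j h x, ψ j (φ i j h x) = ψ i x := by
    intro i j h x
    have := Localization.localRingHom_comp (qi i) (qi j) q (f i j h).toRingHom (hqq i j h)
      (g j).toRingHom rfl
    have h2 := RingHom.congr_fun this x
    rw [RingHom.comp_apply] at h2
    rw [← h2]
    congr 1
    simp only [ψ]
    congr 1
    rw [← H.comp i j h]
    rfl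
  refine isRegularLocalRing_of_colimit (Localization.AtPrime q) _ φ ψ hc ?_ ?_
  · intro c
    obtain ⟨⟨a, s⟩, rfl⟩ := IsLocalization.mk'_surjective q.primeCompl c
    obtain ⟨i, a₀, ha⟩ := H.surj a
    obtain ⟨i', s₀, hs⟩ := H.surj (s : A)
    obtain ⟨j, hj, hj'⟩ := exists_ge_ge i i'
    have hga : g j (f i j hj a₀) = a := (AlgHom.congr_fun (H.comp i j hj) a₀).trans ha
    have hgs : g j (f i' j hj' s₀) = s := (AlgHom.congr_fun (H.comp i' j hj') s₀).trans hs
    refine ⟨j, IsLocalization.mk' _ (f i j hj a₀) (⟨f i' j hj' s₀, ?_⟩ : (qi j).primeCompl), ?_⟩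
    · show f i' j hj' s₀ ∉ q.comap _
      rw [Ideal.mem_comap]
      exact (congrArg (· ∉ q) hgs).mpr s.2
    · rw [Localization.localRingHom_mk']
      congr 1
      exact Subtype.ext hgs
  · intro i x hx
    obtain ⟨⟨a, s⟩, rfl⟩ := IsLocalization.mk'_surjective (qi i).primeCompl x
    rw [Localization.localRingHom_mk', IsLocalization.mk'_eq_zero_iff] at hx
    obtain ⟨⟨m, hm⟩, hma⟩ := hx
    obtain ⟨i', m₀, rfl⟩ := H.surj m
    obtain ⟨j, hj, hj'⟩ := exists_ge_ge i i'
    obtain ⟨k, hk, h0⟩ := H.ker j (f i' j hj' m₀ * f i j hj a) (by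
      rw [map_mul, ← AlgHom.comp_apply, ← AlgHom.comp_apply, H.comp, H.comp]
      exact hma)
    rw [map_mul, hf, hf] at h0
    refine ⟨k, hj.trans hk, ?_⟩
    rw [Localization.localRingHom_mk', IsLocalization.mk'_eq_zero_iff]
    refine ⟨⟨f i' k (hj'.trans hk) m₀, ?_⟩, h0⟩
    show f i' k (hj'.trans hk) m₀ ∉ q.comap _
    rw [Ideal.mem_comap]
    exact (congrArg (· ∉ q) (AlgHom.congr_fun (H.comp i' k (hj'.trans hk)) m₀)).mpr hm

end

end Groth.Calg4
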