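import Groth.Agent.Calg4.ColimitDescent

/-! Descent of formal smoothness to a finite stage. -/

namespace Groth.Calg4

open TensorProduct

universe u

variable {ι : Type u} [Preorder ι] [IsDirected ι (· ≤ ·)] [Nonempty ι]
variable {A₀ : Type u} [CommRing A₀] {G : ι → Type u} [∀ i, CommRing (G i)] [∀ i, Algebra A₀ (G i)]
variable {A : Type u} [CommRing A] [Algebra A₀ A]
variable {f : ∀ i j, i ≤ j → (G i →ₐ[A₀] G j)} {g : ∀ i, G i →ₐ[A₀] A}
variable {B : Type u} [CommRing B] [Algebra A₀ B] {C : Type u} [CommRing C] [Algebra B C]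

/-- The base change of a presentation. -/
noncomputable def basePres {P : Type u} [CommRing P] [Algebra B P] (π : P →ₐ[B] C)
    (S : Type u) [CommRing S] [Algebra B S] : S ⊗[B] P →ₐ[S] S ⊗[B] C :=
  Algebra.TensorProduct.map (AlgHom.id S S) π

theorem ker_basePres {P : Type u} [CommRing P] [Algebra B P] (π : P →ₐ[B] C) (hπ : Function.Surjective π)
    {κ : Type*} (r : κ → P) (hr : Ideal.span (Set.range r) = RingHom.ker π.toRingHom)
    (S : Type u) [CommRing S] [Algebra B S] :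
    RingHom.ker (basePres π S).toRingHom = Ideal.span (Set.range fun k => (1 : S) ⊗ₜ[B] r k) := by
  have h1 : RingHom.ker (basePres π S).toRingHom =
      RingHom.ker (Algebra.TensorProduct.map (AlgHom.id B S) π).toRingHom := rfl
  rw [h1]
  change RingHom.ker (Algebra.TensorProduct.map (AlgHom.id B S) π) = _
  rw [Algebra.TensorProduct.lTensor_ker π hπ]
  change (RingHom.ker π.toRingHom).map _ = _
  rw [← hr, Ideal.map_span, ← Set.range_comp]
  rfl

theorem IsColim.exists_formallySmooth (H : IsColim f g) [Algebra.FinitePresentation B C]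
    (h : Algebra.FormallySmooth (B ⊗[A₀] A) ((B ⊗[A₀] A) ⊗[B] C)) (i₀ : ι) :
    ∃ i, Nonempty (Trans g i₀ i) ∧
      Algebra.FormallySmooth (B ⊗[A₀] G i) ((B ⊗[A₀] G i) ⊗[B] C) := by
  classical
  obtain ⟨n, π, hπ, hfg⟩ := (‹Algebra.FinitePresentation B C›).out
  obtain ⟨m, r, hr⟩ := Submodule.fg_iff_exists_fin_generating_family.mp hfg
  let P := MvPolynomial (Fin n) B
  have hsA : Function.Surjective (basePres π (B ⊗[A₀] A)) :=
    Algebra.TensorProduct.map_surjective _ _ Function.surjective_id hπ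
  obtain ⟨σ, hσ⟩ := (Algebra.FormallySmooth.iff_split_surjection (basePres π (B ⊗[A₀] A)) hsA).mp h
  -- representatives of the images of the generators
  choose hk hhk using fun k : Fin n =>
    Ideal.Quotient.mk_surjective (σ ((1 : B ⊗[A₀] A) ⊗ₜ[B] π (MvPolynomial.X k)))
  have hπh : ∀ k, basePres π (B ⊗[A₀] A) (hk k) = 1 ⊗ₜ[B] π (MvPolynomial.X k) := by
    intro k
    have := AlgHom.congr_fun hσ ((1 : B ⊗[A₀] A) ⊗ₜ[B] π (MvPolynomial.X k))
    rw [AlgHom.comp_apply, ← hhk k] at this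
    exact this
  have hdiff : ∀ k, hk k - 1 ⊗ₜ MvPolynomial.X k ∈
      Ideal.span (Set.range fun l => (1 : B ⊗[A₀] A) ⊗ₜ[B] r l) := fun k => by
    rw [← ker_basePres π hπ r hr, RingHom.mem_ker, map_sub, sub_eq_zero]
    exact (hπh k).trans rfl
  choose a ha using fun k => Ideal.mem_span_range_iff_exists_fun.mp (hdiff k)
  have hsq : ∀ l, MvPolynomial.aeval hk (r l) ∈
      Ideal.span (Set.range fun p : Fin m × Fin m =>
        ((1 : B ⊗[A₀] A) ⊗ₜ[B] r p.1) * ((1 : B ⊗[A₀] A) ⊗ₜ[B] r p.2)) := by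
    intro l
    have hmem : MvPolynomial.aeval hk (r l) ∈ RingHom.ker (basePres π (B ⊗[A₀] A)).toRingHom ^ 2 := by
      rw [← Ideal.Quotient.eq_zero_iff_mem]
      have hc : (Ideal.Quotient.mkₐ B _).comp (MvPolynomial.aeval hk) =
          ((σ.restrictScalars B).comp Algebra.TensorProduct.includeRight).comp π :=
        MvPolynomial.algHom_ext fun k => by
          change Ideal.Quotient.mk _ (MvPolynomial.aeval hk (MvPolynomial.X k)) =
            σ ((1 : B ⊗[A₀] A) ⊗ₜ[B] π (MvPolynomial.X k))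
          rw [MvPolynomial.aeval_X]
          exact hhk k
      have h2 := AlgHom.congr_fun hc (r l)
      have h3 : π (r l) = 0 := by
        have : r l ∈ RingHom.ker π.toRingHom := hr ▸ Ideal.subset_span ⟨l, rfl⟩
        exact this
      simp only [AlgHom.comp_apply, h3, map_zero] at h2
      exact h2
    rw [ker_basePres π hπ r hr, pow_two, Ideal.span_mul_span'] at hmem
    refine Ideal.span_mono ?_ hmem
    rintro _ ⟨_, ⟨p, rfl⟩, _, ⟨q, rfl⟩, rfl⟩
    exact ⟨(p, q), rfl⟩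
  choose c hc using fun l => Ideal.mem_span_range_iff_exists_fun.mp (hsq l)
  -- lift all coefficients
  obtain ⟨i, ⟨φ₀⟩, w, hw⟩ := H.bsurj_finite (M := P) i₀
    (Sum.elim (fun kl : Fin n × Fin m => a kl.1 kl.2) (fun lp : Fin m × (Fin m × Fin m) => c lp.1 lp.2))
  let E : ∀ j, Fin m → (B ⊗[A₀] G j) ⊗[B] P := fun j l => 1 ⊗ₜ r l
  let hh : ∀ j, ((Fin n × Fin m) → (B ⊗[A₀] G j) ⊗[B] P) → Fin n → (B ⊗[A₀] G j) ⊗[B] P :=
    fun j v k => 1 ⊗ₜ MvPolynomial.X k + ∑ l, v (k, l) * E j l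
  let d : Fin m → (B ⊗[A₀] G i) ⊗[B] P := fun l =>
    MvPolynomial.aeval (hh i (fun kl => w (Sum.inl kl))) (r l) -
      ∑ p : Fin m × Fin m, w (Sum.inr (l, p)) * (E i p.1 * E i p.2)
  have hhA : ∀ k, cmap B P (g i) (hh i (fun kl => w (Sum.inl kl)) k) = hk k := by
    intro k
    simp only [hh, E, map_add, map_sum, map_mul, cmap_tmul, map_one, cmap_eq_mmap (g i) (w _), hw,
      Sum.elim_inl, ha k]
    abel
  have hd : ∀ l, mmap B P (g i) (d l) = 0 := by
    intro l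
    rw [← cmap_eq_mmap]
    simp only [d, E, map_sub, map_sum, map_mul, cmap_tmul, map_one, cmap_eq_mmap (g i) (w _), hw,
      Sum.elim_inr, hc l]
    rw [sub_eq_zero, ← AlgHom.comp_apply, MvPolynomial.comp_aeval, funext hhA]
  obtain ⟨j, φ, hφ⟩ := H.bkill_finite (M := P) d hd
  refine ⟨j, ⟨φ₀.trans φ⟩, ?_⟩
  let h' : Fin n → (B ⊗[A₀] G j) ⊗[B] P := fun k =>
    cmap B P φ.1 (hh i (fun kl => w (Sum.inl kl)) k)
  have hE : ∀ l, E j l ∈ RingHom.ker (basePres π (B ⊗[A₀] G j)).toRingHom := fun l => by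
    rw [ker_basePres π hπ r hr]
    exact Ideal.subset_span ⟨l, rfl⟩
  have hrel : ∀ l, MvPolynomial.aeval h' (r l) ∈
      RingHom.ker (basePres π (B ⊗[A₀] G j)).toRingHom ^ 2 := by
    intro l
    have := hφ l
    rw [← cmap_eq_mmap] at this
    simp only [d, E, map_sub, map_sum, map_mul, cmap_tmul, map_one, sub_eq_zero] at this
    rw [← AlgHom.comp_apply, MvPolynomial.comp_aeval] at this
    rw [show MvPolynomial.aeval h' (r l) = _ from this, pow_two]
    exact Ideal.sum_mem _ fun p _ => Ideal.mul_mem_left _ _ (Ideal.mul_mem_mul (hE p.1) (hE p.2))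
  let ρ : P →ₐ[B] ((B ⊗[A₀] G j) ⊗[B] P) ⧸ RingHom.ker (basePres π (B ⊗[A₀] G j)).toRingHom ^ 2 :=
    (Ideal.Quotient.mkₐ B _).comp (MvPolynomial.aeval h')
  have hρ : RingHom.ker π.toRingHom ≤ RingHom.ker ρ.toRingHom := by
    rw [← hr]
    refine Ideal.span_le.mpr ?_
    rintro _ ⟨l, rfl⟩
    exact Ideal.Quotient.eq_zero_iff_mem.mpr (hrel l)
  let τ := Algebra.TensorProduct.lift (Algebra.ofId (B ⊗[A₀] G j) _) (π.liftOfSurjective hπ ρ hρ)
    fun _ _ => Commute.all _ _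
  refine Algebra.FormallySmooth.of_split (basePres π (B ⊗[A₀] G j)) τ ?_
  apply Algebra.TensorProduct.ext
  · exact Subsingleton.elim _ _
  refine AlgHom.ext fun x => ?_
  obtain ⟨p, rfl⟩ := hπ x
  have key : ((basePres π (B ⊗[A₀] G j)).restrictScalars B).comp (MvPolynomial.aeval h') =
      (Algebra.TensorProduct.includeRight : C →ₐ[B] _).comp π := by
    refine MvPolynomial.algHom_ext fun k => ?_
    simp only [AlgHom.comp_apply, MvPolynomial.aeval_X, AlgHom.restrictScalars_apply,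
      Algebra.TensorProduct.includeRight_apply, h', hh, E, map_add, map_sum, map_mul, cmap_tmul,
      map_one]
    rw [Finset.sum_eq_zero (fun l _ => by rw [show basePres π _ (1 ⊗ₜ[B] r l) = 0 from hE l, mul_zero]),
      add_zero]
    exact Algebra.TensorProduct.map_tmul ..
  have h4 := AlgHom.congr_fun key p
  change (basePres π (B ⊗[A₀] G j)).kerSquareLift (τ (1 ⊗ₜ[B] π p)) = 1 ⊗ₜ[B] π p
  simp only [τ, Algebra.TensorProduct.lift_tmul, map_one, one_mul, AlgHom.liftOfSurjective_apply]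
  exact h4

theorem IsColim.exists_smooth (H : IsColim f g) [Algebra.FinitePresentation B C]
    (h : Algebra.FormallySmooth (B ⊗[A₀] A) ((B ⊗[A₀] A) ⊗[B] C)) (i₀ : ι) :
    ∃ i, Nonempty (Trans g i₀ i) ∧ Algebra.Smooth (B ⊗[A₀] G i) ((B ⊗[A₀] G i) ⊗[B] C) := by
  obtain ⟨i, hi, hs⟩ := H.exists_formallySmooth h i₀
  exact ⟨i, hi, ⟨hs, inferInstance⟩⟩

theorem formallySmooth_transport {G' G'' : Type u} [CommRing G'] [Algebra A₀ G'] [CommRing G'']
    [Algebra A₀ G''] (φ : G' →ₐ[A₀] G'')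
    (h : Algebra.FormallySmooth (B ⊗[A₀] G') ((B ⊗[A₀] G') ⊗[B] C)) :
    Algebra.FormallySmooth (B ⊗[A₀] G'') ((B ⊗[A₀] G'') ⊗[B] C) := by
  let : Algebra (B ⊗[A₀] G') (B ⊗[A₀] G'') := (bmap B φ).toRingHom.toAlgebra
  have : IsScalarTower B (B ⊗[A₀] G') (B ⊗[A₀] G'') :=
    IsScalarTower.of_algebraMap_eq fun b => ((bmap B φ).commutes b).symm
  exact Algebra.FormallySmooth.of_equiv
    (Algebra.TensorProduct.cancelBaseChange B (B ⊗[A₀] G') (B ⊗[A₀] G'') (B ⊗[A₀] G'') C)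

theorem IsColim.exists_etale (H : IsColim f g) [Algebra.FinitePresentation B C]
    (hs : Algebra.FormallySmooth (B ⊗[A₀] A) ((B ⊗[A₀] A) ⊗[B] C))
    (hu : Algebra.FormallyUnramified (B ⊗[A₀] A) ((B ⊗[A₀] A) ⊗[B] C)) (i₀ : ι) :
    ∃ i, Nonempty (Trans g i₀ i) ∧ Algebra.Etale (B ⊗[A₀] G i) ((B ⊗[A₀] G i) ⊗[B] C) := by
  obtain ⟨i, ⟨φ⟩, hi⟩ := H.exists_formallySmooth hs i₀
  obtain ⟨j, ⟨ψ⟩, hj⟩ := H.exists_unramified hu i
  have := formallySmooth_transport (B := B) (C := C) ψ.1 hi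
  have := hj.formallyUnramified
  exact ⟨j, ⟨φ.trans ψ⟩, ⟨Algebra.FormallyEtale.of_formallyUnramified_and_formallySmooth, inferInstance⟩⟩

end Groth.Calg4
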