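import Mathlib
import Groth.Agent.S0554

universe u

namespace Groth.Agent.Calg4.FiniteFractionDim

open Polynomial in
/-- A domain in which every element is a fraction of elements of the subring generated by a finite
set `s` has all prime heights bounded by `#s + 1`. -/
theorem height_le {V : Type u} [CommRing V] [IsDomain V] (s : Finset V)
    (hs : ∀ v : V, ∃ a ∈ Subring.closure (↑s : Set V), ∃ b ∈ Subring.closure (↑s : Set V),
      b ≠ 0 ∧ v * b = a)
    (P : PrimeSpectrum V) : Order.height P ≤ (s.card + 1 : ℕ) := by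
  refine Order.height_le fun c hc => ?_
  have hstep : ∀ i : Fin c.length, ∃ x, x ∈ (c.toFun i.succ).asIdeal ∧ x ∉ (c.toFun i.castSucc).asIdeal :=
    fun i => Set.exists_of_ssubset (c.step i)
  choose x hx hx' using hstep
  let A0 := (⊥ : Subring V)
  have hsurj : Function.Surjective (Int.castRingHom A0) := by
    rintro ⟨v, hv⟩
    obtain ⟨n, rfl⟩ := Subring.mem_bot.mp hv
    exact ⟨n, Subtype.ext (by simp)⟩
  haveI : IsNoetherianRing A0 := isNoetherianRing_of_surjective ℤ A0 (Int.castRingHom A0) hsurj
  let B := Algebra.adjoin A0 (Set.range x)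
  haveI : Algebra.FiniteType A0 B :=
    (Subalgebra.fg_iff_finiteType _).mp (Subalgebra.fg_def.mpr ⟨_, Set.finite_range x, rfl⟩)
  haveI : FaithfulSMul A0 B :=
    (faithfulSMul_iff_algebraMap_injective A0 B).mpr fun a b h =>
      Subtype.ext (congrArg (fun z : B => (z : V)) h)
  let f : B →+* V := B.val.toRingHom
  let q : Ideal B := (PrimeSpectrum.comap f P).asIdeal
  haveI : q.IsPrime := (PrimeSpectrum.comap f P).isPrime
  let p : Ideal A0 := q.under A0
  haveI : q.LiesOver p := ⟨rfl⟩
  have h0554 := Groth.Agent.S0554.result A0 B p q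
  -- the chain contracts to a strict chain in `B`
  have hlen : (c.length : ℕ∞) ≤ q.height := by
    let c' : LTSeries (PrimeSpectrum B) :=
      { length := c.length
        toFun := fun i => PrimeSpectrum.comap f (c.toFun i)
        step := fun i => by
          refine lt_of_le_of_ne (Ideal.comap_mono (c.step i).le) fun h => hx' i ?_
          have hmem : (⟨x i, Algebra.subset_adjoin (Set.mem_range_self i)⟩ : B) ∈
              (PrimeSpectrum.comap f (c.toFun i.succ)).asIdeal := hx i
          exact (SetLike.ext_iff.mp h ⟨x i, Algebra.subset_adjoin (Set.mem_range_self i)⟩).mpr hmem }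
    have hlast : c'.last = PrimeSpectrum.comap f P := congrArg (PrimeSpectrum.comap f) hc
    have := Order.length_le_height (p := c') (x := PrimeSpectrum.comap f P) hlast.le
    rwa [show q.height = Order.height (PrimeSpectrum.comap f P) from
      (PrimeSpectrum.comap f P).height_eq_orderHeight]
  have hp : p.height ≤ 1 := by
    have h1 : ringKrullDim A0 ≤ 1 :=
      (ringKrullDim_le_of_surjective _ hsurj).trans
        (Ring.krullDimLE_iff.mp (inferInstance : Ring.KrullDimLE 1 ℤ))
    have h2 := (Ideal.height_le_ringKrullDim_of_ne_top (I := p) Ideal.IsPrime.ne_top').trans h1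
    exact_mod_cast h2
  have htr : Algebra.trdeg A0 B ≤ (s.card : Cardinal) := by
    haveI : Algebra.IsAlgebraic (Algebra.adjoin A0 (↑s : Set V)) V := by
      refine ⟨fun v => ?_⟩
      obtain ⟨a, ha, b, hb, hb0, hab⟩ := hs v
      have hle : Subring.closure (↑s : Set V) ≤ (Algebra.adjoin A0 (↑s : Set V)).toSubring :=
        Subring.closure_le.mpr Algebra.subset_adjoin
      refine ⟨C (⟨b, hle hb⟩ : Algebra.adjoin A0 (↑s : Set V)) * X - C ⟨a, hle ha⟩, ?_, ?_⟩
      · intro h0
        have h := congrArg (fun r => r.coeff 1) h0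
        simp only [coeff_sub, coeff_C_mul, coeff_X_one, mul_one, coeff_C_succ, sub_zero,
          coeff_zero] at h
        exact hb0 (congrArg Subtype.val h)
      · simp only [map_sub, map_mul, aeval_C, aeval_X]
        show b * v - a = 0
        rw [mul_comm, hab, sub_self]
    calc Algebra.trdeg A0 B ≤ Algebra.trdeg A0 V :=
          trdeg_le_of_injective B.val Subtype.val_injective
      _ ≤ Cardinal.mk (↑s : Set V) := Algebra.IsAlgebraic.trdeg_le_cardinalMk A0 _
      _ = (s.card : Cardinal) := Cardinal.mk_coe_finset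
  have h3 : (q.height : Cardinal.{u}) ≤ ((s.card + 1 : ℕ) : ℕ∞) := by
    calc (q.height : Cardinal.{u}) ≤ (q.height : Cardinal.{u}) + Algebra.trdeg (A0 ⧸ p) (B ⧸ q) :=
          self_le_add_right _ _
      _ ≤ (p.height : Cardinal.{u}) + Algebra.trdeg A0 B := h0554
      _ ≤ ((1 : ℕ∞) : Cardinal.{u}) + (s.card : Cardinal.{u}) :=
          add_le_add (Cardinal.ofENat_le_ofENat.mpr hp) htr
      _ = ((s.card + 1 : ℕ) : ℕ∞) := by simp [add_comm]
  exact_mod_cast hlen.trans (Cardinal.ofENat_le_ofENat.mp h3)

/-- A valuation domain whose elements are fractions of a finitely generated subring has finite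
prime spectrum. -/
theorem finite_primeSpectrum {V : Type u} [CommRing V] [IsDomain V] [ValuationRing V] (s : Finset V)
    (hs : ∀ v : V, ∃ a ∈ Subring.closure (↑s : Set V), ∃ b ∈ Subring.closure (↑s : Set V),
      b ≠ 0 ∧ v * b = a) :
    Finite (PrimeSpectrum V) := by
  have key : ∀ P : PrimeSpectrum V, Order.height P < ((s.card + 2 : ℕ) : ℕ∞) := fun P =>
    (height_le s hs P).trans_lt (by exact_mod_cast Nat.lt_succ_self _)
  refine Finite.of_injective
    (fun P : PrimeSpectrum V => (⟨(Order.height P).toNat, ?_⟩ : Fin (s.card + 2))) ?_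
  · have h := key P
    obtain ⟨n, hn⟩ := ENat.ne_top_iff_exists.mp (ne_top_of_lt h)
    rw [← hn] at h ⊢
    exact_mod_cast h
  intro P Q h
  simp only [Fin.mk.injEq] at h
  have hP := ne_top_of_lt (key P)
  have hQ := ne_top_of_lt (key Q)
  have hh : Order.height P = Order.height Q := by
    rw [← ENat.natCast_toNat hP, ← ENat.natCast_toNat hQ, h]
  rcases (ValuationRing.iff_ideal_total.mp ‹ValuationRing V›).total P.asIdeal Q.asIdeal with hPQ | hPQ
  · rcases (show P ≤ Q from hPQ).eq_or_lt with e | e
    · exact e
    · exact absurd hh (Order.height_strictMono e (lt_top_iff_ne_top.mpr hP)).ne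
  · rcases (show Q ≤ P from hPQ).eq_or_lt with e | e
    · exact e.symm
    · exact absurd hh.symm (Order.height_strictMono e (lt_top_iff_ne_top.mpr hQ)).ne

end Groth.Agent.Calg4.FiniteFractionDim
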