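import Groth.Agent.Flatmor4.FlatDedekind
import Groth.Agent.Flatmor4.ImageDom
import Mathlib.AlgebraicGeometry.Morphisms.Flat
import Mathlib.AlgebraicGeometry.Fiber
import Mathlib.AlgebraicGeometry.Noetherian
import Mathlib.RingTheory.Flat.TorsionFree

/-!
Closures of closed subschemes of the generic fibre over a base of dimension at most one.
-/

universe u
open CategoryTheory CategoryTheory.Limits AlgebraicGeometry TopologicalSpace

namespace Groth.Calg4.FlatClosure

variable {X Y : Scheme.{u}}

instance flat_fromSpecResidueField_generic [IsIntegral Y] :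
    Flat (Y.fromSpecResidueField (genericPoint Y)) := by
  refine Flat.of_stalkMap _ fun x => ?_
  have hx : Y.fromSpecResidueField (genericPoint Y) x = genericPoint Y :=
    Scheme.fromSpecResidueField_apply _ _
  have hf : IsField (Y.presheaf.stalk (Y.fromSpecResidueField (genericPoint Y) x)) := by
    rw [hx]
    exact Field.toIsField Y.functionField
  let := hf.toField
  algebraize [((Y.fromSpecResidueField (genericPoint Y)).stalkMap x).hom]
  exact inferInstanceAs (Module.Flat _ _)

instance quasiCompact_fromSpecResidueField (y : Y) : QuasiCompact (Y.fromSpecResidueField y) :=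
  ⟨fun _ _ _ => Set.Subsingleton.isCompact (Set.subsingleton_of_subsingleton)⟩

instance isSchemeTheoreticallyDominant_fromSpecResidueField_generic [IsIntegral Y] :
    IsSchemeTheoreticallyDominant (Y.fromSpecResidueField (genericPoint Y)) := by
  have : IsDominant (Y.fromSpecResidueField (genericPoint Y)) := ⟨by
    rw [DenseRange, Scheme.range_fromSpecResidueField, dense_iff_closure_eq]
    exact genericPoint_spec Y⟩
  exact .of_isDominant _

/-- Sections of a scheme schematically dominated by one over the generic point are flat. -/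
theorem flat_of_schDominant [IsIntegral Y] [IsLocallyNoetherian Y]
    (hY : ∀ y : Y, IsRegularLocalRing (Y.presheaf.stalk y) ∧ ringKrullDim (Y.presheaf.stalk y) ≤ 1)
    {Z Z' : Scheme.{u}} (q : Z ⟶ Y) (w : Z' ⟶ Z) [IsSchemeTheoreticallyDominant w]
    [QuasiCompact w] (hw : ∀ x : Z', q (w x) = genericPoint Y) : Flat q := by
  rw [HasRingHomProperty.iff_appLE (P := @Flat)]
  intro V U e
  by_cases hne : (V : Y.Opens) = ⊥
  · have : IsEmpty (U : Z.Opens) := ⟨fun x => by
      have := e x.2
      rw [hne] at this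
      exact this⟩
    have : (U : Z.Opens) = ⊥ := by
      ext x; simp only [Opens.coe_bot, Set.mem_empty_iff_false, iff_false]; exact fun h => this.false ⟨x, h⟩
    have : Subsingleton Γ(Z, U) := by rw [this]; infer_instance
    algebraize [(q.appLE V U e).hom]
    exact inferInstanceAs (Module.Flat Γ(Y, V) Γ(Z, U))
  have hVne : Nonempty (V : Y.Opens) := by
    by_contra h
    exact hne (Opens.ext (Set.eq_empty_iff_forall_notMem.mpr fun x hx => h ⟨⟨x, hx⟩⟩))
  algebraize [(q.appLE V U e).hom]
  show Module.Flat Γ(Y, V) Γ(Z, U)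
  refine (Module.Flat.flat_iff_torsion_eq_bot_of_valuationRing_localization_isMaximal ?_).mpr ?_
  · intro P hP
    let y := V.2.fromSpec ⟨P, hP.isPrime⟩
    have hy : y ∈ (V : Y.Opens) := by
      rw [← SetLike.mem_coe, ← V.2.range_fromSpec]; exact ⟨_, rfl⟩
    let := TopCat.Presheaf.algebra_section_stalk Y.presheaf ⟨y, hy⟩
    have : IsLocalization.AtPrime (Y.presheaf.stalk y) P := V.2.isLocalization_stalk' ⟨P, hP.isPrime⟩ hy
    have := (hY y).1
    have := Groth.Flatmor4.isBezout_of_regular_dim_le_one (hY y).2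
    let E := IsLocalization.algEquiv P.primeCompl (Y.presheaf.stalk y) (Localization.AtPrime P)
    exact Function.Surjective.valuationRing E.toRingEquiv.toRingHom E.surjective
  · rw [Submodule.eq_bot_iff]
    rintro s ⟨⟨r, hr⟩, hs⟩
    have hs' : q.appLE V U e r * s = 0 := hs
    apply w.app_injective U
    rw [map_zero]
    have hu : IsUnit (w.app U (q.appLE V U e r)) := by
      refine LocallyRingedSpace.toRingedSpace Z'.toLocallyRingedSpace |>.isUnit_of_isUnit_germ
        (w ⁻¹ᵁ U) _ fun x hx => ?_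
      have h1 : q (w x) ∈ Y.basicOpen r := by
        rw [hw x]
        refine ((genericPoint_spec Y).mem_open_set_iff (Y.basicOpen r).isOpen).mpr ?_
        rw [Set.univ_inter, Set.nonempty_iff_ne_empty]
        intro h
        have h' : Y.basicOpen r = ⊥ := Opens.ext h
        rw [basicOpen_eq_bot_iff] at h'
        exact nonZeroDivisors.ne_zero hr h'
      have h2 : x ∈ (w ≫ q) ⁻¹ᵁ Y.basicOpen r := h1
      rw [Scheme.preimage_basicOpen] at h2
      rw [← Scheme.mem_basicOpen]
      have h3 : x ∈ w ⁻¹ᵁ Z.basicOpen (q.appLE V U e r) := by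
        rw [Scheme.Hom.appLE, ConcreteCategory.comp_apply, Scheme.basicOpen_res]
        exact ⟨hx, by rw [← Scheme.preimage_basicOpen]; exact h1⟩
      rwa [Scheme.preimage_basicOpen] at h3
    have h0 : w.app U (q.appLE V U e r) * w.app U s = 0 := by
      rw [← map_mul, hs', map_zero]
    exact hu.mul_right_eq_zero.mp h0

/-- The flat closure: existence and uniqueness. -/
theorem exists_unique [IsIntegral Y] [IsLocallyNoetherian Y]
    (hY : ∀ y : Y, IsRegularLocalRing (Y.presheaf.stalk y) ∧ ringKrullDim (Y.presheaf.stalk y) ≤ 1)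
    (f : X ⟶ Y) {Z' : Scheme.{u}} (z' : Z' ⟶ f.fiber (genericPoint Y)) [IsClosedImmersion z'] :
    (∃ (Z : Scheme.{u}) (z : Z ⟶ X) (w : Z' ⟶ Z), IsClosedImmersion z ∧ Flat (z ≫ f) ∧
        IsPullback w z' z (f.fiberι (genericPoint Y))) ∧
      ∀ (Z₁ Z₂ : Scheme.{u}) (z₁ : Z₁ ⟶ X) (z₂ : Z₂ ⟶ X) (w₁ : Z' ⟶ Z₁) (w₂ : Z' ⟶ Z₂),
        IsClosedImmersion z₁ → IsClosedImmersion z₂ → Flat (z₁ ≫ f) → Flat (z₂ ≫ f) →
        IsPullback w₁ z' z₁ (f.fiberι (genericPoint Y)) → IsPullback w₂ z' z₂ (f.fiberι (genericPoint Y)) →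
        ∃ e : Z₁ ≅ Z₂, e.hom ≫ z₂ = z₁ := by
  set ι := f.fiberι (genericPoint Y) with hι
  have : QuasiCompact ι := inferInstanceAs (QuasiCompact (pullback.fst _ _))
  have : Flat ι := inferInstanceAs (Flat (pullback.fst _ _))
  set g := z' ≫ ι with hg
  refine ⟨?_, ?_⟩
  · have := Groth.Flatmor4.isSchemeTheoreticallyDominant_toImage g
    have hw : ∀ x : Z', (g.imageι ≫ f) (g.toImage x) = genericPoint Y := fun x => by
      rw [← Scheme.Hom.comp_apply, g.toImage_imageι_assoc, hg, Category.assoc, hι, Scheme.Hom.comp_apply, Scheme.Hom.comp_apply]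
      have : f.fiberι (genericPoint Y) (z' x) ∈ f ⁻¹' {genericPoint Y} := by
        rw [← Scheme.Hom.range_fiberι]; exact ⟨_, rfl⟩
      exact this
    refine ⟨g.image, g.imageι, g.toImage, inferInstance, flat_of_schDominant hY _ g.toImage hw, ?_⟩
    let u : Z' ⟶ pullback g.imageι ι := pullback.lift g.toImage z' (g.toImage_imageι)
    have hu1 : u ≫ pullback.fst _ _ = g.toImage := pullback.lift_fst _ _ _
    have hu2 : u ≫ pullback.snd _ _ = z' := pullback.lift_snd _ _ _
    have : IsClosedImmersion (u ≫ pullback.snd g.imageι ι) := by rw [hu2]; infer_instance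
    have : IsClosedImmersion u := .of_comp u (pullback.snd g.imageι ι)
    have hsq : IsPullback u (𝟙 Z') (pullback.fst g.imageι ι) g.toImage := by
      refine IsPullback.of_isLimit' ⟨by rw [hu1, Category.id_comp]⟩
        (PullbackCone.IsLimit.mk _ (fun c => c.snd) (fun c => ?_) (fun c => Category.comp_id _)
          fun c l _ hl => by simpa using hl)
      rw [← cancel_mono (pullback.fst g.imageι ι), Category.assoc, hu1]
      exact c.condition.symm
    have : IsSchemeTheoreticallyDominant u := .of_isPullback hsq.flip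
    have : IsIso u := IsClosedImmersion.isIso_of_ker_eq u (𝟙 _) u (Category.comp_id _)
      (by rw [u.ker_eq_bot, Scheme.Hom.ker_eq_bot (𝟙 _)])
    exact IsPullback.of_iso_pullback ⟨g.toImage_imageι⟩ (asIso u) hu1 hu2
  · intro Z₁ Z₂ z₁ z₂ w₁ w₂ h₁ h₂ hf₁ hf₂ s₁ s₂
    have key : ∀ {Z : Scheme.{u}} (z : Z ⟶ X) (w : Z' ⟶ Z), IsClosedImmersion z → Flat (z ≫ f) →
        IsPullback w z' z ι → z.ker = g.ker := by
      intro Z z w hz hfl hs
      have hp : IsPullback w (z' ≫ f.fiberToSpecResidueField (genericPoint Y)) (z ≫ f)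
          (Y.fromSpecResidueField (genericPoint Y)) :=
        hs.paste_vert (IsPullback.of_hasPullback _ _)
      have : IsSchemeTheoreticallyDominant w := .of_isPullback hp.flip
      have : QuasiCompact w := MorphismProperty.of_isPullback hp.flip (inferInstance : QuasiCompact (Y.fromSpecResidueField (genericPoint Y)))
      rw [hg, ← hs.w, Scheme.Hom.ker_comp, w.ker_eq_bot, Scheme.IdealSheafData.map_bot]
    have heq : z₂.ker = z₁.ker := (key z₂ w₂ h₂ hf₂ s₂).trans (key z₁ w₁ h₁ hf₁ s₁).symm
    have := IsClosedImmersion.isIso_lift z₂ z₁ heq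
    exact ⟨asIso (IsClosedImmersion.lift z₂ z₁ heq.le), IsClosedImmersion.lift_fac _ _ _⟩

end Groth.Calg4.FlatClosure
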