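import Mathlib
import Groth.Agent.LocCohBase.DepthLocal
import Groth.Agent.LocCohBase.CM
import Groth.Agent.Calg4.RegularFlat

/-!
Depth along flat local maps with zero-dimensional closed fibre.
-/

set_option autoImplicit false

universe u

open IsLocalRing TensorProduct

namespace Groth.Calg4

variable {A B : Type u} [CommRing A] [IsLocalRing A] [IsNoetherianRing A] [CommRing B] [IsLocalRing B]
  [IsNoetherianRing B] [Algebra A B] [IsLocalHom (algebraMap A B)] [Module.Flat A B]

theorem map_maximalIdeal_ne_top : (maximalIdeal A).map (algebraMap A B) ≠ ⊤ :=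
  ne_top_of_le_ne_top (maximalIdeal.isMaximal B).ne_top
    (((local_hom_TFAE (algebraMap A B)).out 0 2 rfl rfl).mp inferInstance)

variable (B) in
theorem le_depth_of_le_idealDepth_baseChange (n : ℕ) :
    ∀ (M : Type u) [AddCommGroup M] [Module A M] [Module.Finite A M],
      (n : ℕ∞) ≤ LocCoh.idealDepth ((maximalIdeal A).map (algebraMap A B)) (B ⊗[A] M) →
        (n : ℕ∞) ≤ LocCoh.depth A M := by
  induction n with
  | zero => exact fun _ _ _ _ _ => by simp
  | succ n ih =>
    intro M _ _ _ h
    rcases subsingleton_or_nontrivial M with hM | hM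
    · rw [LocCoh.depth, Groth.LocCohBase.idealDepth_eq_top_of_smul_top_eq_top (Subsingleton.elim _ _)]
      exact le_top
    have : Module.FaithfullyFlat A B := Module.FaithfullyFlat.of_flat_of_isLocalHom
    have hinj : Function.Injective (TensorProduct.mk A B M 1) :=
      Module.FaithfullyFlat.tensorProduct_mk_injective M
    have : Nontrivial (B ⊗[A] M) := hinj.nontrivial
    have hIN := Groth.LocCohBase.smul_maximalIdeal_ne_top (R := B) (B ⊗[A] M)
      (map_maximalIdeal_ne_top (A := A) (B := B))
    have hIM := Groth.LocCohBase.smul_maximalIdeal_ne_top (R := A) M (maximalIdeal.isMaximal A).ne_top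
    have h1 : (1 : ℕ∞) ≤ LocCoh.idealDepth (maximalIdeal A) M := by
      rw [Groth.LocCohBase.one_le_idealDepth_iff]
      intro q hq hle
      obtain ⟨hprime, a, ha⟩ := isAssociatedPrime_iff.mp hq
      obtain ⟨y, hy, hreg⟩ := Groth.LocCohBase.exists_regular_of_one_le hIN
        (le_trans (by exact_mod_cast Nat.succ_pos n) h)
      have hann : (maximalIdeal A).map (algebraMap A B) ≤
          ((⊥ : Submodule B (B ⊗[A] M)).colon {(1 : B) ⊗ₜ[A] a}) := by
        rw [Ideal.map_le_iff_le_comap]
        intro r hr
        have := hle hr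
        rw [ha, Submodule.mem_colon_singleton, Submodule.mem_bot] at this
        rw [Ideal.mem_comap, Submodule.mem_colon_singleton, Submodule.mem_bot, algebraMap_smul,
          ← TensorProduct.tmul_smul, this, TensorProduct.tmul_zero]
      have h0 := Submodule.mem_colon_singleton.mp (hann hy)
      rw [Submodule.mem_bot] at h0
      have ha0 : a = 0 := hinj (by
        rw [map_zero]; exact hreg (h0.trans (smul_zero y).symm))
      apply hprime.ne_top
      rw [ha, ha0, Ideal.eq_top_iff_one, Submodule.mem_colon_singleton, smul_zero]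
      exact zero_mem _
    obtain ⟨x, hx, hreg⟩ := Groth.LocCohBase.exists_regular_of_one_le hIM h1
    have hregN : IsSMulRegular (B ⊗[A] M) (algebraMap A B x) :=
      hreg.of_flat_of_isBaseChange (TensorProduct.isBaseChange A M B)
    rw [LocCoh.depth, ← Groth.LocCohBase.idealDepth_quotSMulTop_add_one _ M hIM hx hreg, Nat.cast_succ]
    rw [← Groth.LocCohBase.idealDepth_quotSMulTop_add_one _ (B ⊗[A] M) hIN
      (Ideal.mem_map_of_mem _ hx) hregN, Nat.cast_succ, ENat.add_le_add_iff_right (by simp)] at h
    rw [Groth.LocCohBase.idealDepth_congr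
      (QuotSMulTop.algebraMapTensorEquivTensorQuotSMulTop x M B)] at h
    exact add_le_add_left (ih _ h) 1

/-- Depth does not change along a flat local map with zero-dimensional closed fibre. -/
theorem depth_le_of_flat (hrad : maximalIdeal B ≤ ((maximalIdeal A).map (algebraMap A B)).radical) :
    LocCoh.depth B B ≤ LocCoh.depth A A := by
  refine Groth.LocCohBase.le_iff_forall_nat_le.2 fun n hn => ?_
  refine le_depth_of_le_idealDepth_baseChange B n A ?_
  rw [← Groth.LocCohBase.idealDepth_congr (AlgebraTensorModule.rid A B B).symm]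
  exact hn.trans (Groth.LocCohBase.idealDepth_mono hrad B)

theorem le_depth_of_flat : LocCoh.depth A A ≤ LocCoh.depth B B := by
  refine Groth.LocCohBase.le_iff_forall_nat_le.2 fun n hn => ?_
  have hA := Groth.LocCohBase.smul_maximalIdeal_ne_top (R := A) A (maximalIdeal.isMaximal A).ne_top
  have hB := Groth.LocCohBase.smul_maximalIdeal_ne_top (R := B) B (maximalIdeal.isMaximal B).ne_top
  obtain ⟨rs, hlen, hrs, hmem⟩ := (Groth.LocCohBase.le_idealDepth_iff_exists _ hA n).1 hn
  refine (Groth.LocCohBase.le_idealDepth_iff_exists _ hB n).2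
    ⟨rs.map (algebraMap A B), by simpa using hlen, hrs.of_flat, fun r hr => ?_⟩
  obtain ⟨r, hr', rfl⟩ := List.mem_map.1 hr
  exact ((local_hom_TFAE (algebraMap A B)).out 0 2 rfl rfl).mp inferInstance
    (Ideal.mem_map_of_mem _ (hmem r hr'))

end Groth.Calg4
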