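import Mathlib
import Groth.Prelude.Def_Found
import Groth.Prelude.Def_EGA4b
import Groth.Agent.Calg4.RegularHom
import Groth.Agent.Calg4.CompletionFlat

/-!
Descent of properties of formal fibres along a flat local map with regular completion map upstairs:
the tower `L ⊗ A^ → L ⊗ A'^ ← L ⊗ A'`.
-/

set_option autoImplicit false

universe u

open TensorProduct IsLocalRing

namespace Groth.Calg4

/-- The formal fibre tower. If `P` passes from Noetherian `D` to `E` along flat maps with regular fibres
and descends along faithfully flat maps, then it passes from the fibres of `A → A'` to the formal fibres of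
`A`, provided the completion map of `A'` is regular. -/
theorem formalFibre_of_flat (P : ∀ (D : Type u) [CommRing D], Prop)
    (hequiv : ∀ (D E : Type u) [CommRing D] [CommRing E], (D ≃+* E) → P D → P E)
    (hasc : ∀ (D E : Type u) [CommRing D] [CommRing E] [Algebra D E] [Module.Flat D E]
      [IsNoetherianRing D] [IsNoetherianRing E],
      (∀ (q : Ideal D) [q.IsPrime], IsRegularRing (q.Fiber E)) → P D → P E)
    (hdesc : ∀ (D E : Type u) [CommRing D] [CommRing E] [Algebra D E] [Module.FaithfullyFlat D E]
      [IsNoetherianRing D], P E → P D)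
    (A A' : Type u) [CommRing A] [CommRing A'] [IsNoetherianRing A] [IsNoetherianRing A']
    [IsLocalRing A] [IsLocalRing A'] [Algebra A A'] [IsLocalHom (algebraMap A A')] [Module.Flat A A']
    (hA' : CAlg.IsRegularHom A' (AdicCompletion (maximalIdeal A') A'))
    (L : Type u) [Field L] [Algebra A L] [Algebra.EssFiniteType A L] (hL : P (L ⊗[A] A')) :
    P (L ⊗[A] AdicCompletion (maximalIdeal A) A) := by
  let C := AdicCompletion (maximalIdeal A') A'
  let C₀ := AdicCompletion (maximalIdeal A) A
  have : IsNoetherianRing C := Groth.Calg1.isNoetherianRing_adicCompletion _ (IsNoetherian.noetherian _)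
  have : IsNoetherianRing C₀ := Groth.Calg1.isNoetherianRing_adicCompletion _ (IsNoetherian.noetherian _)
  have := hA'.1
  have hle : (maximalIdeal A).map (algebraMap A A') ≤ maximalIdeal A' :=
    ((local_hom_TFAE (algebraMap A A')).out 0 2).mp ‹_›
  let : Algebra C₀ C := (Groth.PropsBasic.GRingLocal.cplMap _ _ (algebraMap A A') hle).toAlgebra
  have : IsScalarTower A C₀ C := IsScalarTower.of_algebraMap_eq fun a =>
    (cplMap_algebraMap _ _ (algebraMap A A') hle a).symm
  have : IsLocalHom (algebraMap A C) := by
    refine ((local_hom_TFAE _).out 0 2).mpr ?_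
    rw [IsScalarTower.algebraMap_eq A A' C, ← Ideal.map_map, AdicCompletion.maximalIdeal_eq_map]
    exact Ideal.map_mono hle
  have : Module.Flat A C := Module.Flat.trans A A' C
  have := faithfullyFlat_completion_of_flat A C
  let D := A' ⊗[A] L
  have : IsNoetherianRing D := Algebra.EssFiniteType.isNoetherianRing A' D
  let E := D ⊗[A'] C
  have : IsNoetherianRing (C ⊗[A] L) := Algebra.EssFiniteType.isNoetherianRing C _
  have : IsNoetherianRing E := isNoetherianRing_of_ringEquiv (C ⊗[A] L)
    ((fibreTower A A' C L).trans (Algebra.TensorProduct.comm A L C).toRingEquiv).symm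
  have hreg : CAlg.IsRegularHom D E := IsRegularHom.baseChange hA' D
  have := hreg.1
  have hE : P E := hasc D E
    (fun q _ => IsRegularHom.isRegularRing_tensor hreg q.ResidueField)
    (hequiv _ _ (Algebra.TensorProduct.comm A L A').toRingEquiv hL)
  have hLC : P ((C₀ ⊗[A] L) ⊗[C₀] C) :=
    hequiv _ _ ((fibreTower A A' C L).trans (fibreTower A C₀ C L).symm) hE
  have : IsNoetherianRing (C₀ ⊗[A] L) := Algebra.EssFiniteType.isNoetherianRing C₀ _
  exact hequiv _ _ (Algebra.TensorProduct.comm A C₀ L).toRingEquiv (hdesc (C₀ ⊗[A] L) _ hLC)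

end Groth.Calg4
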