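import Groth.Agent.FlatMorOne.GenFlatScheme

/-! Generic freeness and finite presentation of finite modules over a reduced base. -/

set_option autoImplicit false

universe u

open TensorProduct

namespace Groth.Calg4.GenericFreeReduced

open Groth.FlatMorOne

variable {R : Type u} [CommRing R]

/-- A finite module over a quotient of `P`, finitely presented over `P` up to powers of `f`, has a
finitely generated module of relations up to powers of `f`. -/
theorem exists_relations {P S M : Type u} [CommRing P] [Algebra R P] [CommRing S] [Algebra R S]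
    [Algebra P S] [IsScalarTower R P S] [AddCommGroup M] [Module R M] [Module P M] [IsScalarTower R P M]
    [Module S M] [IsScalarTower R S M] [IsScalarTower P S M] [Module.Finite S M]
    (hPS : Function.Surjective (algebraMap P S)) {f : R} (h : GoodPres f P M) :
    ∃ (q : ℕ) (π₁ : (Fin q → S) →ₗ[S] M) (U : Submodule S (Fin q → S)), Function.Surjective π₁ ∧ U.FG ∧
      U ≤ LinearMap.ker π₁ ∧ ∀ u ∈ LinearMap.ker π₁, ∃ k : ℕ, f ^ k • u ∈ U := by
  classical
  obtain ⟨m, π, U', ⟨t, ht⟩, hle, hs, hker⟩ := h
  obtain ⟨q, π₁, hπ₁⟩ := Module.Finite.exists_fin' S M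
  choose b hb using fun i : Fin m => hπ₁ (π (Pi.single i 1))
  let B : (Fin m → P) →ₗ[P] (Fin q → S) := Fintype.linearCombination P b
  have hB : ∀ v, π₁ (B v) = π v := fun v => by
    conv_rhs => rw [pi_eq_sum_univ' v]
    rw [Fintype.linearCombination_apply, map_sum, map_sum]
    refine Finset.sum_congr rfl fun i _ => ?_
    rw [LinearMap.map_smul_of_tower, hb, map_smul]
  choose k a ha using fun j : Fin q => mem_satPow.mp (hs.ge (Submodule.mem_top (x := π₁ (Pi.single j 1))))
  let K := Finset.univ.sup k
  let a' : Fin q → (Fin m → P) := fun j => f ^ (K - k j) • a j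
  have ha' : ∀ j, π (a' j) = f ^ K • π₁ (Pi.single j 1) := fun j => by
    simp only [a']
    rw [LinearMap.map_smul_of_tower, ha, smul_smul, ← pow_add,
      Nat.sub_add_cancel (Finset.le_sup (Finset.mem_univ j))]
  let d : Fin q → (Fin q → S) := fun j => B (a' j) - f ^ K • (Pi.single j (1 : S) : Fin q → S)
  refine ⟨q, π₁, Submodule.span S (B '' (t : Set (Fin m → P)) ∪ Set.range d), hπ₁,
    Submodule.fg_span ((t.finite_toSet.image _).union (Set.finite_range _)), Submodule.span_le.mpr ?_,
    fun u hu => ?_⟩
  · rintro _ (⟨v, hv, rfl⟩ | ⟨j, rfl⟩)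
    · rw [SetLike.mem_coe, LinearMap.mem_ker, hB]
      exact hle (ht ▸ Submodule.subset_span hv)
    · simp only [d]
      rw [SetLike.mem_coe, LinearMap.mem_ker, map_sub, hB, ha', LinearMap.map_smul_of_tower, sub_self]
  · choose v hv using fun j => hPS (u j)
    have hu' : u = ∑ j, v j • Pi.single j (1 : S) := by
      conv_lhs => rw [pi_eq_sum_univ' u]
      refine Finset.sum_congr rfl fun j _ => ?_
      rw [← hv j, algebraMap_smul]
    have hker' : ∑ j, v j • a' j ∈ LinearMap.ker π := by
      rw [LinearMap.mem_ker, map_sum]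
      simp only [map_smul, ha', smul_comm _ (f ^ K)]
      rw [← Finset.smul_sum]
      have h0 : π₁ u = 0 := hu
      rw [hu', map_sum] at h0
      simp only [LinearMap.map_smul_of_tower] at h0
      rw [h0, smul_zero]
    obtain ⟨l, hl⟩ := mem_satPow.mp (hker hker')
    have hBU : ∀ x ∈ U', B x ∈ Submodule.span S (B '' (t : Set (Fin m → P)) ∪ Set.range d) := by
      intro x hx
      rw [← ht] at hx
      have h1 : B x ∈ Submodule.span P (B '' (t : Set (Fin m → P))) := by
        rw [Submodule.span_image]; exact Submodule.mem_map_of_mem hx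
      exact Submodule.span_mono Set.subset_union_left (Submodule.span_le_restrictScalars P S _ h1)
    refine ⟨l + K, ?_⟩
    have h2 : f ^ (l + K) • u = B (f ^ l • ∑ j, v j • a' j) - f ^ l • ∑ j, v j • d j := by
      rw [LinearMap.map_smul_of_tower, ← smul_sub, map_sum, ← Finset.sum_sub_distrib, pow_add, mul_smul]
      congr 1
      conv_lhs => rw [hu', Finset.smul_sum]
      refine Finset.sum_congr rfl fun j _ => ?_
      simp only [d]
      rw [map_smul, ← smul_sub, sub_sub_cancel, smul_comm]
    rw [h2]
    exact sub_mem (hBU _ hl) (Submodule.smul_of_tower_mem _ _ (Submodule.sum_mem _ fun j _ =>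
      Submodule.smul_of_tower_mem _ _ (Submodule.subset_span (Or.inr ⟨j, rfl⟩))))

/-- The full package at a single element. -/
theorem exists_good [IsReduced R] (S : Type u) [CommRing S] [Algebra R S] [Algebra.FiniteType R S]
    (M : Type u) [AddCommGroup M] [Module S M] [Module R M] [IsScalarTower R S M] [Module.Finite S M]
    {g : R} (hg : g ≠ 0) :
    ∃ f : R, f ≠ 0 ∧ g ∣ f ∧
      Module.Free (Localization.Away f) (LocalizedModule (Submonoid.powers f) M) ∧
      Module.Free (Localization.Away f) (LocalizedModule (Submonoid.powers f) S) ∧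
      (Localization.awayMap (algebraMap R S) f).FinitePresentation ∧
      Module.FinitePresentation (Localization.Away (algebraMap R S f))
        (LocalizedModule (Submonoid.powers (algebraMap R S f)) M) := by
  obtain ⟨g₁, hg₁, hgg₁, hg₁S⟩ := exists_flat_finitePresentation_away (R := R) S hg
  obtain ⟨n, φ, hφ⟩ := Algebra.FiniteType.iff_quotient_mvPolynomial''.mp ‹Algebra.FiniteType R S›
  let P := MvPolynomial (Fin n) R
  let _ : Algebra P S := φ.toRingHom.toAlgebra
  have : IsScalarTower R P S := IsScalarTower.of_algebraMap_eq fun r => (φ.commutes r).symm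
  let _ : Module P M := Module.compHom M φ.toRingHom
  have : IsScalarTower P S M := IsScalarTower.of_algebraMap_smul fun _ _ => rfl
  have : IsScalarTower R P M := IsScalarTower.of_algebraMap_smul fun r x => by
    show φ (algebraMap R P r) • x = r • x
    rw [φ.commutes, algebraMap_smul]
  have : Module.Finite P S := Module.Finite.of_surjective (Algebra.linearMap P S) hφ
  have : Module.Finite P M := Module.Finite.trans S M
  obtain ⟨g₂, hg₂, hg₁g₂, hfreeS, -⟩ := exists_good_mvPolynomial n S g₁ hg₁
  obtain ⟨f, hf, hg₂f, hfreeM, hpres⟩ := exists_good_mvPolynomial n M g₂ hg₂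
  refine ⟨f, hf, (hgg₁.trans hg₁g₂).trans hg₂f, hfreeM.free_localized, (hfreeS.mono hg₂f).free_localized, ?_, ?_⟩
  · obtain ⟨h1, h2⟩ := hg₁S f (hg₁g₂.trans hg₂f)
    let R' := Localization.Away f
    let S' := Localization.Away (algebraMap R S f)
    let _ : Algebra R' S' := (Localization.awayMap (algebraMap R S) f).toAlgebra
    have : IsScalarTower R R' S' := IsScalarTower.of_algebraMap_eq fun r => by
      show algebraMap R S' r = IsLocalization.Away.map R' S' (algebraMap R S) f (algebraMap R R' r)
      rw [IsLocalization.Away.map, IsLocalization.map_eq]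
      rfl
    exact (flat_finitePresentation_of_tensor (R := R) (S := S) (R' := R') (S' := S') f h1 h2).2
  · obtain ⟨q, π₁, U, hπ₁, hfg, hle, hsat⟩ := exists_relations hφ hpres
    exact Groth.GenericFree.finitePresentation_localizedModule π₁ hπ₁ U hfg hle f hsat

end Groth.Calg4.GenericFreeReduced
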