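import Groth.Prelude.Def_EGA4b
import Groth.Agent.GenericFree.Presentation
import Groth.Agent.Ega4Algebra2.FlatPiece
import Mathlib.RingTheory.Filtration
import Mathlib.RingTheory.ReesAlgebra
import Mathlib.RingTheory.Localization.BaseChange

/-! Generic normal flatness. -/

set_option autoImplicit false

universe u

open TensorProduct

namespace Groth.Calg4.GenericNormalFlat

variable {A : Type u} [CommRing A] (I : Ideal A) (M : Type u) [AddCommGroup M] [Module A M]

/-- Generic flatness of direct summands of a finite module over a finite type algebra, modulo `I`. -/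
theorem exists_flat_away_of_retracts [I.IsPrime] (S₀ : Type u) [CommRing S₀] [Algebra A S₀]
    [Algebra.FiniteType A S₀] (W : Type u) [AddCommGroup W] [Module A W] [Module S₀ W]
    [IsScalarTower A S₀ W] [Module.Finite S₀ W] (P : ℕ → Type u) [∀ n, AddCommGroup (P n)]
    [∀ n, Module A (P n)] (jn : ∀ n, P n →ₗ[A] W) (cn : ∀ n, W →ₗ[A] P n)
    (hcj : ∀ n x, cn n (jn n x) = x) :
    ∃ f : A, f ∉ I ∧ ∀ n : ℕ, Module.Flat (Localization.Away (Ideal.Quotient.mk I f))
      (Localization.Away (Ideal.Quotient.mk I f) ⊗[A ⧸ I] ((A ⧸ I) ⊗[A] P n)) := by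
  let J : Ideal S₀ := I.map (algebraMap A S₀)
  let Q := W ⧸ (J • (⊤ : Submodule S₀ W))
  let R := A ⧸ I
  let S := S₀ ⧸ J
  letI : Algebra R S := (Ideal.quotientMap J (algebraMap A S₀) Ideal.le_comap_map).toAlgebra
  haveI : IsScalarTower A R S := IsScalarTower.of_algebraMap_eq fun _ => rfl
  haveI : Algebra.FiniteType A S :=
    Algebra.FiniteType.of_surjective (Ideal.Quotient.mkₐ A J) Ideal.Quotient.mk_surjective
  haveI : Algebra.FiniteType R S := Algebra.FiniteType.of_restrictScalars_finiteType A R S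
  letI : Module R Q := Module.compHom Q (algebraMap R S)
  haveI : IsScalarTower R S Q := ⟨fun r s q => by
    rw [Algebra.smul_def, mul_smul]
    rfl⟩
  haveI : IsScalarTower A R Q := ⟨fun a r q => by
    show algebraMap R S (a • r) • q = a • (algebraMap R S r • q)
    rw [Algebra.smul_def, map_mul, mul_smul, ← IsScalarTower.algebraMap_apply A R S,
      IsScalarTower.algebraMap_apply A S₀ S, ← algebraMap_smul S₀ a (algebraMap R S r • q)]
    rfl⟩
  haveI : Module.Finite S Q := Module.Finite.of_restrictScalars_finite S₀ S Q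
  obtain ⟨fb, hfb, hfree, -⟩ := (Groth.GenericFree.gf_of_finiteType (R := R) S Q).exists_free
  obtain ⟨f, rfl⟩ := Ideal.Quotient.mk_surjective fb
  refine ⟨f, fun hf => hfb (Ideal.Quotient.eq_zero_iff_mem.mpr hf), fun n => ?_⟩
  let Rf := Localization.Away (Ideal.Quotient.mk I f)
  haveI : Module.Free Rf (LocalizedModule (Submonoid.powers (Ideal.Quotient.mk I f)) Q) :=
    hfree _ hfb dvd_rfl
  haveI : Module.Flat Rf (Rf ⊗[R] Q) :=
    Module.Flat.of_linearEquiv (LocalizedModule.equivTensorProduct _ Q).symm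
  let N := P n
  let T := R ⊗[A] N
  let i₀ : N →ₗ[A] Q := ((J • (⊤ : Submodule S₀ W)).mkQ.restrictScalars A).comp (jn n)
  let i : T →ₗ[R] Q := i₀.liftBaseChange R
  let c : W →ₗ[A] N := cn n
  let c₁ : W →ₗ[A] T := (TensorProduct.mk A R N 1).comp c
  have hker : (J • (⊤ : Submodule S₀ W)).restrictScalars A ≤ LinearMap.ker c₁ := by
    rw [Ideal.smul_restrictScalars, Submodule.smul_le]
    intro a ha w _
    rw [LinearMap.mem_ker, map_smul]
    show a • ((1 : R) ⊗ₜ[A] c w) = 0
    rw [TensorProduct.smul_tmul', Algebra.smul_def, mul_one,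
      show algebraMap A R a = 0 from Ideal.Quotient.eq_zero_iff_mem.mpr ha, TensorProduct.zero_tmul]
  let π₀ : Q →ₗ[A] T :=
    (((J • (⊤ : Submodule S₀ W)).restrictScalars A).liftQ c₁ hker).comp
      (Submodule.Quotient.restrictScalarsEquiv A (J • (⊤ : Submodule S₀ W))).symm.toLinearMap
  let π : Q →ₗ[R] T := LinearMap.extendScalarsOfSurjective Ideal.Quotient.mk_surjective π₀
  have hπi : π.comp i = LinearMap.id := by
    refine LinearMap.restrictScalars_injective A (TensorProduct.ext' fun r x => ?_)
    show π (r • i₀ x) = r ⊗ₜ[A] x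
    rw [map_smul]
    have h1 : π (i₀ x) = (1 : R) ⊗ₜ[A] x := by
      show ((J • (⊤ : Submodule S₀ W)).restrictScalars A).liftQ c₁ hker (Submodule.Quotient.mk _) = _
      rw [Submodule.liftQ_apply]
      exact congrArg (fun t => (1 : R) ⊗ₜ[A] t) (hcj n x)
    rw [h1, TensorProduct.smul_tmul', smul_eq_mul, mul_one]
  exact Module.Flat.of_retract (i.baseChange Rf) (π.baseChange Rf) (by
    rw [← LinearMap.baseChange_comp, hπi, LinearMap.baseChange_id])

/-- After inverting one element outside a prime `I`, all `(A/I) ⊗ I^n M` are flat. -/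
theorem exists_flat_away [IsNoetherianRing A] [Module.Finite A M] [I.IsPrime] :
    ∃ f : A, f ∉ I ∧ ∀ n : ℕ, Module.Flat (Localization.Away (Ideal.Quotient.mk I f))
      (Localization.Away (Ideal.Quotient.mk I f) ⊗[A ⧸ I]
        ((A ⧸ I) ⊗[A] ↥(I ^ n • (⊤ : Submodule A M)))) := by
  let F := I.stableFiltration (⊤ : Submodule A M)
  have : Module.Finite ↥(reesAlgebra I) F.submodule := Module.Finite.of_fg
    ((Ideal.Filtration.submodule_fg_iff_stable _ fun i => IsNoetherian.noetherian _).mpr
      (Ideal.stableFiltration_stable I ⊤))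
  refine exists_flat_away_of_retracts I ↥(reesAlgebra I) F.submodule
    (fun n => ↥(I ^ n • (⊤ : Submodule A M)))
    (fun n =>
      { toFun := fun x => ⟨PolynomialModule.single A n (x : M), by
          rw [Ideal.Filtration.mem_submodule]
          intro j
          rw [PolynomialModule.coeff_single, Finsupp.single_apply]
          split_ifs with h
          · subst h; exact x.2
          · exact zero_mem _⟩
        map_add' := fun x y => Subtype.ext (by simp [map_add])
        map_smul' := fun a x => Subtype.ext (by simp [PolynomialModule.single_smul]) })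
    (fun n =>
      { toFun := fun w => ⟨(w : PolynomialModule A M).coeff n, w.2 n⟩
        map_add' := fun x y => Subtype.ext (by simp)
        map_smul' := fun a x => Subtype.ext (by simp; rfl) })
    fun n x => Subtype.ext ?_
  show (PolynomialModule.single A n (x : M)).coeff n = x
  rw [PolynomialModule.coeff_single, Finsupp.single_eq_same]

/-- The localization of `I ^ n • ⊤`. -/
theorem exists_isLocalizedModule_pow_smul (f : A) (n : ℕ) :
    ∃ g : ↥(I ^ n • (⊤ : Submodule A M)) →ₗ[A]
        ↥((I.map (algebraMap A (Localization.Away f))) ^ n •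
          (⊤ : Submodule (Localization.Away f) (LocalizedModule (Submonoid.powers f) M))),
      IsLocalizedModule (Submonoid.powers f) g := by
  let A' := Localization.Away f
  let P := Submonoid.powers f
  let M' := LocalizedModule P M
  let mk' := LocalizedModule.mkLinearMap P M
  let I' := I.map (algebraMap A A')
  have hmem : ∀ x ∈ I ^ n • (⊤ : Submodule A M), mk' x ∈ I' ^ n • (⊤ : Submodule A' M') := by
    intro x hx
    refine Submodule.smul_induction_on hx (fun a ha m _ => ?_) fun x y hx hy => by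
      rw [map_add]; exact add_mem hx hy
    rw [map_smul, ← algebraMap_smul A' a]
    refine Submodule.smul_mem_smul ?_ Submodule.mem_top
    rw [← Ideal.map_pow]
    exact Ideal.mem_map_of_mem _ ha
  let g : ↥(I ^ n • (⊤ : Submodule A M)) →ₗ[A] ↥(I' ^ n • (⊤ : Submodule A' M')) :=
    { toFun := fun x => ⟨mk' x, hmem x x.2⟩
      map_add' := fun x y => Subtype.ext (map_add mk' (x : M) y)
      map_smul' := fun a x => Subtype.ext (map_smul mk' a (x : M)) }
  refine ⟨g, ⟨fun s => ?_, fun y => ?_, fun {x₁ x₂} h => ?_⟩⟩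
  · rw [Module.End.isUnit_iff]
    obtain ⟨u, hu⟩ := IsLocalization.map_units A' s
    have hs : ∀ z : ↥(I' ^ n • (⊤ : Submodule A' M')), (s : A) • z = (u : A') • z := fun z => by
      rw [hu, algebraMap_smul]
    refine ⟨fun z w hzw => ?_, fun z => ⟨(↑u⁻¹ : A') • z, ?_⟩⟩
    · have h1 : (u : A') • z = (u : A') • w := by rw [← hs, ← hs]; exact hzw
      have h2 := congrArg ((↑u⁻¹ : A') • ·) h1
      simpa [smul_smul] using h2
    · show (s : A) • ((↑u⁻¹ : A') • z) = z
      rw [hs, smul_smul, Units.mul_inv, one_smul]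
  · suffices H : ∀ y ∈ I' ^ n • (⊤ : Submodule A' M'),
        ∃ (s : P) (x : M), x ∈ I ^ n • (⊤ : Submodule A M) ∧ (s : A) • y = mk' x by
      obtain ⟨s, x, hx, hxy⟩ := H y y.2
      exact ⟨(⟨x, hx⟩, s), Subtype.ext hxy⟩
    intro y hy
    refine Submodule.smul_induction_on hy (fun a ha m' _ => ?_) fun y z hy hz => ?_
    · rw [← Ideal.map_pow, IsLocalization.mem_map_algebraMap_iff P A'] at ha
      obtain ⟨⟨⟨b, hb⟩, s⟩, hbs⟩ := ha
      obtain ⟨⟨m, t⟩, hmt⟩ := IsLocalizedModule.surj P mk' m'
      refine ⟨s * t, b • m, Submodule.smul_mem_smul hb Submodule.mem_top, ?_⟩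
      change (t : A) • m' = mk' m at hmt
      rw [map_smul, ← hmt, ← algebraMap_smul A' b, ← hbs, Submonoid.coe_mul, ← algebraMap_smul A' (t : A),
        ← algebraMap_smul A' ((s : A) * (t : A)), smul_smul, smul_smul, map_mul]
      congr 1
      ring
    · obtain ⟨s, x, hx, hxy⟩ := hy
      obtain ⟨t, x', hx', hxy'⟩ := hz
      refine ⟨s * t, (t : A) • x + (s : A) • x', add_mem (Submodule.smul_mem _ _ hx) (Submodule.smul_mem _ _ hx'), ?_⟩
      rw [map_add, map_smul, map_smul, ← hxy, ← hxy', Submonoid.coe_mul, smul_smul, smul_smul, smul_add,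
        mul_comm (t : A)]
  · obtain ⟨c, hc⟩ := IsLocalizedModule.exists_of_eq (S := P) (f := mk') (congrArg Subtype.val h)
    exact ⟨c, Subtype.ext hc⟩

theorem exists_isNormallyFlat [IsNoetherianRing A] [Module.Finite A M] [I.IsPrime] :
    ∃ f : A, f ∉ I ∧ EGA4.IsNormallyFlat (I.map (algebraMap A (Localization.Away f)))
      (LocalizedModule (Submonoid.powers f) M) := by
  obtain ⟨f, hf, hflat⟩ := exists_flat_away I M
  refine ⟨f, hf, fun n => ?_⟩
  rw [← Groth.Ega4b.flatQ_iff_quotient]
  let A' := Localization.Away f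
  let I' := I.map (algebraMap A A')
  let R := A ⧸ I
  let Rf := Localization.Away (Ideal.Quotient.mk I f)
  let D := A' ⧸ I'
  letI : Algebra R D := (Ideal.quotientMap I' (algebraMap A A') Ideal.le_comap_map).toAlgebra
  haveI : IsScalarTower A R D := IsScalarTower.of_algebraMap_eq fun _ => rfl
  have hu : IsUnit (algebraMap R D (Ideal.Quotient.mk I f)) :=
    (IsLocalization.map_units A' (⟨f, Submonoid.mem_powers f⟩ : Submonoid.powers f)).map
      (Ideal.Quotient.mk I')
  letI : Algebra Rf D := (IsLocalization.Away.lift (Ideal.Quotient.mk I f) hu).toAlgebra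
  haveI : IsScalarTower R Rf D := IsScalarTower.of_algebraMap_eq fun r =>
    (IsLocalization.Away.lift_eq (Ideal.Quotient.mk I f) hu r).symm
  let N := ↥(I ^ n • (⊤ : Submodule A M))
  let N' := ↥(I' ^ n • (⊤ : Submodule A' (LocalizedModule (Submonoid.powers f) M)))
  obtain ⟨g, hg⟩ := exists_isLocalizedModule_pow_smul I M f n
  have hbc : IsBaseChange A' g := IsLocalizedModule.isBaseChange (Submonoid.powers f) A' g
  haveI : Module.Flat Rf (Rf ⊗[R] (R ⊗[A] N)) := hflat n
  have h1 : Module.Flat D (D ⊗[Rf] (Rf ⊗[R] (R ⊗[A] N))) := inferInstance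
  let e : D ⊗[A'] N' ≃ₗ[D] D ⊗[Rf] (Rf ⊗[R] (R ⊗[A] N)) :=
    (AlgebraTensorModule.congr (LinearEquiv.refl D D) hbc.equiv.symm).trans <|
      (AlgebraTensorModule.cancelBaseChange A A' D D N).trans <|
        (AlgebraTensorModule.cancelBaseChange A R D D N).symm.trans
          (AlgebraTensorModule.cancelBaseChange R Rf D D (R ⊗[A] N)).symm
  exact Module.Flat.of_linearEquiv e

end Groth.Calg4.GenericNormalFlat
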