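import Groth.Prelude.Def_Grpd
import Groth.Agent.GitQuot.GrpdShear
import Groth.Agent.FibreDim.BaseChange
import Groth.Agent.GrpschAbsch.GrpDim

/-!
# Groupoid schemes over a field are equidimensional
-/

set_option autoImplicit false
universe u

open AlgebraicGeometry CategoryTheory CategoryTheory.Limits

namespace Groth.Calg4.GrpdDim

noncomputable section

variable {S : Scheme.{u}} (G : Grpd.GroupoidScheme S) {T : Scheme.{u}} (ρ : T ⟶ G.R)

/-- Composition with the arrows `ρ`: from the `s`-fibre over `t ρ` to the one over `s ρ`. -/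
def rightTrans : pullback G.s (ρ ≫ G.t) ⟶ pullback G.s (ρ ≫ G.s) :=
  pullback.lift
    (Groth.GrpdBasic.comp G (pullback.fst G.s (ρ ≫ G.t)) (pullback.snd G.s (ρ ≫ G.t) ≫ ρ)
      (by rw [Category.assoc]; exact pullback.condition))
    (pullback.snd G.s (ρ ≫ G.t)) (by rw [Groth.GrpdBasic.comp_s, Category.assoc])

/-- Composition with the inverse arrows. -/
def rightTransInv : pullback G.s (ρ ≫ G.s) ⟶ pullback G.s (ρ ≫ G.t) :=
  pullback.lift
    (Groth.GrpdBasic.comp G (pullback.fst G.s (ρ ≫ G.s)) ((pullback.snd G.s (ρ ≫ G.s) ≫ ρ) ≫ G.i)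
      (by rw [Category.assoc, Category.assoc, G.i_t]; exact pullback.condition))
    (pullback.snd G.s (ρ ≫ G.s)) (by rw [Groth.GrpdBasic.comp_s, Category.assoc, Category.assoc, G.i_s])

theorem rightTrans_snd :
    rightTrans G ρ ≫ pullback.snd G.s (ρ ≫ G.s) = pullback.snd G.s (ρ ≫ G.t) :=
  pullback.lift_snd _ _ _

theorem rightTransInv_snd :
    rightTransInv G ρ ≫ pullback.snd G.s (ρ ≫ G.t) = pullback.snd G.s (ρ ≫ G.s) :=
  pullback.lift_snd _ _ _

/-- The translation isomorphism of the `s`-fibres. -/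
def rightTransIso : pullback G.s (ρ ≫ G.t) ≅ pullback G.s (ρ ≫ G.s) where
  hom := rightTrans G ρ
  inv := rightTransInv G ρ
  hom_inv_id := by
    apply pullback.hom_ext
    · rw [Category.assoc, Category.id_comp, show rightTransInv G ρ ≫ pullback.fst G.s (ρ ≫ G.t) =
        Groth.GrpdBasic.comp G (pullback.fst G.s (ρ ≫ G.s)) ((pullback.snd G.s (ρ ≫ G.s) ≫ ρ) ≫ G.i)
          (by rw [Category.assoc, Category.assoc, G.i_t]; exact pullback.condition)
          from pullback.lift_fst _ _ _, Groth.GrpdBasic.precomp_comp]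
      refine Eq.trans ?_ (Groth.GrpdBasic.comp_cancel_inv G (pullback.fst G.s (ρ ≫ G.t))
        (pullback.snd G.s (ρ ≫ G.t) ≫ ρ) (by rw [Category.assoc]; exact pullback.condition))
      apply Groth.GrpdBasic.comp_congr
      · exact pullback.lift_fst _ _ _
      · exact (Category.assoc _ _ _).symm.trans (congrArg (fun f => f ≫ G.i)
          ((Category.assoc _ _ _).symm.trans (congrArg (fun f => f ≫ ρ) (rightTrans_snd G ρ))))
    · rw [Category.assoc, rightTransInv_snd, rightTrans_snd, Category.id_comp]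
  inv_hom_id := by
    apply pullback.hom_ext
    · rw [Category.assoc, Category.id_comp, show rightTrans G ρ ≫ pullback.fst G.s (ρ ≫ G.s) =
        Groth.GrpdBasic.comp G (pullback.fst G.s (ρ ≫ G.t)) (pullback.snd G.s (ρ ≫ G.t) ≫ ρ)
          (by rw [Category.assoc]; exact pullback.condition) from pullback.lift_fst _ _ _,
        Groth.GrpdBasic.precomp_comp]
      refine Eq.trans ?_ (Groth.GrpdBasic.comp_inv_cancel G (pullback.fst G.s (ρ ≫ G.s))
        (pullback.snd G.s (ρ ≫ G.s) ≫ ρ)
        (by rw [Category.assoc, Category.assoc, G.i_t]; exact pullback.condition))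
      apply Groth.GrpdBasic.comp_congr
      · exact pullback.lift_fst _ _ _
      · exact (Category.assoc _ _ _).symm.trans (congrArg (fun f => f ≫ ρ) (rightTransInv_snd G ρ))
    · rw [Category.assoc, rightTrans_snd, rightTransInv_snd, Category.id_comp]

variable {k : Type u} [Field k]

omit ρ in
/-- The local dimension at every point is that at the identity. -/
theorem localDim_eq_localDim_e (eU : G.U ≅ Spec (CommRingCat.of k)) [LocallyOfFiniteType G.s]
    (r : G.R) : FlatMor.localDim G.R r = FlatMor.localDim G.R (G.e (G.t r)) := by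
  let T := Spec (G.R.residueField r)
  let ρ : T ⟶ G.R := G.R.fromSpecResidueField r
  let o : T := IsLocalRing.closedPoint (G.R.residueField r)
  have hρ : ρ o = r := Scheme.fromSpecResidueField_apply r o
  have hq : ∀ (v : T ⟶ G.U) (z : ↥(pullback G.s v)),
      FlatMor.localDim (↥(pullback G.s v)) z = FlatMor.localDim G.R (pullback.fst G.s v z) := by
    intro v z
    obtain ⟨φ, hφ⟩ := Spec.map_surjective (v ≫ eU.hom)
    have sq : IsPullback (pullback.fst G.s v) (pullback.snd G.s v) (G.s ≫ eU.hom) (Spec.map φ) := by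
      rw [hφ]
      exact IsPullback.of_iso (IsPullback.of_hasPullback G.s v) (Iso.refl _) (Iso.refl _) (Iso.refl _)
        eU (by simp) (by simp) (by simp) (by simp)
    exact Groth.FibreDim.localDim_eq_of_isPullback (k := k) (K := G.R.residueField r) φ
      (G.s ≫ eU.hom) (pullback.snd G.s v) (pullback.fst G.s v) sq z
  let x : T ⟶ pullback G.s (ρ ≫ G.t) := pullback.lift ((ρ ≫ G.t) ≫ G.e) (𝟙 T)
    (by rw [Category.assoc, G.e_s, Category.comp_id, Category.id_comp])
  have h1 : pullback.fst G.s (ρ ≫ G.t) (x o) = G.e (G.t r) := by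
    rw [← Scheme.Hom.comp_apply, pullback.lift_fst, Scheme.Hom.comp_apply, Scheme.Hom.comp_apply, hρ]
  have h2 : pullback.fst G.s (ρ ≫ G.s) ((rightTransIso G ρ).hom (x o)) = r := by
    rw [← Scheme.Hom.comp_apply, ← Scheme.Hom.comp_apply]
    have : x ≫ (rightTransIso G ρ).hom ≫ pullback.fst G.s (ρ ≫ G.s) = ρ := by
      rw [show (rightTransIso G ρ).hom ≫ pullback.fst G.s (ρ ≫ G.s) =
        Groth.GrpdBasic.comp G (pullback.fst G.s (ρ ≫ G.t)) (pullback.snd G.s (ρ ≫ G.t) ≫ ρ)
          (by rw [Category.assoc]; exact pullback.condition) from pullback.lift_fst _ _ _,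
        Groth.GrpdBasic.precomp_comp]
      refine Eq.trans ?_ (Groth.GrpdBasic.unit_comp G ρ (u := ρ ≫ G.t) rfl)
      apply Groth.GrpdBasic.comp_congr
      · exact pullback.lift_fst _ _ _
      · exact ((Category.assoc _ _ _).symm.trans
          (congrArg (fun f => f ≫ ρ) (pullback.lift_snd _ _ _))).trans (Category.id_comp ρ)
    rw [this, hρ]
  rw [← h1, ← hq, ← congrArg (FlatMor.localDim G.R) h2, ← hq]
  exact (Groth.FibreDim.localDim_eq_of_homeomorph (Scheme.homeoOfIso (rightTransIso G ρ)) (x o)).symm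

omit ρ in
/-- Local rings at closed points have full dimension. -/
theorem ringKrullDim_stalk_closed (eU : G.U ≅ Spec (CommRingCat.of k)) [LocallyOfFiniteType G.s]
    {r : G.R} (hr : IsClosed ({r} : Set G.R)) :
    ringKrullDim (G.R.presheaf.stalk r) = topologicalKrullDim G.R := by
  have : Subsingleton G.U := (Scheme.homeoOfIso eU).injective.subsingleton
  let f : G.R ⟶ Spec (CommRingCat.of k) := G.s ≫ eU.hom
  have hmax : ∀ ξ : G.R, IsMax ξ → ((Order.height ξ : ℕ∞) : WithBot ℕ∞) = topologicalKrullDim G.R := by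
    intro ξ hξ
    rw [Groth.Variety2.Dim.dim_eq_iSup_height]
    refine le_antisymm (le_iSup (fun z : G.R => ((Order.height z : ℕ∞) : WithBot ℕ∞)) ξ) (iSup_le fun z => ?_)
    obtain ⟨ζ, hzζ, hζ⟩ := Groth.GrpschAbsch.exists_isMax_ge z
    refine le_trans (WithBot.coe_le_coe.2 (Order.height_mono hzζ)) (le_of_eq ?_)
    rw [← Groth.FibreDim.localDim_eq_height_of_isMax (k := k) f hζ,
      ← Groth.FibreDim.localDim_eq_height_of_isMax (k := k) f hξ, localDim_eq_localDim_e G eU ζ,
      localDim_eq_localDim_e G eU ξ, Subsingleton.elim (G.t ζ) (G.t ξ)]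
  rw [ringKrullDim_stalk_eq_coheight]
  refine le_antisymm ?_ ?_
  · let := specializationOrder (X := G.R)
    rw [topologicalKrullDim, Order.krullDim_eq_of_orderIso irreducibleSetEquivPoints]
    exact Order.coheight_le_krullDim r
  · obtain ⟨ξ, hrξ, hξ⟩ := Groth.GrpschAbsch.exists_isMax_ge r
    rw [← hmax ξ hξ]
    refine WithBot.coe_le_coe.mpr ?_
    let : G.R.Over (Spec (CommRingCat.of k)) := ⟨f⟩
    have : LocallyOfFiniteType (G.R ↘ Spec (CommRingCat.of k)) := inferInstanceAs (LocallyOfFiniteType f)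
    have h := Groth.VarietyBC.height_le_add_coheight k (X := G.R) hrξ
    rw [(Groth.Variety2.Dim.height_eq_zero_iff r).mpr hr, zero_add] at h
    exact h

end

end Groth.Calg4.GrpdDim
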