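import Groth.Agent.Calg4.GrpdFieldEquidim
import Groth.Agent.PropsBasic.LociBaseChange.Scheme

/-!
# Smoothness of groupoid schemes over a field
-/

set_option autoImplicit false
universe u

open AlgebraicGeometry CategoryTheory CategoryTheory.Limits

namespace Groth.Calg4.GrpdDim

noncomputable section

variable {S : Scheme.{u}} (G : Grpd.GroupoidScheme S) {k : Type u} [Field k]

/-- Being a smooth point of `s` depends on a point only through the identity at its target. -/
theorem mem_smoothLocus_iff_e (eU : G.U ≅ Spec (CommRingCat.of k))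
    [LocallyOfFinitePresentation (G.s ≫ eU.hom)] (r : G.R) :
    r ∈ (G.s ≫ eU.hom).smoothLocus ↔ G.e (G.t r) ∈ (G.s ≫ eU.hom).smoothLocus := by
  let T := Spec (G.R.residueField r)
  let ρ : T ⟶ G.R := G.R.fromSpecResidueField r
  let o : T := IsLocalRing.closedPoint (G.R.residueField r)
  have hρ : ρ o = r := Scheme.fromSpecResidueField_apply r o
  have : IsNoetherianRing (G.R.residueField r) := inferInstance
  have hft : ∀ v : T ⟶ G.U, LocallyOfFinitePresentation (pullback.snd G.s v) := by
    intro v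
    have : LocallyOfFinitePresentation G.s := by
      rw [show G.s = (G.s ≫ eU.hom) ≫ eU.inv by simp]
      infer_instance
    infer_instance
  have hq : ∀ (v : T ⟶ G.U) (z : ↥(pullback G.s v)) [LocallyOfFinitePresentation (pullback.snd G.s v)],
      z ∈ (pullback.snd G.s v).smoothLocus ↔ pullback.fst G.s v z ∈ (G.s ≫ eU.hom).smoothLocus := by
    intro v z _
    obtain ⟨φ, hφ⟩ := Spec.map_surjective (v ≫ eU.hom)
    have sq : IsPullback (pullback.fst G.s v) (pullback.snd G.s v) (G.s ≫ eU.hom) (Spec.map φ) := by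
      rw [hφ]
      exact IsPullback.of_iso (IsPullback.of_hasPullback G.s v) (Iso.refl _) (Iso.refl _) (Iso.refl _)
        eU (by simp) (by simp) (by simp) (by simp)
    have : Flat (Spec.map φ) := by
      rw [HasRingHomProperty.Spec_iff (P := @Flat)]
      let _ := φ.hom.toAlgebra
      exact inferInstanceAs (Module.Flat k (G.R.residueField r))
    exact ⟨fun hz => Groth.PropsBasic.Loci.mem_smoothLocus_of_flat sq hz,
      fun hz => Groth.PropsBasic.Loci.preimage_smoothLocus_le sq hz⟩
  let x : T ⟶ pullback G.s (ρ ≫ G.t) := pullback.lift ((ρ ≫ G.t) ≫ G.e) (𝟙 T)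
    (by rw [Category.assoc, G.e_s, Category.comp_id, Category.id_comp])
  have h1 : pullback.fst G.s (ρ ≫ G.t) (x o) = G.e (G.t r) := by
    rw [← Scheme.Hom.comp_apply, pullback.lift_fst, Scheme.Hom.comp_apply, Scheme.Hom.comp_apply, hρ]
  have h2 : pullback.fst G.s (ρ ≫ G.s) ((rightTransIso G ρ).hom (x o)) = r := by
    rw [← Scheme.Hom.comp_apply, ← Scheme.Hom.comp_apply]
    have : x ≫ (rightTransIso G ρ).hom ≫ pullback.fst G.s (ρ ≫ G.s) = ρ := by
      rw [show (rightTransIso G ρ).hom ≫ pullback.fst G.s (ρ ≫ G.s) =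
        Groth.GrpdBasic.comp G (pullback.fst G.s (ρ ≫ G.t)) (pullback.snd G.s (ρ ≫ G.t) ≫ ρ)
          (by rw [Category.assoc]; exact pullback.condition) from pullback.lift_fst _ _ _,
        Groth.GrpdBasic.precomp_comp]
      refine Eq.trans ?_ (Groth.GrpdBasic.unit_comp G ρ (u := ρ ≫ G.t) rfl)
      apply Groth.GrpdBasic.comp_congr
      · exact pullback.lift_fst _ _ _
      · exact ((Category.assoc _ _ _).symm.trans
          (congrArg (fun f => f ≫ ρ) (pullback.lift_snd _ _ _))).trans (Category.id_comp ρ)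
    rw [this, hρ]
  have := hft (ρ ≫ G.t)
  have := hft (ρ ≫ G.s)
  conv_rhs => rw [← h1]
  conv_lhs => rw [← h2]
  rw [← hq (ρ ≫ G.t), ← hq (ρ ≫ G.s)]
  have e := Scheme.Hom.preimage_smoothLocus_eq (rightTransIso G ρ).hom (pullback.snd G.s (ρ ≫ G.s))
  simp only [show (rightTransIso G ρ).hom ≫ pullback.snd G.s (ρ ≫ G.s) = pullback.snd G.s (ρ ≫ G.t)
    from rightTrans_snd G ρ] at e
  rw [← e]
  rfl

/-- Over a perfect field, `R` reduced implies `s` smooth. -/
theorem smooth_s [PerfectField k] (eU : G.U ≅ Spec (CommRingCat.of k)) [LocallyOfFiniteType G.s]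
    [IsReduced G.R] : Smooth G.s := by
  have : Subsingleton G.U := (Scheme.homeoOfIso eU).injective.subsingleton
  let f : G.R ⟶ Spec (CommRingCat.of k) := G.s ≫ eU.hom
  have : LocallyOfFinitePresentation f :=
    (LocallyOfFinitePresentation.iff_locallyOfFiniteType (f := f)).2 inferInstance
  suffices Smooth f by
    rw [show G.s = f ≫ eU.inv by simp [f]]
    infer_instance
  rw [← Scheme.Hom.smoothLocus_eq_top_iff, ← top_le_iff]
  intro r _
  obtain ⟨r₀, hr₀⟩ := (f.dense_smoothLocus_of_perfectField).nonempty_iff.2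
    ⟨G.e (eU.inv (IsLocalRing.closedPoint k))⟩
  have h₀ := (mem_smoothLocus_iff_e G eU r₀).1 hr₀
  refine (mem_smoothLocus_iff_e G eU r).2 ?_
  rwa [Subsingleton.elim (G.t r) (G.t r₀)]

end

end Groth.Calg4.GrpdDim
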