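import Mathlib

/-! The Krull-Akizuki length bound over a one-dimensional Noetherian domain. -/

namespace Groth.Calg4

open Pointwise

universe u

variable {R : Type*} [CommRing R]

theorem length_le_of_forall_fg {M : Type*} [AddCommGroup M] [Module R M] {c : ℕ∞} (hc : c ≠ ⊤)
    (h : ∀ N : Submodule R M, N.FG → Module.length R N ≤ c) : Module.length R M ≤ c := by
  classical
  by_cases hM : IsNoetherian R M
  · have := h ⊤ (IsNoetherian.noetherian ⊤)
    rwa [Module.length_top] at this
  exfalso
  rw [isNoetherian_iff'] at hM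
  obtain ⟨P, hP⟩ : ∃ P : Submodule R M, ¬ P.FG := by
    by_contra hcon
    push Not at hcon
    exact hM (isNoetherian_iff'.mp (isNoetherian_def.mpr hcon))
  have hext : ∀ N : Submodule R M, N.FG → N ≤ P → ∃ N' : Submodule R M, N'.FG ∧ N' ≤ P ∧ N < N' := by
    intro N hN hle
    obtain ⟨x, hxP, hxN⟩ := SetLike.exists_of_lt (lt_of_le_of_ne hle fun e => hP (e ▸ hN))
    exact ⟨N ⊔ Submodule.span R {x}, hN.sup (Submodule.fg_span_singleton x),
      sup_le hle ((Submodule.span_singleton_le_iff_mem _ _).mpr hxP),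
      left_lt_sup.mpr fun hle' => hxN ((Submodule.span_singleton_le_iff_mem _ _).mp hle')⟩
  have hk : ∀ k : ℕ, ∃ N : Submodule R M, N.FG ∧ N ≤ P ∧ (k : ℕ∞) ≤ Module.length R N := by
    intro k
    induction k with
    | zero => exact ⟨⊥, Submodule.fg_bot, bot_le, by simp⟩
    | succ k ih =>
      obtain ⟨N, hN, hle, hlen⟩ := ih
      obtain ⟨N', hN', hle', hlt⟩ := hext N hN hle
      refine ⟨N', hN', hle', ?_⟩
      have hfin : Module.length R N' ≠ ⊤ := ne_top_of_le_ne_top hc (h N' hN')
      obtain ⟨hn, ha⟩ := isFiniteLength_iff_isNoetherian_isArtinian.mp (Module.length_ne_top_iff.mp hfin)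
      have hne : Submodule.comap N'.subtype N ≠ ⊤ := by
        rw [Ne, Submodule.comap_subtype_eq_top]
        exact not_le_of_gt hlt
      have h2 := Submodule.length_lt hne
      rw [(Submodule.comapSubtypeEquivOfLe hlt.le).length_eq] at h2
      rw [Nat.cast_succ]
      exact Order.add_one_le_of_lt (lt_of_le_of_lt hlen h2)
  obtain ⟨m, rfl⟩ := WithTop.ne_top_iff_exists.mp hc
  obtain ⟨N, hN, -, hlen⟩ := hk (m + 1)
  exact absurd (hlen.trans (h N hN)) (not_le_of_gt (WithTop.coe_lt_coe.mpr (Nat.lt_succ_self m)))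

section

variable [IsDomain R] [IsNoetherianRing R] [Ring.KrullDimLE 1 R]

theorem length_ideal_quotient_le (I : Ideal R) {x : R} (hx : x ≠ 0) :
    Module.length R (I ⧸ x • (⊤ : Submodule R I)) ≤ Ring.ord R x := by
  by_cases hI : I = ⊥
  · have : Subsingleton I := by rw [hI]; infer_instance
    simp [Module.length_eq_zero]
  obtain ⟨a, ha, ha0⟩ := Submodule.exists_mem_ne_zero_of_ne_bot hI
  have hfinI : Module.length R (R ⧸ I) ≠ ⊤ := by
    refine ne_top_of_le_ne_top (Ring.ord_ne_top (mem_nonZeroDivisors_of_ne_zero ha0)) ?_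
    let g : (R ⧸ Ideal.span {a}) →ₗ[R] R ⧸ I :=
      Submodule.mapQ _ _ LinearMap.id (by simpa using (Ideal.span_singleton_le_iff_mem I).mpr ha)
    exact Module.length_le_of_surjective g fun y => by
      obtain ⟨y, rfl⟩ := Submodule.Quotient.mk_surjective _ y
      exact ⟨Submodule.Quotient.mk y, rfl⟩
  have h1 : Module.length R (R ⧸ x • I) = Module.length R (R ⧸ I) + Ring.ord R x := by
    rw [Ring.ord]
    exact Module.length_eq_add_of_exact (Ideal.mulQuot x I) (Ideal.quotOfMul x I)
      (Ideal.mulQuot_injective I (mem_nonZeroDivisors_of_ne_zero hx)) (Ideal.quotOfMul_surjective I)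
      (Ideal.exact_mulQuot_quotOfMul I)
  let f : (I ⧸ x • (⊤ : Submodule R I)) →ₗ[R] R ⧸ x • I :=
    Submodule.mapQ _ _ I.subtype (by
      rintro z hz
      obtain ⟨y, -, rfl⟩ := (Submodule.mem_smul_pointwise_iff_exists _ _ _).mp hz
      exact Submodule.smul_mem_pointwise_smul _ x I y.2)
  let g : (R ⧸ x • I) →ₗ[R] R ⧸ I :=
    Submodule.mapQ _ _ LinearMap.id (by
      rintro z hz
      obtain ⟨y, hy, rfl⟩ := (Submodule.mem_smul_pointwise_iff_exists _ _ _).mp hz
      exact I.smul_mem x hy)
  have hf : Function.Injective f := by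
    rw [injective_iff_map_eq_zero]
    intro z hz
    obtain ⟨z, rfl⟩ := Submodule.Quotient.mk_surjective _ z
    rw [Submodule.mapQ_apply, Submodule.Quotient.mk_eq_zero,
      Submodule.mem_smul_pointwise_iff_exists] at hz
    obtain ⟨y, hy, hyz⟩ := hz
    rw [Submodule.Quotient.mk_eq_zero, Submodule.mem_smul_pointwise_iff_exists]
    exact ⟨⟨y, hy⟩, trivial, Subtype.ext hyz⟩
  have hg : Function.Surjective g := fun z => by
    obtain ⟨z, rfl⟩ := Submodule.Quotient.mk_surjective _ z
    exact ⟨Submodule.Quotient.mk z, rfl⟩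
  have he : Function.Exact f g := fun z => by
    obtain ⟨z, rfl⟩ := Submodule.Quotient.mk_surjective _ z
    simp only [g, Submodule.mapQ_apply, LinearMap.id_apply, Submodule.Quotient.mk_eq_zero]
    constructor
    · intro hz; exact ⟨Submodule.Quotient.mk ⟨z, hz⟩, rfl⟩
    · rintro ⟨y, hy⟩
      obtain ⟨y, rfl⟩ := Submodule.Quotient.mk_surjective _ y
      rw [Submodule.mapQ_apply, Submodule.Quotient.eq] at hy
      obtain ⟨w, hw, hwe⟩ := (Submodule.mem_smul_pointwise_iff_exists _ _ _).mp hy
      rw [show z = I.subtype y - x • w by rw [hwe]; abel]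
      exact sub_mem y.2 (I.smul_mem x hw)
  have h2 := Module.length_eq_add_of_exact f g hf hg he
  rw [h1, add_comm] at h2
  exact ((ENat.add_le_add_iff_right hfinI).mp h2.ge)

theorem length_fg_quotient_le (K : Type*) [Field K] [Algebra R K] [IsFractionRing R K] {x : R}
    (hx : x ≠ 0) : ∀ (r : ℕ) (N : Submodule R (Fin r → K)), N.FG →
      Module.length R (N ⧸ x • (⊤ : Submodule R N)) ≤ r * Ring.ord R x := by
  intro r
  induction r with
  | zero =>
    intro N _
    simp [Module.length_eq_zero]
  | succ r ih =>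
    intro N hN
    let p : (Fin (r + 1) → K) →ₗ[R] (Fin r → K) := LinearMap.funLeft R K Fin.succ
    let π : N →ₗ[R] N.map p := p.submoduleMap N
    have hπ : Function.Surjective π := p.submoduleMap_surjective N
    -- the kernel, identified with a fractional ideal
    let q : LinearMap.ker π →ₗ[R] K :=
      (LinearMap.proj 0).comp (N.subtype.comp (LinearMap.ker π).subtype)
    have hq : Function.Injective q := by
      rintro ⟨⟨a, ha⟩, hap⟩ ⟨⟨b, hb⟩, hbp⟩ hab
      refine Subtype.ext (Subtype.ext (funext fun i => ?_))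
      refine Fin.cases hab (fun j => ?_) i
      have h1 : p a = 0 := congrArg Subtype.val hap
      have h2 : p b = 0 := congrArg Subtype.val hbp
      exact (congrFun h1 j).trans (congrFun h2 j).symm
    have : Module.Finite R N := Module.Finite.iff_fg.mpr hN
    have hfgK : (LinearMap.range q).FG := Module.Finite.iff_fg.mp (Module.Finite.range q)
    obtain ⟨d, hd, hdI⟩ := FractionalIdeal.isFractional_of_fg (S := nonZeroDivisors R) (P := K) hfgK
    have hd0 : algebraMap R K d ≠ 0 :=
      (map_ne_zero_iff _ (IsFractionRing.injective R K)).mpr (nonZeroDivisors.ne_zero hd)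
    let L : Submodule R K := (LinearMap.range q).map (LinearMap.lsmul R K d)
    let I : Ideal R := L.comap (Algebra.linearMap R K)
    let e : I ≃ₗ[R] LinearMap.ker π :=
      LinearEquiv.ofBijective (((Algebra.linearMap R K).domRestrict I).codRestrict L fun a => a.2)
        ⟨fun a b h => Subtype.ext (IsFractionRing.injective R K (congrArg Subtype.val h)), fun b => by
          obtain ⟨b, hb⟩ := b
          obtain ⟨k, hk, rfl⟩ := hb
          obtain ⟨a, ha⟩ := hdI k hk
          refine ⟨⟨a, ?_⟩, Subtype.ext ha⟩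
          exact ⟨k, hk, ha.symm⟩⟩ ≪≫ₗ
      (LinearEquiv.ofBijective ((LinearMap.lsmul R K d).submoduleMap (LinearMap.range q))
        ⟨fun a b h => Subtype.ext (by
          have := congrArg Subtype.val h
          change d • (a : K) = d • (b : K) at this
          rw [Algebra.smul_def, Algebra.smul_def] at this
          exact mul_left_cancel₀ hd0 this), LinearMap.submoduleMap_surjective _ _⟩).symm ≪≫ₗ
      (LinearEquiv.ofInjective q hq).symm
    let f : (I ⧸ x • (⊤ : Submodule R I)) →ₗ[R] N ⧸ x • (⊤ : Submodule R N) :=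
      Submodule.mapQ _ _ ((LinearMap.ker π).subtype.comp e.toLinearMap) (by
        rintro z hz
        obtain ⟨y, -, rfl⟩ := (Submodule.mem_smul_pointwise_iff_exists _ _ _).mp hz
        exact (Submodule.mem_smul_pointwise_iff_exists _ _ _).mpr ⟨_, trivial, (map_smul _ x y).symm⟩)
    let g : (N ⧸ x • (⊤ : Submodule R N)) →ₗ[R] N.map p ⧸ x • (⊤ : Submodule R (N.map p)) :=
      Submodule.mapQ _ _ π (by
        rintro z hz
        obtain ⟨y, -, rfl⟩ := (Submodule.mem_smul_pointwise_iff_exists _ _ _).mp hz
        exact (Submodule.mem_smul_pointwise_iff_exists _ _ _).mpr ⟨_, trivial, (map_smul _ x y).symm⟩)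
    have hg : Function.Surjective g := fun z => by
      obtain ⟨z, rfl⟩ := Submodule.Quotient.mk_surjective _ z
      obtain ⟨y, rfl⟩ := hπ z
      exact ⟨Submodule.Quotient.mk y, rfl⟩
    have hrange : LinearMap.ker g ≤ LinearMap.range f := by
      intro z hz
      obtain ⟨z, rfl⟩ := Submodule.Quotient.mk_surjective _ z
      rw [LinearMap.mem_ker, Submodule.mapQ_apply, Submodule.Quotient.mk_eq_zero,
        Submodule.mem_smul_pointwise_iff_exists] at hz
      obtain ⟨w, -, hw⟩ := hz
      obtain ⟨y, rfl⟩ := hπ w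
      have hk : z - x • y ∈ LinearMap.ker π := by
        rw [LinearMap.mem_ker, map_sub, map_smul, hw, sub_self]
      refine ⟨Submodule.Quotient.mk (e.symm ⟨_, hk⟩), ?_⟩
      rw [Submodule.mapQ_apply, LinearMap.comp_apply, LinearEquiv.coe_coe, e.apply_symm_apply,
        Submodule.Quotient.eq, Submodule.mem_smul_pointwise_iff_exists]
      exact ⟨-y, trivial, by simp⟩
    have h1 : Module.length R (LinearMap.ker g) ≤ Ring.ord R x :=
      ((Module.length_le_of_injective (Submodule.inclusion hrange) (Submodule.inclusion_injective _)).trans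
        (Module.length_le_of_surjective f.rangeRestrict f.surjective_rangeRestrict)).trans
        (length_ideal_quotient_le I hx)
    rw [Module.length_eq_add_of_exact (LinearMap.ker g).subtype g (Submodule.subtype_injective _) hg
      (LinearMap.exact_subtype_ker_map g), Nat.cast_succ, add_mul, one_mul, add_comm ((r : ℕ∞) * _)]
    exact add_le_add h1 (ih _ (hN.map p))

theorem length_quotient_le_mul (K : Type*) [Field K] [Algebra R K] [IsFractionRing R K] (r : ℕ)
    {V : Type*} [AddCommGroup V] [Module R V] (j : V →ₗ[R] (Fin r → K)) (hj : Function.Injective j)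
    {x : R} (hx : x ≠ 0) :
    Module.length R (V ⧸ x • (⊤ : Submodule R V)) ≤ r * Ring.ord R x := by
  have hc : (r : ℕ∞) * Ring.ord R x ≠ ⊤ :=
    WithTop.mul_ne_top (ENat.natCast_ne_top r) (Ring.ord_ne_top (mem_nonZeroDivisors_of_ne_zero hx))
  refine length_le_of_forall_fg hc fun P hP => ?_
  obtain ⟨N, hN, rfl⟩ : ∃ N : Submodule R V, N.FG ∧
      N.map (x • (⊤ : Submodule R V)).mkQ = P := by
    classical
    obtain ⟨T, rfl⟩ := hP
    choose l hl using fun y => (x • (⊤ : Submodule R V)).mkQ_surjective y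
    exact ⟨Submodule.span R (T.image l), ⟨_, rfl⟩, by
      rw [Submodule.map_span, Finset.coe_image, ← Set.image_comp]
      congr 1
      exact Set.image_congr (fun y _ => hl y) |>.trans (Set.image_id _)⟩
  let e : N ≃ₗ[R] N.map j := Submodule.equivMapOfInjective j hj N
  let g : (N.map j ⧸ x • (⊤ : Submodule R (N.map j))) →ₗ[R]
      N.map (x • (⊤ : Submodule R V)).mkQ :=
    Submodule.liftQ _ (((x • (⊤ : Submodule R V)).mkQ.submoduleMap N).comp e.symm.toLinearMap) (by
      intro z hz
      obtain ⟨y, -, rfl⟩ := (Submodule.mem_smul_pointwise_iff_exists _ _ _).mp hz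
      rw [LinearMap.mem_ker, map_smul]
      apply Subtype.ext
      rw [Submodule.coe_smul, Submodule.coe_zero]
      rw [LinearMap.comp_apply, LinearMap.submoduleMap_coe_apply, ← map_smul, Submodule.mkQ_apply,
        Submodule.Quotient.mk_eq_zero]
      exact Submodule.smul_mem_pointwise_smul _ x _ trivial)
  refine (Module.length_le_of_surjective g ?_).trans
    (length_fg_quotient_le K hx r (N.map j) (hN.map j))
  intro z
  obtain ⟨y, rfl⟩ := LinearMap.submoduleMap_surjective _ N z
  exact ⟨Submodule.Quotient.mk (e y), by simp [g]⟩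

end

end Groth.Calg4
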