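import Mathlib
import Groth.Agent.S6312

/-!
The length over `A` of a finite length `B`-module as a sum over the maximal ideals of `B`.
-/

set_option autoImplicit false

universe u

namespace Groth.Calg4

theorem length_localized_simple (B : Type u) [CommRing B] (M : Type u) [AddCommGroup M] [Module B M]
    (m : Ideal B) [m.IsMaximal] (e : M ≃ₗ[B] B ⧸ m) (n : Ideal B) [n.IsMaximal] :
    (n = m → Module.length (Localization.AtPrime n) (LocalizedModule n.primeCompl M) = 1) ∧
    (n ≠ m → Module.length (Localization.AtPrime n) (LocalizedModule n.primeCompl M) = 0) := by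
  constructor
  · rintro rfl
    refine le_antisymm ((Groth.Agent.S6312.result n.primeCompl M).trans ?_) ?_
    · have : IsSimpleModule B (B ⧸ n) := isSimpleModule_iff_isCoatom.mpr (Ideal.isMaximal_def.mp ‹_›)
      exact le_of_eq (e.length_eq.trans (Module.length_eq_one B (B ⧸ n)))
    · refine Order.one_le_iff_ne_zero.mpr fun h => ?_
      rw [Module.length_eq_zero_iff, LocalizedModule.subsingleton_iff] at h
      obtain ⟨s, hs, h⟩ := h (e.symm 1)
      have h1 := congrArg e h
      rw [map_smul, LinearEquiv.apply_symm_apply, map_zero] at h1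
      exact hs (Ideal.Quotient.eq_zero_iff_mem.mp (by simpa [Algebra.smul_def] using h1))
  · intro hne
    rw [Module.length_eq_zero_iff, LocalizedModule.subsingleton_iff]
    obtain ⟨s, hsm, hsn⟩ := SetLike.not_le_iff_exists.mp
      (fun hle : m ≤ n => hne (Ideal.IsMaximal.eq_of_le ‹_› (Ideal.IsMaximal.ne_top ‹_›) hle).symm)
    refine fun x => ⟨s, hsn, e.injective ?_⟩
    rw [map_smul, map_zero]
    obtain ⟨y, hy⟩ := Ideal.Quotient.mk_surjective (e x)
    rw [← hy, Algebra.smul_def, Ideal.Quotient.algebraMap_eq, Ideal.Quotient.eq_zero_iff_mem.mpr hsm,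
      zero_mul]

theorem length_localized_eq_add (B : Type u) [CommRing B] (S : Submonoid B) {M : Type u}
    [AddCommGroup M] [Module B M] (N : Submodule B M) :
    Module.length (Localization S) (LocalizedModule S M) =
      Module.length (Localization S) (LocalizedModule S N) +
        Module.length (Localization S) (LocalizedModule S (M ⧸ N)) :=
  Module.length_eq_add_of_exact (LocalizedModule.map S N.subtype) (LocalizedModule.map S N.mkQ)
    (LocalizedModule.map_injective S N.subtype N.injective_subtype)
    (LocalizedModule.map_surjective S N.mkQ N.mkQ_surjective)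
    (LocalizedModule.map_exact S N.subtype N.mkQ (LinearMap.exact_subtype_mkQ N))

/-- `length_A M = ∑ length_A (B/n) * length_{B_n} M_n` for a `B`-module of finite length. -/
theorem length_eq_finsum (A B : Type u) [CommRing A] [CommRing B] [Algebra A B]
    (M : Type u) [AddCommGroup M] [Module B M] [Module A M] [IsScalarTower A B M]
    (hM : IsFiniteLength B M) :
    Module.length A M = ∑ᶠ n : MaximalSpectrum B, Module.length A (B ⧸ n.asIdeal) *
      Module.length (Localization.AtPrime n.asIdeal) (LocalizedModule n.asIdeal.primeCompl M) := by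
  classical
  suffices ∀ (Y : Type u) [AddCommGroup Y] [Module B Y], IsFiniteLength B Y →
      ∀ [Module A Y] [IsScalarTower A B Y], ∃ s : Finset (MaximalSpectrum B),
        (∀ n ∉ s, Module.length (Localization.AtPrime n.asIdeal)
          (LocalizedModule n.asIdeal.primeCompl Y) = 0) ∧
        Module.length A Y = ∑ n ∈ s, Module.length A (B ⧸ n.asIdeal) *
          Module.length (Localization.AtPrime n.asIdeal) (LocalizedModule n.asIdeal.primeCompl Y) by
    obtain ⟨s, hs0, hs⟩ := this M hM
    rw [hs, finsum_eq_sum_of_support_subset]
    intro n hn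
    by_contra hns
    exact hn (by simp [hs0 n hns])
  intro Y _ _ hY
  induction hY with
  | @of_subsingleton Y _ _ _ =>
    intro _ _
    refine ⟨∅, fun n _ => ?_, by simp [Module.length_eq_zero]⟩
    exact (Groth.Agent.S6312.result _ Y).trans (by simp [Module.length_eq_zero]) |>.antisymm bot_le
  | @of_simple_quotient Y _ _ N hsimp _ ih =>
    intro _ _
    obtain ⟨s, hs0, hs⟩ := ih
    obtain ⟨m, hm, ⟨e⟩⟩ := isSimpleModule_iff_quot_maximal.mp hsimp
    have hloc := fun n : MaximalSpectrum B => length_localized_simple B (Y ⧸ N) m e n.asIdeal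
    refine ⟨insert ⟨m, hm⟩ s, fun n hn => ?_, ?_⟩
    · rw [Finset.mem_insert, not_or] at hn
      rw [length_localized_eq_add B _ N, hs0 n hn.2,
        (hloc n).2 fun h => hn.1 (MaximalSpectrum.ext h), add_zero]
    · rw [Module.length_eq_add_of_exact (N.subtype.restrictScalars A) (N.mkQ.restrictScalars A)
        N.injective_subtype N.mkQ_surjective (LinearMap.exact_subtype_mkQ N), hs,
        Finset.sum_congr rfl fun (n : MaximalSpectrum B) _ =>
          show Module.length A (B ⧸ n.asIdeal) *
              Module.length (Localization.AtPrime n.asIdeal) (LocalizedModule n.asIdeal.primeCompl Y) =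
            Module.length A (B ⧸ n.asIdeal) *
                Module.length (Localization.AtPrime n.asIdeal) (LocalizedModule n.asIdeal.primeCompl N) +
              Module.length A (B ⧸ n.asIdeal) *
                Module.length (Localization.AtPrime n.asIdeal) (LocalizedModule n.asIdeal.primeCompl (Y ⧸ N))
          by rw [← mul_add, length_localized_eq_add B n.asIdeal.primeCompl N],
        Finset.sum_add_distrib]
      congr 1
      · exact Finset.sum_subset (Finset.subset_insert _ _) fun n _ hn => by rw [hs0 n hn, mul_zero]
      · rw [Finset.sum_eq_single ⟨m, hm⟩ (fun n _ hne => by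
          rw [(hloc n).2 fun h => hne (MaximalSpectrum.ext h), mul_zero]) (by simp),
          (hloc ⟨m, hm⟩).1 rfl, mul_one]
        exact (e.restrictScalars A).length_eq

end Groth.Calg4
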