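import Mathlib
import Groth.Prelude.Def_Found
import Groth.Agent.Calg1.NagataBasic
import Groth.Agent.Calg4.SmoothReduced

/-!
# Descent of the Nagata property along smooth surjective ring maps
-/

set_option autoImplicit false
universe u

open scoped TensorProduct

namespace Groth.Calg4

/-- Integral elements of `B ⊗ L` land in a finite submodule of each residue field. -/
theorem exists_fg_submodule {A B L : Type u} [CommRing A] [IsDomain A] [CommRing B] [Algebra A B]
    [Field L] [Algebra A L] [Algebra (FractionRing A) L] [IsScalarTower A (FractionRing A) L]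
    (hB : CAlg.IsNagata B) (hfin : FiniteDimensional (FractionRing A) L)
    (F : Type u) [Field F] [Algebra (B ⊗[A] L) F] [Algebra B F] [Algebra A F]
    [IsScalarTower B (B ⊗[A] L) F] [IsScalarTower A (B ⊗[A] L) F] [IsScalarTower A B F]
    (hgen : ∀ x : F, ∃ a b : B ⊗[A] L,
      algebraMap (B ⊗[A] L) F a / algebraMap (B ⊗[A] L) F b = x) :
    ∃ N : Submodule B F, N.FG ∧ ∀ z : B ⊗[A] integralClosure A L,
      algebraMap (B ⊗[A] L) F
        (Algebra.TensorProduct.map (AlgHom.id B B) (integralClosure A L).val z) ∈ N := by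
  let T := B ⊗[A] L
  let ι : B ⊗[A] integralClosure A L →ₐ[B] B ⊗[A] L :=
    Algebra.TensorProduct.map (AlgHom.id B B) (integralClosure A L).val
  let q : Ideal B := RingHom.ker (algebraMap B F)
  let g : B ⧸ q →+* F := RingHom.kerLift (algebraMap B F)
  have hg : Function.Injective g := RingHom.kerLift_injective _
  have : q.IsPrime := RingHom.ker_isPrime _
  let E := FractionRing (B ⧸ q)
  let h : E →+* F := IsFractionRing.lift hg
  let : Algebra E F := h.toAlgebra
  let : Algebra (B ⧸ q) F := g.toAlgebra
  have : IsScalarTower (B ⧸ q) E F :=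
    IsScalarTower.of_algebraMap_eq fun x => (IsFractionRing.lift_algebraMap hg x).symm
  have : IsScalarTower B (B ⧸ q) F :=
    IsScalarTower.of_algebraMap_eq fun b => (RingHom.kerLift_mk (algebraMap B F) b).symm
  let φ : L →ₐ[A] T := Algebra.TensorProduct.includeRight
  let jL : L →ₐ[A] F := (IsScalarTower.toAlgHom A T F).comp φ
  have hjL : ∀ l, jL l = algebraMap T F (1 ⊗ₜ l) := fun l => rfl
  have htower : IsScalarTower A E F := IsScalarTower.of_algebraMap_eq fun a => by
    rw [IsScalarTower.algebraMap_apply A (B ⧸ q) E, ← IsScalarTower.algebraMap_apply (B ⧸ q) E F,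
      IsScalarTower.algebraMap_apply A B (B ⧸ q), ← IsScalarTower.algebraMap_apply B (B ⧸ q) F,
      ← IsScalarTower.algebraMap_apply A B F]
  -- the subfield generated by `E` and a basis of `L` is everything
  obtain ⟨s, hs⟩ := hfin.fg_top
  have hint : ∀ l : L, IsIntegral E (jL l) := by
    intro l
    have : Algebra.IsAlgebraic (FractionRing A) L := Algebra.IsAlgebraic.of_finite _ _
    have hl : IsAlgebraic A l :=
      (IsFractionRing.isAlgebraic_iff A (FractionRing A) L).2 (Algebra.IsAlgebraic.isAlgebraic l)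
    obtain ⟨p, hp0, hpl⟩ := hl
    refine isAlgebraic_iff_isIntegral.1 ⟨p.map (algebraMap A E), ?_, ?_⟩
    · refine (Polynomial.map_ne_zero_iff ?_).2 hp0
      rw [injective_iff_map_eq_zero]
      intro a ha
      by_contra ha0
      have h1 : algebraMap A F a = 0 := by rw [IsScalarTower.algebraMap_apply A E F, ha, map_zero]
      have hua : IsUnit (algebraMap A L a) := by
        rw [IsScalarTower.algebraMap_apply A (FractionRing A) L]
        exact (IsUnit.mk0 _ ((map_ne_zero_iff _ (IsFractionRing.injective A (FractionRing A))).2 ha0)).map _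
      have := hua.map jL
      rw [AlgHom.commutes, h1] at this
      exact not_isUnit_zero this
    · rw [Polynomial.aeval_map_algebraMap, Polynomial.aeval_algHom_apply, hpl, map_zero]
  let S₀ : Subalgebra E F := Algebra.adjoin E (jL '' (s : Set L))
  have hK : ∀ a : FractionRing A, ∃ c : E, jL (algebraMap (FractionRing A) L a) = algebraMap E F c := by
    intro a
    obtain ⟨x, ⟨y, hy⟩, rfl⟩ := IsLocalization.exists_mk'_eq (nonZeroDivisors A) a
    refine ⟨algebraMap A E x / algebraMap A E y, ?_⟩
    rw [map_div₀, ← IsScalarTower.algebraMap_apply A E F, ← IsScalarTower.algebraMap_apply A E F,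
      IsFractionRing.mk'_eq_div, map_div₀, ← IsScalarTower.algebraMap_apply A (FractionRing A) L,
      ← IsScalarTower.algebraMap_apply A (FractionRing A) L]
    exact (map_div₀ (jL : L →+* F) _ _).trans (by simp)
  have hmemL : ∀ l : L, jL l ∈ S₀ := by
    intro l
    have hl : l ∈ Submodule.span (FractionRing A) (s : Set L) := hs ▸ Submodule.mem_top
    induction hl using Submodule.span_induction with
    | mem x hx => exact Algebra.subset_adjoin ⟨x, hx, rfl⟩
    | zero => rw [map_zero]; exact zero_mem _
    | add x y _ _ hx hy => rw [map_add]; exact add_mem hx hy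
    | smul a x _ hx =>
      obtain ⟨c, hc⟩ := hK a
      rw [Algebra.smul_def, map_mul, hc]
      exact mul_mem (S₀.algebraMap_mem c) hx
  have hmemT : ∀ x : T, algebraMap T F x ∈ S₀ := by
    intro x
    induction x using TensorProduct.induction_on with
    | zero => rw [map_zero]; exact zero_mem _
    | add x y hx hy => rw [map_add]; exact add_mem hx hy
    | tmul b l =>
      rw [show (b ⊗ₜ[A] l : T) = algebraMap B T b * (1 ⊗ₜ l) by
        change _ = (algebraMap B B b ⊗ₜ[A] (1 : L)) * (1 ⊗ₜ l)
        rw [Algebra.TensorProduct.tmul_mul_tmul, one_mul, mul_one]; rfl, map_mul, ← IsScalarTower.algebraMap_apply B T F,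
        IsScalarTower.algebraMap_apply B (B ⧸ q) F, IsScalarTower.algebraMap_apply (B ⧸ q) E F]
      exact mul_mem (S₀.algebraMap_mem _) (hmemL l)
  have : Module.Finite E S₀ := Module.Finite.of_fg (fg_adjoin_of_finite ((s.finite_toSet).image _)
    (fun x ⟨l, _, hl⟩ => hl ▸ hint l))
  have : Algebra.IsIntegral E S₀ := Algebra.IsIntegral.of_finite _ _
  let _ : Field S₀ := (isField_of_isIntegral_of_isField' (Field.toIsField E)).toField
  have hfinF : FiniteDimensional E F := by
    refine Module.Finite.of_surjective S₀.val.toLinearMap fun x => ?_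
    obtain ⟨a, b, rfl⟩ := hgen x
    exact ⟨⟨algebraMap T F a, hmemT a⟩ / ⟨algebraMap T F b, hmemT b⟩, map_div₀ (S₀.val : S₀ →+* F) _ _⟩
  have hN : Module.Finite (B ⧸ q) (integralClosure (B ⧸ q) F) := hB.2 q F hfinF
  refine ⟨(integralClosure (B ⧸ q) F).toSubmodule.restrictScalars B, ?_, fun z => ?_⟩
  · exact Submodule.FG.restrictScalars_of_surjective (Module.Finite.iff_fg.1 hN) Ideal.Quotient.mk_surjective
  · have hz : IsIntegral B (ι z) := by
      induction z using TensorProduct.induction_on with
      | zero => rw [map_zero]; exact isIntegral_zero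
      | add x y hx hy => rw [map_add]; exact hx.add hy
      | tmul b c =>
        have : ι (b ⊗ₜ c) = algebraMap B T b * φ (c : L) := by
          simp [ι, φ, T, Algebra.TensorProduct.algebraMap_apply]
        rw [this]
        exact isIntegral_algebraMap.mul ((c.2.map φ).tower_top)
    exact ((hz.map (IsScalarTower.toAlgHom B T F)).tower_top : IsIntegral (B ⧸ q) _)

/-- If `A → B` is smooth and faithfully flat, `A` a domain and `B` Nagata, then `A` is N-2. -/
theorem isN2_of_smooth_faithfullyFlat {A B : Type u} [CommRing A] [IsDomain A] [CommRing B]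
    [Algebra A B] [Algebra.Smooth A B] [Module.FaithfullyFlat A B] (hB : CAlg.IsNagata B) :
    CAlg.IsN2 A := by
  intro L _ _ _ _ hfin
  have : IsNoetherianRing B := hB.1
  let C := integralClosure A L
  suffices h : Module.Finite B (B ⊗[A] C) from
    Module.Finite.of_finite_tensorProduct_of_faithfullyFlat B
  let ι : B ⊗[A] C →ₐ[B] B ⊗[A] L := Algebra.TensorProduct.map (AlgHom.id B B) C.val
  have hι : Function.Injective ι :=
    Module.Flat.lTensor_preserves_injective_linearMap (M := B) C.val.toLinearMap Subtype.val_injective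
  -- `T = B ⊗ L` is smooth over `L`, hence reduced with finitely many minimal primes
  let e : L ⊗[A] B ≃ₐ[A] B ⊗[A] L := Algebra.TensorProduct.comm A L B
  have : IsReduced (L ⊗[A] B) :=
    Groth.Calg4.isReduced_of_smooth_field L (L ⊗[A] B)
  have : IsNoetherianRing (L ⊗[A] B) := Algebra.FiniteType.isNoetherianRing L _
  have : IsReduced (B ⊗[A] L) := isReduced_of_injective e.symm e.symm.injective
  have : IsNoetherianRing (B ⊗[A] L) := isNoetherianRing_of_ringEquiv _ e.toRingEquiv
  let T := B ⊗[A] L
  have : Finite (minimalPrimes T) := (minimalPrimes.finite_of_isNoetherianRing T).to_subtype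
  have hfinQ : ∀ Q : minimalPrimes T, ∃ (N : Submodule B (FractionRing (T ⧸ Q.1))), N.FG ∧
      ∀ z : B ⊗[A] C, algebraMap T (FractionRing (T ⧸ Q.1)) (ι z) ∈ N := by
    intro Q
    have : Q.1.IsPrime := Q.2.1.1
    have hgen : ∀ x : FractionRing (T ⧸ Q.1), ∃ a b : T,
        algebraMap T (FractionRing (T ⧸ Q.1)) a / algebraMap T (FractionRing (T ⧸ Q.1)) b = x := by
      intro x
      obtain ⟨a, b, -, rfl⟩ := IsFractionRing.div_surjective (A := T ⧸ Q.1) x
      obtain ⟨a, rfl⟩ := Ideal.Quotient.mk_surjective a
      obtain ⟨b, rfl⟩ := Ideal.Quotient.mk_surjective b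
      exact ⟨a, b, rfl⟩
    exact exists_fg_submodule hB hfin _ hgen
  choose N hN hmem using hfinQ
  have : ∀ Q, Module.Finite B (N Q) := fun Q => Module.Finite.iff_fg.2 (hN Q)
  let Φ : B ⊗[A] C →ₗ[B] (∀ Q : minimalPrimes T, N Q) :=
    LinearMap.pi fun Q => LinearMap.codRestrict (N Q)
      ((IsScalarTower.toAlgHom B T (FractionRing (T ⧸ Q.1))).toLinearMap ∘ₗ ι.toLinearMap) (hmem Q)
  refine Module.Finite.of_injective Φ ((injective_iff_map_eq_zero Φ).2 fun z hz => hι ?_)
  rw [map_zero]
  have : ι z ∈ sInf (minimalPrimes T) := by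
    refine Submodule.mem_sInf.2 fun Q hQ => ?_
    have := congrArg Subtype.val (congrFun hz ⟨Q, hQ⟩)
    have := hQ.1.1
    have h1 : algebraMap (T ⧸ Q) (FractionRing (T ⧸ Q)) (Ideal.Quotient.mk Q (ι z)) = 0 := by assumption
    rwa [map_eq_zero_iff _ (IsFractionRing.injective _ _), Ideal.Quotient.eq_zero_iff_mem] at h1
  have h0 : sInf (minimalPrimes T) = (⊥ : Ideal T) :=
    (Ideal.sInf_minimalPrimes (I := (⊥ : Ideal T))).trans (nilradical_eq_bot_iff.2 inferInstance)
  rwa [h0, Ideal.mem_bot] at this

end Groth.Calg4
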