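import Mathlib

/-! Locally nilpotent ideals: surjectivity and bijectivity criteria. -/

namespace Groth.Calg4

open TensorProduct
universe u

theorem eq_top_of_sup_smul_of_isNilpotent {R M : Type*} [CommRing R] [AddCommGroup M] [Module R M]
    (I : Ideal R) (hI : IsNilpotent I) (N : Submodule R M) (h : N ⊔ I • ⊤ = ⊤) : N = ⊤ := by
  have key : ∀ n : ℕ, N ⊔ (I ^ n) • (⊤ : Submodule R M) = ⊤ := by
    intro n
    induction n with
    | zero => simp
    | succ n ih =>
      rw [eq_top_iff]
      calc (⊤ : Submodule R M) = N ⊔ (I ^ n) • (N ⊔ I • ⊤) := by rw [h, ih]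
        _ = N ⊔ ((I ^ n) • N ⊔ (I ^ (n + 1)) • ⊤) := by
          rw [Submodule.smul_sup, pow_succ, ← smul_eq_mul (I ^ n), Submodule.smul_assoc]
        _ ≤ N ⊔ (I ^ (n + 1)) • ⊤ :=
          sup_le le_sup_left (sup_le (le_sup_of_le_left Submodule.smul_le_right) le_sup_right)
  obtain ⟨n, hn⟩ := hI
  simpa [hn] using key n

theorem surjective_of_surjective_mod {R S S' : Type*} [CommRing R] [CommRing S] [CommRing S']
    [Algebra R S] [Algebra R S'] [Algebra.FiniteType R S'] (I : Ideal R) (hI : ∀ x ∈ I, IsNilpotent x)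
    (f : S →ₐ[R] S')
    (hf : Function.Surjective ((Ideal.Quotient.mk (I.map (algebraMap R S'))).comp f.toRingHom)) :
    Function.Surjective f := by
  classical
  obtain ⟨s, hs⟩ := (‹Algebra.FiniteType R S'›).out
  have hy : ∀ y : S', ∃ I₀ : Ideal R, I₀.FG ∧ I₀ ≤ I ∧ ∃ a : S, y - f a ∈ I₀.map (algebraMap R S') := by
    intro y
    obtain ⟨a, ha⟩ := hf (Ideal.Quotient.mk _ y)
    have hm : y - f a ∈ I.map (algebraMap R S') := (Ideal.Quotient.eq).mp ha.symm
    rw [Ideal.map] at hm
    obtain ⟨T, hT, hmem⟩ := Submodule.mem_span_finite_of_mem_span hm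
    obtain ⟨T', hT', rfl⟩ := Finset.subset_set_image_iff.mp hT
    refine ⟨Ideal.span T', ⟨T', rfl⟩, Ideal.span_le.mpr hT', a, ?_⟩
    rw [Ideal.map_span]
    simpa using hmem
  choose J hJfg hJle a ha using hy
  let I₀ : Ideal R := s.sup J
  have hfg : I₀.FG := Finset.sup_induction Submodule.fg_bot (fun _ h _ h' => Submodule.FG.sup h h') fun y _ => hJfg y
  have hle : I₀ ≤ I := Finset.sup_le fun y _ => hJle y
  obtain ⟨n, hn⟩ := Ideal.exists_pow_le_of_le_radical_of_fg (I := I₀) (J := ⊥)
    (fun x hx => hI x (hle hx)) hfg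
  have hnil : IsNilpotent I₀ := ⟨n, le_bot_iff.mp hn⟩
  let q : S →ₐ[R] S' ⧸ I₀.map (algebraMap R S') := (Ideal.Quotient.mkₐ R _).comp f
  have hq : q.range = ⊤ := by
    have h1 : (⊤ : Subalgebra R S').map (Ideal.Quotient.mkₐ R (I₀.map (algebraMap R S'))) ≤ q.range := by
      rw [← hs, AlgHom.map_adjoin, Algebra.adjoin_le_iff]
      rintro _ ⟨y, hy, rfl⟩
      refine ⟨a y, ((Ideal.Quotient.eq).mpr ?_).symm⟩
      exact Ideal.map_mono (Finset.le_sup hy) (ha y)
    rwa [Algebra.map_top, (AlgHom.range_eq_top _).mpr (Ideal.Quotient.mkₐ_surjective R _), top_le_iff] at h1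
  have := eq_top_of_sup_smul_of_isNilpotent I₀ hnil f.toLinearMap.range ?_
  · exact LinearMap.range_eq_top.mp this
  · rw [Ideal.smul_top_eq_map, eq_top_iff]
    intro y _
    obtain ⟨b, hb⟩ := (AlgHom.range_eq_top _).mp hq (Ideal.Quotient.mkₐ R _ y)
    rw [Submodule.mem_sup]
    exact ⟨f b, ⟨b, rfl⟩, y - f b, (Ideal.Quotient.eq).mp hb.symm, by abel⟩

theorem bijective_of_bijective_mod {R S S' : Type u}
    [CommRing R] [CommRing S] [CommRing S'] [Algebra R S] [Algebra R S'] [Algebra.FiniteType R S]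
    [Algebra.FinitePresentation R S'] [Module.Flat R S'] (I : Ideal R) (hI : ∀ x ∈ I, IsNilpotent x)
    (f : S →ₐ[R] S')
    (hsurj : Function.Surjective ((Ideal.Quotient.mk (I.map (algebraMap R S'))).comp f.toRingHom))
    (hker : ∀ s : S, f s ∈ I.map (algebraMap R S') → s ∈ I.map (algebraMap R S)) :
    Function.Bijective f := by
  have hs : Function.Surjective f := surjective_of_surjective_mod I hI f hsurj
  refine ⟨?_, hs⟩
  let J : Ideal S := RingHom.ker f.toRingHom
  obtain ⟨n, p, hp⟩ := Algebra.FiniteType.iff_quotient_mvPolynomial''.mp ‹Algebra.FiniteType R S›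
  have hfg : J.FG := by
    have h1 := (Algebra.FinitePresentation.ker_fG_of_surjective (f.comp p) (hs.comp hp)).map p.toRingHom
    have h2 : J = Ideal.map p.toRingHom (RingHom.ker (f.comp p).toRingHom) := by
      rw [show (f.comp p).toRingHom = f.toRingHom.comp p.toRingHom from rfl, ← RingHom.comap_ker,
        Ideal.map_comap_of_surjective p.toRingHom hp]
    exact h2 ▸ h1
  let J' : Submodule R S := LinearMap.ker f.toLinearMap
  have hinj := LinearMap.lTensor_injective_of_exact_of_flat f.toLinearMap hs J'.subtype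
    J'.subtype_injective (LinearMap.exact_subtype_ker_map _) (R ⧸ I)
  have hIJ : J ≤ (I.map (algebraMap R S)) * J := by
    intro x hx
    have hxI : x ∈ I.map (algebraMap R S) := hker x (by
      rw [show f x = 0 from hx]; exact zero_mem _)
    have h0 : ((1 : R ⧸ I) ⊗ₜ[R] (⟨x, hx⟩ : J')) = 0 := by
      apply hinj
      rw [map_zero, LinearMap.lTensor_tmul]
      apply (TensorProduct.quotTensorEquivQuotSMul S I).injective
      rw [map_zero, TensorProduct.quotTensorEquivQuotSMul_mk_one_tmul, Submodule.Quotient.mk_eq_zero,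
        Ideal.smul_top_eq_map]
      exact hxI
    have h1 := congrArg (TensorProduct.quotTensorEquivQuotSMul J' I) h0
    rw [map_zero, TensorProduct.quotTensorEquivQuotSMul_mk_one_tmul, Submodule.Quotient.mk_eq_zero] at h1
    have h2 := Submodule.mem_map_of_mem (f := J'.subtype) h1
    rw [Submodule.map_smul'', Submodule.map_top, Submodule.range_subtype] at h2
    change J'.subtype ⟨x, hx⟩ ∈ _ at h2
    refine Submodule.smul_induction_on (p := fun z => z ∈ (I.map (algebraMap R S)) * J) h2
      (fun r hr y hy => ?_) (fun y z hy hz => add_mem hy hz)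
    rw [Algebra.smul_def]
    exact Ideal.mul_mem_mul (Ideal.mem_map_of_mem _ hr) hy
  have hjac : I.map (algebraMap R S) ≤ Ideal.jacobson ⊥ := by
    refine le_trans ?_ Ideal.radical_le_jacobson
    rw [Ideal.map_le_iff_le_comap]
    intro r hr
    exact (hI r hr).map (algebraMap R S)
  have hJ0 : J = ⊥ := Submodule.eq_bot_of_le_smul_of_le_jacobson_bot _ J hfg (hIJ.trans_eq (smul_eq_mul _ _).symm) hjac
  rw [injective_iff_map_eq_zero]
  intro x hx
  have : x ∈ J := hx
  rwa [hJ0, Ideal.mem_bot] at this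

end Groth.Calg4
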