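import Mathlib
import Groth.Prelude.Def_EGA4b
import Groth.Agent.Calg4.RegularAscent
import Groth.Agent.Calg1.SerreConditions
import Groth.Agent.Ega4Algebra2.SkFlat

/-!
Normality ascends along flat maps with regular fibres.
-/

set_option autoImplicit false

universe u

open IsLocalRing

namespace Groth.Calg4

theorem isNormalRing_of_flat_of_regular_fibers (R S : Type u) [CommRing R] [CommRing S]
    [Algebra R S] [Module.Flat R S] [IsNoetherianRing R] [IsNoetherianRing S] (hR : EGA4.IsNormalRing R)
    (h : ∀ (p : Ideal R) [p.IsPrime], IsRegularRing (p.Fiber S)) :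
    EGA4.IsNormalRing S := by
  obtain ⟨hR1, hS2⟩ := Groth.Calg1.normal_iff.mp hR
  rw [Groth.Calg1.hasSk_self_iff] at hS2
  refine Groth.Calg1.normal_iff.mpr ?_
  have key : ∀ (q : Ideal S) [q.IsPrime],
      (q.height ≤ 1 → IsRegularLocalRing (Localization.AtPrime q)) ∧
      min ((2 : ℕ) : ℕ∞) q.height ≤ LocCoh.depth (Localization.AtPrime q) (Localization.AtPrime q) := by
    intro q _
    set p := q.comap (algebraMap R S)
    have := h p
    let := (Localization.localRingHom p q (algebraMap R S) rfl).toAlgebra
    have : IsScalarTower R (Localization.AtPrime p) (Localization.AtPrime q) :=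
      IsScalarTower.of_algebraMap_eq fun a => by
        rw [RingHom.algebraMap_toAlgebra, Localization.localRingHom_to_map,
          IsScalarTower.algebraMap_apply R S (Localization.AtPrime q)]
    have : IsLocalHom (algebraMap (Localization.AtPrime p) (Localization.AtPrime q)) :=
      Localization.isLocalHom_localRingHom p q (algebraMap R S) rfl
    have : Module.Flat R (Localization.AtPrime q) := Module.Flat.trans R S _
    have : Module.Flat (Localization.AtPrime p) (Localization.AtPrime q) :=
      (Module.flat_iff_of_isLocalization (Localization.AtPrime p) p.primeCompl _).mpr inferInstance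
    let F := Localization.AtPrime q ⧸ (maximalIdeal (Localization.AtPrime p)).map
      (algebraMap (Localization.AtPrime p) (Localization.AtPrime q))
    have hFreg : IsRegularLocalRing F := by
      show IsRegularLocalRing (_ ⧸ _)
      rw [← Localization.AtPrime.map_eq_maximalIdeal, Ideal.map_map, ← IsScalarTower.algebraMap_eq]
      exact isRegularLocalRing_fibLocRing R S q
    have hdim : (q.height : WithBot ℕ∞) = p.height + ringKrullDim F := by
      rw [← IsLocalization.AtPrime.ringKrullDim_eq_height q (Localization.AtPrime q),
        ← IsLocalization.AtPrime.ringKrullDim_eq_height p (Localization.AtPrime p)]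
      exact ringKrullDim_eq_add_of_flat _ _
    refine ⟨fun hq => ?_, ?_⟩
    · have hp1 : p.height ≤ 1 := by
        refine le_trans ?_ hq
        rw [← WithBot.coe_le_coe, hdim]
        exact le_add_of_nonneg_right ringKrullDim_nonneg_of_nontrivial
      have := hR1 p hp1
      exact isRegularLocalRing_localization_of_flat_of_fiber R S q
    · have hp := hS2 p
      have hF := (isCohenMacaulayLocalRing_iff_dim_eq F).mp
        (isCohenMacaulayLocalRing_of_isRegularLocalRing F)
      rw [← WithBot.coe_le_coe, WithBot.coe_min, hdim, Groth.Ega4b.depth_eq_add_of_flat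
        (Localization.AtPrime p) (Localization.AtPrime q)]
      exact Groth.Ega4b.min_le_add_of_min_le
        (by rw [← WithBot.coe_le_coe, WithBot.coe_min] at hp; exact hp)
        ((min_le_right _ _).trans hF.le)
  exact ⟨fun q _ hq => (key q).1 hq, (Groth.Calg1.hasSk_self_iff 2).mpr fun q _ => (key q).2⟩

end Groth.Calg4
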