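import Mathlib
import Groth.Agent.Calg4.RegularSchemeBaseChange
import Groth.Agent.Ega4Algebra2.NormalTensor

/-!
Fibre rings of affine charts and geometric normality of the fibres of a morphism; base change.
-/

set_option autoImplicit false
set_option backward.isDefEq.respectTransparency.types false

universe u

open AlgebraicGeometry CategoryTheory Limits TensorProduct

namespace Groth.Calg4

open Groth.Ega4b

/-- Geometric normality only depends on the pair (field, algebra) up to isomorphism. -/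
theorem isGeomNormal_congr {K K' S S' : Type u} [Field K] [Field K'] [CommRing S]
    [CommRing S'] [Algebra K S] [Algebra K' S'] (σ : K ≃+* K') (e : S ≃+* S')
    (h : ∀ c, e (algebraMap K S c) = algebraMap K' S' (σ c))
    (hS : EGA4.IsGeomNormal K S) : EGA4.IsGeomNormal K' S' := by
  intro L _ _ hfin
  let : Algebra K K' := σ.toRingHom.toAlgebra
  let : Algebra K L := ((algebraMap K' L).comp σ.toRingHom).toAlgebra
  let : Algebra K S' := ((algebraMap K' S').comp σ.toRingHom).toAlgebra
  have : IsScalarTower K K' L := IsScalarTower.of_algebraMap_eq fun _ => rfl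
  have : IsScalarTower K K' S' := IsScalarTower.of_algebraMap_eq fun _ => rfl
  have : Module.Finite K K' := Module.Finite.of_surjective (Algebra.linearMap K K') σ.surjective
  have : Module.Finite K L := Module.Finite.trans K' L
  let e' : S ≃ₐ[K] S' := AlgEquiv.ofRingEquiv (f := e) h
  have : TensorProduct.CompatibleSMul K K' L S' := ⟨fun c a b => by
    obtain ⟨c, rfl⟩ := σ.surjective c
    have h1 : ∀ x : L, σ c • x = c • x := fun x => algebraMap_smul K' c x
    have h2 : ∀ x : S', σ c • x = c • x := fun x => algebraMap_smul K' c x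
    rw [h1, h2, TensorProduct.smul_tmul]⟩
  exact isNormalRing_of_ringEquiv
    ((Algebra.TensorProduct.congr (AlgEquiv.refl (R := K) (A₁ := L)) e').toRingEquiv.trans
      (Algebra.TensorProduct.equivOfCompatibleSMul K K' K L S').symm.toRingEquiv)
    (hS L inferInstance)

/-- Geometric normality is stable under field extensions. -/
theorem isGeomNormal_baseChange {k S : Type u} [Field k] [CommRing S] [Algebra k S]
    (h : EGA4.IsGeomNormal k S) (K : Type u) [Field K] [Algebra k K] : EGA4.IsGeomNormal K (K ⊗[k] S) := by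
  intro L _ _ _
  let : Algebra k L := ((algebraMap K L).comp (algebraMap k K)).toAlgebra
  have : IsScalarTower k K L := IsScalarTower.of_algebraMap_eq fun _ => rfl
  exact isNormalRing_of_ringEquiv ((Algebra.TensorProduct.comm k S L).toRingEquiv.trans
    (Algebra.TensorProduct.cancelBaseChange k K K L S).symm.toRingEquiv) (isNormalRing_tensor_field k S L h)

/-- Geometric normality descends along field extensions. -/
theorem isGeomNormal_of_baseChange {k S : Type u} [Field k] [CommRing S] [Algebra k S]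
    (K : Type u) [Field K] [Algebra k K] (h : EGA4.IsGeomNormal K (K ⊗[k] S)) : EGA4.IsGeomNormal k S := by
  intro L _ _ hfin
  have : Module.Finite K (K ⊗[k] L) := inferInstance
  obtain ⟨m, hm⟩ := Ideal.exists_maximal (K ⊗[k] L)
  let Ω := (K ⊗[k] L) ⧸ m
  let : Field Ω := Ideal.Quotient.field m
  have : Module.Finite K Ω := Module.Finite.of_surjective (Ideal.Quotient.mkₐ K m).toLinearMap
    Ideal.Quotient.mk_surjective
  let ι : L →ₐ[k] Ω :=
    ((Ideal.Quotient.mkₐ K m).restrictScalars k).comp Algebra.TensorProduct.includeRight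
  let : Algebra L Ω := ι.toRingHom.toAlgebra
  have : IsScalarTower k L Ω := IsScalarTower.of_algebraMap_eq fun a => (ι.commutes a).symm
  have h1 : EGA4.IsNormalRing (S ⊗[k] Ω) := isNormalRing_of_ringEquiv
    ((Algebra.TensorProduct.cancelBaseChange k K K Ω S).toRingEquiv.trans
      (Algebra.TensorProduct.comm k Ω S).toRingEquiv) (h Ω inferInstance)
  exact isNormalRing_of_ringEquiv (Algebra.TensorProduct.comm k S L).toRingEquiv
    (isNormalRing_tensor_of_extension k S L Ω h1)

/-- Geometric normality is Zariski local. -/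
theorem isGeomNormal_of_span {K S : Type u} [Field K] [CommRing S] [Algebra K S]
    (s : Set S) (hs : Ideal.span s = ⊤) (T : s → Type u) [∀ a, CommRing (T a)]
    [∀ a, Algebra S (T a)] [∀ a, Algebra K (T a)] [∀ a, IsScalarTower K S (T a)]
    [∀ a : s, IsLocalization.Away (a : S) (T a)]
    (h : ∀ a, EGA4.IsGeomNormal K (T a)) : EGA4.IsGeomNormal K S := by
  intro L _ _ hfin
  refine isNormalRing_of_ringEquiv (Algebra.TensorProduct.comm K S L).toRingEquiv ?_
  intro Q _
  obtain ⟨a, ha, haQ⟩ : ∃ a ∈ s, algebraMap S (S ⊗[K] L) a ∉ Q := by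
    by_contra hc
    push Not at hc
    have : (⊤ : Ideal S) ≤ Q.comap (algebraMap S (S ⊗[K] L)) := hs ▸ Ideal.span_le.mpr hc
    exact (Ideal.IsPrime.comap (algebraMap S (S ⊗[K] L))).ne_top (top_le_iff.mp this)
  let C := (S ⊗[K] L) ⊗[S] T ⟨a, ha⟩
  let M := Algebra.algebraMapSubmonoid (S ⊗[K] L) (Submonoid.powers a)
  have hC : EGA4.IsNormalRing C :=
    isNormalRing_of_ringEquiv (((Algebra.TensorProduct.comm K L _).toRingEquiv.trans
      (Algebra.TensorProduct.cancelBaseChange K S S (T ⟨a, ha⟩) L).symm.toRingEquiv).trans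
      (Algebra.TensorProduct.comm S (T ⟨a, ha⟩) (S ⊗[K] L)).toRingEquiv) (h ⟨a, ha⟩ L hfin)
  have : IsLocalization (Submonoid.powers a) (T ⟨a, ha⟩) :=
    (inferInstance : IsLocalization.Away ((⟨a, ha⟩ : s) : S) (T ⟨a, ha⟩))
  have hdisj : Disjoint (M : Set (S ⊗[K] L)) Q := by
    rw [Set.disjoint_left]
    rintro _ ⟨_, ⟨n, rfl⟩, rfl⟩ hx
    rw [SetLike.mem_coe, map_pow] at hx
    exact haQ (Ideal.IsPrime.mem_of_pow_mem ‹_› n hx)
  have : IsLocalization M C := inferInstance
  have : (Q.map (algebraMap (S ⊗[K] L) C)).IsPrime :=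
    IsLocalization.isPrime_of_isPrime_disjoint M C Q ‹_› hdisj
  obtain ⟨h1, h2⟩ := hC (Q.map (algebraMap (S ⊗[K] L) C))
  have e : (Q.map (algebraMap (S ⊗[K] L) C)).comap (algebraMap (S ⊗[K] L) C) = Q :=
    IsLocalization.under_map_of_isPrime_disjoint M C ‹_› hdisj
  have : IsLocalization.AtPrime (Localization.AtPrime (Q.map (algebraMap (S ⊗[K] L) C))) Q := by
    have := IsLocalization.isLocalization_isLocalization_atPrime_isLocalization M
      (Localization.AtPrime (Q.map (algebraMap (S ⊗[K] L) C))) (Q.map (algebraMap (S ⊗[K] L) C))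
    simpa only [e] using this
  let eq : Localization.AtPrime Q ≃ₐ[S ⊗[K] L] Localization.AtPrime (Q.map (algebraMap (S ⊗[K] L) C)) :=
    IsLocalization.algEquiv Q.primeCompl _ _
  exact ⟨eq.toRingEquiv.toMulEquiv.isDomain_iff.mpr h1, @IsIntegrallyClosed.of_equiv _ _ _ _ eq.symm.toRingEquiv h2⟩

section Scheme

variable {X Y : Scheme.{u}} (f : X ⟶ Y)

/-- Geometric normality of the sections over an open of a fibre. -/
def FibNormal (y : Y) (W : (f.fiber y).Opens) : Prop :=
  letI := fibAlg f y W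
  EGA4.IsGeomNormal ↑(Y.residueField y) ↑Γ(f.fiber y, W)

/-- `FibNormal` propagates along basic opens and is local. -/
theorem fibNormal_of_cover (y : Y) {ι : Type*} (U : ι → (f.fiber y).affineOpens)
    (hU : (⨆ i, (U i : (f.fiber y).Opens)) = ⊤)
    (h : ∀ i, FibNormal f y (U i)) (W : (f.fiber y).affineOpens) : FibNormal f y W := by
  induction W using of_affine_open_cover U hU with
  | basicOpen W a hW =>
    let := fibAlg f y W.1
    let := fibAlg f y ((f.fiber y).basicOpen a)
    have : IsLocalization.Away a Γ(f.fiber y, (f.fiber y).basicOpen a) :=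
      W.2.isLocalization_basicOpen a
    have htower : IsScalarTower (Y.residueField y) Γ(f.fiber y, W.1)
        Γ(f.fiber y, (f.fiber y).basicOpen a) := IsScalarTower.of_algebraMap_eq fun c =>
      (fibAlg_map f y ((f.fiber y).basicOpen_le a) c).symm
    exact @Groth.Ega4b.isGeomNormal_of_isLocalization (Y.residueField y) _ Γ(f.fiber y, W.1) _ _ (Submonoid.powers a) Γ(f.fiber y, (f.fiber y).basicOpen a) _ _ _ _ htower hW
  | openCover W s hs hW =>
    let := fibAlg f y W.1
    let : ∀ a : (s : Set Γ(f.fiber y, W.1)),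
        Algebra (Y.residueField y) Γ(f.fiber y, (f.fiber y).basicOpen a.1) :=
      fun a => fibAlg f y ((f.fiber y).basicOpen a.1)
    have : ∀ a : (s : Set Γ(f.fiber y, W.1)), IsScalarTower (Y.residueField y) Γ(f.fiber y, W.1)
        Γ(f.fiber y, (f.fiber y).basicOpen a.1) := fun a => IsScalarTower.of_algebraMap_eq fun c =>
      (fibAlg_map f y ((f.fiber y).basicOpen_le a.1) c).symm
    have : ∀ a : (s : Set Γ(f.fiber y, W.1)),
        IsLocalization.Away a.1 Γ(f.fiber y, (f.fiber y).basicOpen a.1) :=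
      fun a => W.2.isLocalization_basicOpen a.1
    exact isGeomNormal_of_span (s : Set Γ(f.fiber y, W.1)) hs
      (fun a => Γ(f.fiber y, (f.fiber y).basicOpen a.1)) fun a => hW ⟨a.1, a.2⟩
  | hU i => exact h i

/-- The fibre ring of an affine chart is the ring of sections of the chart in the fibre. -/
theorem fibNormal_chart_iff {U : X.Opens} {V : Y.Opens} (hU : IsAffineOpen U) (hV : IsAffineOpen V)
    (hUV : U ≤ f ⁻¹ᵁ V) (y : Y) (hy : y ∈ V) :
    IsAffineOpen (f.fiberι y ⁻¹ᵁ U) ∧
      letI := (f.appLE V U hUV).hom.toAlgebra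
      (FibNormal f y (f.fiberι y ⁻¹ᵁ U) ↔
        EGA4.IsGeomNormal (hV.primeIdealOf ⟨y, hy⟩).asIdeal.ResidueField
            ((hV.primeIdealOf ⟨y, hy⟩).asIdeal.Fiber Γ(X, U))) := by
  classical
  set W := f.fiberι y ⁻¹ᵁ U with hW
  let := (f.appLE V U hUV).hom.toAlgebra
  let := fibAlg f y W
  have hUT : (⊤ : (Spec (Y.residueField y)).Opens) ≤ Y.fromSpecResidueField y ⁻¹ᵁ V := by
    intro x _
    have : Y.fromSpecResidueField y x = y := by simp
    show Y.fromSpecResidueField y x ∈ V
    rw [this]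
    exact hy
  have hUY : W = f.fiberι y ⁻¹ᵁ U ⊓ f.fiberToSpecResidueField y ⁻¹ᵁ ⊤ := by simp [hW]
  have H : IsPullback (f.fiberι y) (f.fiberToSpecResidueField y) f (Y.fromSpecResidueField y) :=
    IsPullback.of_hasPullback _ _
  have hTaff : IsAffineOpen (⊤ : (Spec (Y.residueField y)).Opens) := isAffineOpen_top _
  have haff : IsAffineOpen W := by
    have : IsAffine _ := hV
    have : IsAffine _ := hTaff
    have : IsAffine _ := hU
    rw [hUY]
    exact .of_isIso (Scheme.Hom.isPullback_resLE H hUT hUV rfl).isoPullback.hom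
  refine ⟨haff, ?_⟩
  have hpo := (isIso_pushoutSection_iff H hUT hUV hUY).mp
    (isIso_pushoutSection_of_isAffineOpen H hUT hUV hUY hV hTaff hU)
  set p := (hV.primeIdealOf ⟨y, hy⟩).asIdeal with hp
  let K' := Γ(Spec (Y.residueField y), ⊤)
  let := ((Y.fromSpecResidueField y).appLE V ⊤ hUT).hom.toAlgebra
  -- the structure map to the residue field is evaluation
  have hev : (Y.fromSpecResidueField y).appLE V ⊤ hUT =
      Y.evaluation V y hy ≫ (Scheme.ΓSpecIso (Y.residueField y)).inv := by
    simp only [← Groth.FibreDim.SpecMap_evaluation hV y hy]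
    rw [Scheme.Hom.comp_appLE, hV.fromSpec_app_self]
    simp only [Category.assoc]
    rw [Scheme.Hom.map_appLE]
    simp [Scheme.Hom.appLE, Scheme.ΓSpecIso_inv_naturality]
  have hker : ∀ a, Y.evaluation V y hy a = 0 ↔ a ∈ p := fun a => by
    let := Y.presheaf.algebra_section_stalk ⟨y, hy⟩
    have := hV.isLocalization_stalk ⟨y, hy⟩
    show IsLocalRing.residue _ (algebraMap Γ(Y, V) (Y.presheaf.stalk y) a) = 0 ↔ _
    rw [IsLocalRing.residue_eq_zero_iff]
    exact IsLocalization.AtPrime.to_map_mem_maximal_iff (Y.presheaf.stalk y) p a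
  let τ : p.ResidueField →+* Y.residueField y :=
    Ideal.ResidueField.lift p (Y.evaluation V y hy).hom (fun a ha => (hker a).mpr ha)
      fun a ha => isUnit_iff_ne_zero.mpr fun h => ha ((hker a).mp h)
  have hτ : ∀ a, τ (algebraMap Γ(Y, V) p.ResidueField a) = Y.evaluation V y hy a := fun a =>
    Ideal.ResidueField.lift_algebraMap p _ _ _ a
  have hτbij : Function.Bijective τ := by
    refine ⟨τ.injective, fun z => ?_⟩
    obtain ⟨a, b, hb, rfl⟩ := Groth.Variety2.Dim.exists_evaluation_eq_div hV hy z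
    exact ⟨algebraMap _ _ a / algebraMap _ _ b, by rw [map_div₀, hτ, hτ]⟩
  let σ₀ : p.ResidueField ≃+* Y.residueField y := RingEquiv.ofBijective τ hτbij
  let σ : p.ResidueField ≃ₐ[Γ(Y, V)] K' := AlgEquiv.ofRingEquiv
    (f := σ₀.trans (Scheme.ΓSpecIso (Y.residueField y)).symm.commRingCatIsoToRingEquiv) fun a => by
      show (Scheme.ΓSpecIso (Y.residueField y)).inv (τ (algebraMap _ _ a)) = _
      rw [hτ, RingHom.algebraMap_toAlgebra, hev]
      rfl
  let i := (CommRingCat.isPushout_tensorProduct Γ(Y, V) Γ(X, U) K').isoIsPushout _ _ hpo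
  let e : p.Fiber Γ(X, U) ≃+* Γ(f.fiber y, W) :=
    ((Algebra.TensorProduct.comm Γ(Y, V) p.ResidueField Γ(X, U)).trans
      (Algebra.TensorProduct.congr AlgEquiv.refl σ)).toRingEquiv.trans i.commRingCatIsoToRingEquiv
  have he : ∀ c, e (algebraMap p.ResidueField (p.Fiber Γ(X, U)) c) =
      algebraMap (Y.residueField y) Γ(f.fiber y, W) (σ₀ c) := fun c => by
    have h1 := IsPushout.inr_isoIsPushout_hom _ _
      (CommRingCat.isPushout_tensorProduct Γ(Y, V) Γ(X, U) K') hpo
    have h2 : i.hom ((1 : Γ(X, U)) ⊗ₜ[Γ(Y, V)] σ c) =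
        (f.fiberToSpecResidueField y).appLE ⊤ W (by simp) (σ c) :=
      congr($(congrArg CommRingCat.Hom.hom h1) (σ c))
    exact h2
  exact ⟨isGeomNormal_congr σ₀.symm e.symm (fun c => by
      apply e.injective
      rw [RingEquiv.apply_symm_apply, he, RingEquiv.apply_symm_apply]),
    isGeomNormal_congr σ₀ e he⟩

/-- Fibres with normal affine-local ring maps are geometrically normal, and conversely. -/
theorem normal_affineLocally_iff :
    (∀ (U : X.Opens) (V : Y.Opens) (_ : IsAffineOpen U) (_ : IsAffineOpen V) (hUV : U ≤ f ⁻¹ᵁ V),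
        letI := (f.appLE V U hUV).hom.toAlgebra
        EGA4.IsNormalHom Γ(Y, V) Γ(X, U)) ↔
      Flat f ∧ ∀ (y : Y) (W : (f.fiber y).Opens), IsAffineOpen W → FibNormal f y W := by
  refine ⟨fun h => ⟨?_, fun y W hW => ?_⟩, fun h U V hU hV hUV => ?_⟩
  · exact (HasRingHomProperty.iff_appLE (P := @Flat)).mpr fun {V U} e => (h U V U.2 V.2 e).1
  · have key : ∀ x : f.fiber y, ∃ W : (f.fiber y).affineOpens, x ∈ W.1 ∧ FibNormal f y W := by
      intro x
      obtain ⟨_, ⟨V, hV, rfl⟩, hyV, -⟩ :=
        Y.isBasis_affineOpens.exists_subset_of_mem_open (Set.mem_univ y) isOpen_univ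
      have hx : f (f.fiberι y x) = y := Groth.FibreDim.apply_fiberι f y x
      obtain ⟨_, ⟨U, hU, rfl⟩, hxU, hUV⟩ :=
        X.isBasis_affineOpens.exists_subset_of_mem_open (a := f.fiberι y x)
          (u := (f ⁻¹ᵁ V : X.Opens)) (by show f (f.fiberι y x) ∈ V; rw [hx]; exact hyV)
          (f ⁻¹ᵁ V).2
      obtain ⟨haff, hiff⟩ := fibNormal_chart_iff f hU hV hUV y hyV
      refine ⟨⟨_, haff⟩, hxU, hiff.mpr ?_⟩
      let := (f.appLE V U hUV).hom.toAlgebra
      exact (h U V hU hV hUV).2 _
    choose W₀ hW₀ hgood using key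
    exact fibNormal_of_cover f y W₀ (top_le_iff.mp fun x _ => TopologicalSpace.Opens.mem_iSup.mpr
      ⟨x, hW₀ x⟩) hgood ⟨W, hW⟩
  · let := (f.appLE V U hUV).hom.toAlgebra
    refine ⟨HasRingHomProperty.appLE (P := @Flat) f h.1 ⟨V, hV⟩ ⟨U, hU⟩ hUV, fun p _ => ?_⟩
    let y := hV.fromSpec ⟨p, ‹_›⟩
    have hy : y ∈ V := hV.range_fromSpec.le ⟨⟨p, ‹_›⟩, rfl⟩
    have hp : hV.primeIdealOf ⟨y, hy⟩ = ⟨p, ‹_›⟩ :=
      hV.fromSpec.isOpenEmbedding.injective (hV.fromSpec_primeIdealOf ⟨y, hy⟩)
    obtain ⟨haff, hiff⟩ := fibNormal_chart_iff f hU hV hUV y hy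
    have h' := hiff.mp (h.2 y _ haff)
    rw [hp] at h'
    exact h'


end Scheme

variable {X Y X' Y' : Scheme.{u}} {f : X ⟶ Y} {f' : X' ⟶ Y'} {g' : X' ⟶ X} {g : Y' ⟶ Y}

/-- Geometric normality of the sections of an affine open of a fibre and of its preimage. -/
theorem fibNormal_preimage_iff (hc : IsPullback g' f' f g) (y' : Y')
    (W : (f.fiber (g y')).Opens) (hW : IsAffineOpen W) :
    IsAffineOpen (fibreMap hc y' ⁻¹ᵁ W) ∧
      (FibNormal f' y' (fibreMap hc y' ⁻¹ᵁ W) ↔ FibNormal f (g y') W) := by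
  have H : IsPullback (fibreMap hc y') (f'.fiberToSpecResidueField y')
      (f.fiberToSpecResidueField (g y')) (Spec.map (g.residueFieldMap y')) :=
    isPullback_fiberToSpecResidueField_of_isPullback hc y'
  set M := fibreMap hc y'
  set W' := M ⁻¹ᵁ W with hW'
  set φ := g.residueFieldMap y'
  set π := f.fiberToSpecResidueField (g y')
  set π' := f'.fiberToSpecResidueField y'
  let := fibAlg f (g y') W
  let := fibAlg f' y' W'
  let : Algebra (Y.residueField (g y')) (Y'.residueField y') := φ.hom.toAlgebra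
  have hUT : (⊤ : (Spec (Y'.residueField y')).Opens) ≤ Spec.map φ ⁻¹ᵁ ⊤ := by simp
  have hUX : W ≤ π ⁻¹ᵁ ⊤ := by simp
  have hUY : W' = M ⁻¹ᵁ W ⊓ π' ⁻¹ᵁ ⊤ := by simp [hW']
  have hK : IsAffineOpen (⊤ : (Spec (Y.residueField (g y'))).Opens) := isAffineOpen_top _
  have hL : IsAffineOpen (⊤ : (Spec (Y'.residueField y')).Opens) := isAffineOpen_top _
  have haff : IsAffineOpen W' := by
    have : IsAffine _ := hK
    have : IsAffine _ := hL
    have : IsAffine _ := hW
    rw [hUY]
    exact .of_isIso (Scheme.Hom.isPullback_resLE H hUT hUX rfl).isoPullback.hom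
  refine ⟨haff, ?_⟩
  have hpo₀ := (isIso_pushoutSection_iff H hUT hUX hUY).mp
    (isIso_pushoutSection_of_isAffineOpen H hUT hUX hUY hK hL hW)
  have hpo : IsPushout (CommRingCat.ofHom (algebraMap (Y.residueField (g y')) Γ(f.fiber (g y'), W)))
      φ (M.appLE W W' (by simp [hW']))
      (CommRingCat.ofHom (algebraMap (Y'.residueField y') Γ(f'.fiber y', W'))) := by
    refine IsPushout.of_iso hpo₀ (Scheme.ΓSpecIso _) (Iso.refl _) (Scheme.ΓSpecIso _) (Iso.refl _)
      ?_ ?_ ?_ ?_
    · rw [Iso.refl_hom, Category.comp_id]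
      show _ = (Scheme.ΓSpecIso (Y.residueField (g y'))).hom ≫
        ((Scheme.ΓSpecIso (Y.residueField (g y'))).inv ≫ π.appTop ≫
          (f.fiber (g y')).presheaf.map (homOfLE le_top).op)
      rw [Iso.hom_inv_id_assoc]
      rfl
    · simp [Scheme.Hom.appLE, Scheme.ΓSpecIso_naturality]
    · simp
    · rw [Iso.refl_hom, Category.comp_id]
      show _ = (Scheme.ΓSpecIso (Y'.residueField y')).hom ≫
        ((Scheme.ΓSpecIso (Y'.residueField y')).inv ≫ π'.appTop ≫
          (f'.fiber y').presheaf.map (homOfLE le_top).op)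
      rw [Iso.hom_inv_id_assoc]
      rfl
  let S := Γ(f.fiber (g y'), W)
  have hT := CommRingCat.isPushout_tensorProduct (Y.residueField (g y')) S (Y'.residueField y')
  let i := hT.isoIsPushout _ _ hpo
  let e : Y'.residueField y' ⊗[Y.residueField (g y')] S ≃+* Γ(f'.fiber y', W') :=
    (Algebra.TensorProduct.comm (Y.residueField (g y')) (Y'.residueField y') S).toRingEquiv.trans
      i.commRingCatIsoToRingEquiv
  have he : ∀ c, e (algebraMap (Y'.residueField y') (Y'.residueField y' ⊗[Y.residueField (g y')] S) c) =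
      algebraMap (Y'.residueField y') Γ(f'.fiber y', W') c := fun c => by
    have h1 := IsPushout.inr_isoIsPushout_hom _ _ hT hpo
    exact congr($(congrArg CommRingCat.Hom.hom h1) c)
  refine ⟨fun h => ?_, fun h => ?_⟩
  · refine isGeomNormal_of_baseChange (Y'.residueField y') ?_
    exact isGeomNormal_congr (RingEquiv.refl _) e.symm (fun c => by
      apply e.injective
      rw [RingEquiv.apply_symm_apply, RingEquiv.refl_apply, he]) h
  · exact isGeomNormal_congr (RingEquiv.refl _) e (fun c => he c)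
      (isGeomNormal_baseChange h (Y'.residueField y'))

/-- Geometrically normal fibres: fppf base change. -/
theorem fibNormal_forall_iff [Surjective g] (hc : IsPullback g' f' f g) :
    (∀ (y : Y) (W : (f.fiber y).Opens), IsAffineOpen W → FibNormal f y W) ↔
      ∀ (y' : Y') (W : (f'.fiber y').Opens), IsAffineOpen W → FibNormal f' y' W := by
  refine ⟨fun h y' W hW => ?_, fun h y W hW => ?_⟩
  · refine fibNormal_of_cover f' y'
      (fun V : (f.fiber (g y')).affineOpens =>
        ⟨_, (fibNormal_preimage_iff hc y' V.1 V.2).1⟩)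
      (top_le_iff.mp fun x _ => ?_)
      (fun V => (fibNormal_preimage_iff hc y' V.1 V.2).2.mpr (h _ V.1 V.2)) ⟨W, hW⟩
    obtain ⟨_, ⟨V, hV, rfl⟩, hxV, -⟩ := (f.fiber (g y')).isBasis_affineOpens.exists_subset_of_mem_open
      (Set.mem_univ (fibreMap hc y' x)) isOpen_univ
    exact TopologicalSpace.Opens.mem_iSup.mpr ⟨⟨V, hV⟩, hxV⟩
  · obtain ⟨y', rfl⟩ := g.surjective y
    obtain ⟨haff, hiff⟩ := fibNormal_preimage_iff hc y' W hW
    exact hiff.mp (h _ _ haff)


end Groth.Calg4
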