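import Groth.Agent.Ega4Algebra1.GlobalDim
import Groth.Agent.S1351
import Groth.Agent.S2049
import Mathlib.RingTheory.PicardGroup

/-!
Picard group of the generic fibre of a flat local algebra, essentially of finite type over a valuation
ring, with regular closed fibre.
-/

set_option autoImplicit false
set_option backward.isDefEq.respectTransparency false
set_option backward.isDefEq.respectTransparency.types false
set_option linter.style.haveILetI false
set_option linter.unusedSectionVars false

universe u

open IsLocalRing TensorProduct Groth.Ega4Algebra1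

namespace Groth.Calg4.PicValFibre

section Det

variable {B : Type u} [CommRing B]

/-- A stably free invertible module is free. -/
theorem free_of_stablyFree_invertible {L : Type u} [AddCommGroup L] [Module B L] [Module.Invertible B L]
    {a b : ℕ} (e : (L × (Fin a → B)) ≃ₗ[B] (Fin b → B)) : Module.Free B L := by
  classical
  cases subsingleton_or_nontrivial B with
  | inl h => exact Module.Free.of_subsingleton' B L
  | inr h =>
  obtain ⟨m₀, hm₀⟩ := Ideal.exists_maximal B
  let := Ideal.Quotient.field m₀
  have hb : b = a + 1 := by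
    let e' : ((B ⧸ m₀) ⊗[B] L × (Fin a → B ⧸ m₀)) ≃ₗ[B ⧸ m₀] (Fin b → B ⧸ m₀) :=
      ((LinearEquiv.refl (B ⧸ m₀) _).prodCongr ((Pi.basisFun B (Fin a)).baseChange (B ⧸ m₀)).equivFun.symm).trans
        ((TensorProduct.prodRight B (B ⧸ m₀) (B ⧸ m₀) L (Fin a → B)).symm.trans
          ((TensorProduct.AlgebraTensorModule.congr (LinearEquiv.refl (B ⧸ m₀) (B ⧸ m₀)) e).trans
            ((Pi.basisFun B (Fin b)).baseChange (B ⧸ m₀)).equivFun))
    have := e'.finrank_eq
    rw [Module.finrank_prod, Module.finrank_fin_fun, Module.finrank_fin_fun,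
      Module.Invertible.finrank_eq_one] at this
    omega
  subst hb
  let v : Fin a → Fin (a + 1) → B := fun i => e (0, Pi.single i 1)
  let ψ : L →ₗ[B] B :=
    ((Matrix.detRowAlternating (R := B) (n := Fin (a + 1))).toMultilinearMap.toLinearMap
      (Fin.cons 0 v) 0).comp (e.toLinearMap.comp (LinearMap.inl B _ _))
  have hψ : ∀ p, ψ p = Matrix.det (Matrix.of (Fin.cons (e (p, 0)) v)) := fun p => by
    simp only [ψ, LinearMap.comp_apply, MultilinearMap.toLinearMap_apply, Fin.update_cons_zero]
    rfl
  have hrange : LinearMap.range ψ = ⊤ := by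
    by_contra hne
    obtain ⟨m, hm, hle⟩ := Ideal.exists_le_maximal (LinearMap.range ψ) hne
    let q := Ideal.Quotient.mk m
    let : Field (B ⧸ m) := Ideal.Quotient.field m
    let red : (Fin (a + 1) → B) → (Fin (a + 1) → B ⧸ m) := fun w i => q (w i)
    have hv : LinearIndependent (B ⧸ m) (fun i => red (v i)) := by
      rw [Fintype.linearIndependent_iff]
      intro c hc i
      choose c' hc' using fun j => Ideal.Quotient.mk_surjective (c j)
      have hw : ∀ k, (∑ j, c' j • v j) k ∈ m := fun k => by
        rw [← Ideal.Quotient.eq_zero_iff_mem]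
        have := congrFun hc k
        simp only [Finset.sum_apply, Pi.smul_apply, smul_eq_mul, map_sum, map_mul, red, q, hc',
          Pi.zero_apply] at this ⊢
        exact this
      have h1 : e.symm (∑ j, c' j • v j) = (0, c') := by
        simp only [map_sum, map_smul, v, LinearEquiv.symm_apply_apply]
        refine Prod.ext (by simp [Prod.fst_sum]) ?_
        simp only [Prod.snd_sum, Prod.smul_snd]
        exact (pi_eq_sum_univ' c').symm
      have h2 : ∀ (l : (Fin (a + 1) → B) →ₗ[B] B), l (∑ j, c' j • v j) ∈ m := fun l => by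
        rw [pi_eq_sum_univ' (∑ j, c' j • v j), map_sum]
        exact sum_mem fun k _ => by
          rw [map_smul, smul_eq_mul]
          exact m.mul_mem_right _ (hw k)
      have h3 := h2 ((LinearMap.proj i).comp ((LinearMap.snd B _ _).comp e.symm.toLinearMap))
      simp only [LinearMap.comp_apply, LinearEquiv.coe_coe, LinearMap.snd_apply, LinearMap.proj_apply,
        h1] at h3
      rw [← hc' i]
      exact Ideal.Quotient.eq_zero_iff_mem.2 h3
    have hmem : ∀ w, red w ∈ Submodule.span (B ⧸ m) (Set.range fun i => red (v i)) := by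
      intro w
      have hdec : w = e ((e.symm w).1, 0) + ∑ i, (e.symm w).2 i • v i := by
        simp only [v, ← map_smul, ← map_sum, ← map_add]
        conv_lhs => rw [← e.apply_symm_apply w]
        congr 1
        refine Prod.ext (by simp [Prod.fst_sum]) ?_
        simp only [Prod.snd_add, Prod.snd_sum, Prod.smul_snd, zero_add]
        exact pi_eq_sum_univ' _
      have hu : red (e ((e.symm w).1, 0)) ∈
          Submodule.span (B ⧸ m) (Set.range fun i => red (v i)) := by
        by_contra hns
        have hli : LinearIndependent (B ⧸ m)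
            (Fin.cons (red (e ((e.symm w).1, 0))) fun i => red (v i) : Fin (a + 1) → _) :=
          linearIndependent_finCons.2 ⟨hv, hns⟩
        have hdet : Matrix.det (Matrix.of (Fin.cons (red (e ((e.symm w).1, 0))) fun i => red (v i) :
            Fin (a + 1) → Fin (a + 1) → B ⧸ m)) ≠ 0 := by
          exact IsUnit.ne_zero ((Matrix.isUnit_iff_isUnit_det _).1
            (Matrix.linearIndependent_rows_iff_isUnit.1 hli))
        apply hdet
        have := Ideal.Quotient.eq_zero_iff_mem.2 (hle ⟨(e.symm w).1, rfl⟩)
        rw [hψ, RingHom.map_det] at this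
        convert this using 2
        ext i j
        cases i using Fin.cases <;> simp [red, q]
      have : red w = red (e ((e.symm w).1, 0)) +
          ∑ i, q ((e.symm w).2 i) • red (v i) := by
        conv_lhs => rw [hdec]
        ext k
        simp [red, q, Finset.sum_apply]
      rw [this]
      exact add_mem hu (sum_mem fun i _ => Submodule.smul_mem _ _ (Submodule.subset_span ⟨i, rfl⟩))
    have htop : Submodule.span (B ⧸ m) (Set.range fun i => red (v i)) = ⊤ := by
      refine eq_top_iff.2 fun x _ => ?_
      choose x' hx' using fun k => Ideal.Quotient.mk_surjective (x k)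
      have : red x' = x := funext hx'
      exact this ▸ hmem x'
    have := finrank_range_le_card (R := B ⧸ m) (fun i => red (v i))
    rw [Set.finrank, htop, finrank_top] at this
    simp at this
  exact Module.Free.of_equiv
    (LinearEquiv.ofBijective ψ (Module.Invertible.bijective_of_surjective (LinearMap.range_eq_top.mp hrange))).symm

end Det

section Val

variable (R : Type u) [CommRing R] [IsDomain R] [ValuationRing R]
  {A : Type u} [CommRing A] [Algebra R A]

/-- The ideal of the closed fibre. -/
abbrev fibI (A : Type u) [CommRing A] [Algebra R A] : Ideal A :=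
  (maximalIdeal R).map (algebraMap R A)

theorem mem_fibI_smul_top {M : Type u} [AddCommGroup M] [Module A M] [Module R M] [IsScalarTower R A M]
    (x : M) : x ∈ (fibI R A • ⊤ : Submodule A M) ↔ ∃ r ∈ maximalIdeal R, ∃ y : M, x = r • y := by
  constructor
  · intro hx
    have h : x ∈ (maximalIdeal R • ⊤ : Submodule R M) := by
      rw [← Submodule.restrictScalars_top R A M, ← Ideal.smul_restrictScalars]
      exact hx
    refine Submodule.smul_induction_on h (fun r hr y _ => ⟨r, hr, y, rfl⟩) ?_
    rintro _ _ ⟨r, hr, y, rfl⟩ ⟨r', hr', y', rfl⟩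
    rcases ValuationRing.dvd_total r r' with ⟨c, rfl⟩ | ⟨c, rfl⟩
    · exact ⟨r, hr, y + c • y', by rw [smul_add, mul_smul]⟩
    · exact ⟨r', hr', c • y + y', by rw [smul_add, mul_smul]⟩
  · rintro ⟨r, hr, y, rfl⟩
    rw [← algebraMap_smul A r y]
    exact Submodule.smul_mem_smul (Ideal.mem_map_of_mem _ hr) trivial

variable {M : Type u} [AddCommGroup M] [Module A M] [Module R M] [IsScalarTower R A M]

theorem flat_of_torsionFree {N : Type u} [AddCommGroup N] [Module R N]
    (h : ∀ (r : R) (x : N), r • x = 0 → r ≠ 0 → x = 0) : Module.Flat R N := by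
  rw [Module.Flat.flat_iff_torsion_eq_bot_of_isBezout]
  refine eq_bot_iff.2 fun x hx => ?_
  obtain ⟨r, hr⟩ := hx
  exact (Submodule.mem_bot R).2 (h r x hr (nonZeroDivisors.ne_zero r.2))

theorem smul_eq_zero_of_flat [Module.Flat R M] {r : R} {x : M} (h : r • x = 0) (hr : r ≠ 0) : x = 0 := by
  have ht : Submodule.torsion R M = ⊥ := Module.Flat.flat_iff_torsion_eq_bot_of_isBezout.1 inferInstance
  have : x ∈ Submodule.torsion R M := ⟨⟨r, mem_nonZeroDivisors_of_ne_zero hr⟩, h⟩
  rwa [ht, Submodule.mem_bot] at this

omit [Module R M] [IsScalarTower R A M] in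
theorem flat_ker [Module.Flat R A] {k : ℕ} (f : (Fin k → A) →ₗ[A] M) :
    Module.Flat R (LinearMap.ker f) :=
  flat_of_torsionFree R fun r x h hr => Subtype.ext (funext fun i =>
    smul_eq_zero_of_flat R (M := A) (congrFun (congrArg Subtype.val h) i) hr)

/-- Reduction to the closed fibre commutes with kernels when the target is flat. -/
theorem exists_equiv_ker_fib [Module.Flat R M] {k : ℕ} (f : (Fin k → A) →ₗ[A] M) (hf : Function.Surjective f) :
    Nonempty ((LinearMap.ker f ⧸ (fibI R A • ⊤ : Submodule A (LinearMap.ker f))) ≃ₗ[A ⧸ fibI R A]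
      LinearMap.ker (quotMap (fibI R A) f)) := by
  let g : (LinearMap.ker f ⧸ (fibI R A • ⊤ : Submodule A (LinearMap.ker f))) →ₗ[A ⧸ fibI R A]
      LinearMap.ker (quotMap (fibI R A) f) :=
    LinearMap.codRestrict _ (quotMap (fibI R A) (LinearMap.ker f).subtype) fun y => by
      obtain ⟨⟨y, hy⟩, rfl⟩ := Submodule.Quotient.mk_surjective _ y
      rw [LinearMap.mem_ker, quotMap_mk, quotMap_mk]
      simp [LinearMap.mem_ker.mp hy]
  refine ⟨LinearEquiv.ofBijective g ⟨?_, ?_⟩⟩
  · rw [injective_iff_map_eq_zero]
    intro y hy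
    obtain ⟨⟨y, hy'⟩, rfl⟩ := Submodule.Quotient.mk_surjective _ y
    have h : quotMap (fibI R A) (LinearMap.ker f).subtype (Submodule.Quotient.mk ⟨y, hy'⟩) = 0 :=
      congrArg Subtype.val hy
    rw [quotMap_mk, Submodule.Quotient.mk_eq_zero, mem_fibI_smul_top] at h
    obtain ⟨r, hr, z, hz⟩ := h
    rw [Submodule.Quotient.mk_eq_zero, mem_fibI_smul_top]
    by_cases hr0 : r = 0
    · exact ⟨0, Submodule.zero_mem _, 0, Subtype.ext (by simpa [hr0] using hz)⟩
    have hzk : f z = 0 := smul_eq_zero_of_flat R (M := M) (r := r) (by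
      rw [← LinearMap.map_smul_of_tower, ← hz]; exact LinearMap.mem_ker.mp hy') hr0
    exact ⟨r, hr, ⟨z, hzk⟩, Subtype.ext hz⟩
  · rintro ⟨y, hy⟩
    obtain ⟨y, rfl⟩ := Submodule.Quotient.mk_surjective _ y
    rw [LinearMap.mem_ker, quotMap_mk, Submodule.Quotient.mk_eq_zero, mem_fibI_smul_top] at hy
    obtain ⟨r, hr, w, hw⟩ := hy
    obtain ⟨z, rfl⟩ := hf w
    refine ⟨Submodule.Quotient.mk ⟨y - r • z, LinearMap.mem_ker.mpr (by
      rw [map_sub, LinearMap.map_smul_of_tower, hw, sub_self])⟩, Subtype.ext ?_⟩
    show Submodule.Quotient.mk (y - r • z) = Submodule.Quotient.mk y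
    rw [Submodule.Quotient.eq, mem_fibI_smul_top]
    exact ⟨r, hr, -z, by rw [smul_neg]; abel⟩

variable [IsLocalRing A] [IsLocalHom (algebraMap R A)] [Algebra.EssFiniteType R A] [Module.Flat R A]

theorem fibI_le : fibI R A ≤ maximalIdeal A :=
  IsLocalRing.map_maximalIdeal_le (algebraMap R A)

theorem free_of_fib_free [Module.Finite A M] [Module.Flat R M]
    [Module.Free (A ⧸ fibI R A) (M ⧸ (fibI R A • ⊤ : Submodule A M))] : Module.Free A M := by
  classical
  let bb := Module.Free.chooseBasis (A ⧸ fibI R A) (M ⧸ (fibI R A • ⊤ : Submodule A M))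
  haveI : Nontrivial (A ⧸ fibI R A) :=
    Ideal.Quotient.nontrivial_iff.2 fun h => (maximalIdeal.isMaximal A).ne_top
      (top_le_iff.1 (h ▸ fibI_le R))
  haveI : Module.Finite (A ⧸ fibI R A) (M ⧸ (fibI R A • ⊤ : Submodule A M)) :=
    Module.Finite.of_restrictScalars_finite A _ _
  haveI := Fintype.ofFinite (Module.Free.ChooseBasisIndex (A ⧸ fibI R A) (M ⧸ (fibI R A • ⊤ : Submodule A M)))
  choose m hm using fun i => Submodule.Quotient.mk_surjective (fibI R A • ⊤ : Submodule A M) (bb i)
  let u := Fintype.linearCombination A m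
  have hu : ∀ c, (Submodule.Quotient.mk (u c) : M ⧸ (fibI R A • ⊤ : Submodule A M)) =
      ∑ i, Ideal.Quotient.mk (fibI R A) (c i) • bb i := fun c => by
    simp only [u, Fintype.linearCombination_apply, ← Submodule.mkQ_apply, map_sum, map_smul]
    exact Finset.sum_congr rfl fun i _ => by rw [Submodule.mkQ_apply, hm i]; rfl
  have hinj := (Groth.Agent.S1351.result (A := R) u ((injective_iff_map_eq_zero _).2 fun x hx => by
    obtain ⟨c, rfl⟩ := Submodule.Quotient.mk_surjective _ x
    rw [Submodule.mapQ_apply, Submodule.Quotient.mk_eq_zero, LinearMap.restrictScalars_apply,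
      ← Submodule.restrictScalars_top R A M, ← Ideal.smul_restrictScalars,
      Submodule.restrictScalars_mem] at hx
    have h0 := (Submodule.Quotient.mk_eq_zero _).2 hx
    rw [hu] at h0
    have hc := Fintype.linearIndependent_iff.1 bb.linearIndependent _ h0
    rw [Submodule.Quotient.mk_eq_zero, ← Submodule.restrictScalars_top R A, ← Ideal.smul_restrictScalars,
      Submodule.restrictScalars_mem, pi_eq_sum_univ' c]
    exact sum_mem fun i _ => Submodule.smul_mem_smul (Ideal.Quotient.eq_zero_iff_mem.1 (hc i)) trivial)).1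
  have hsurj : Function.Surjective u := by
    rw [← LinearMap.range_eq_top]
    refine top_le_iff.1 (Submodule.le_of_le_smul_of_le_jacobson_bot (I := fibI R A) Module.Finite.fg_top
      (by rw [jacobson_eq_maximalIdeal ⊥ bot_ne_top]; exact fibI_le R) fun x _ => ?_)
    have hx : (Submodule.Quotient.mk x : M ⧸ (fibI R A • ⊤ : Submodule A M)) ∈
        Submodule.span (A ⧸ fibI R A) (Set.range bb) := bb.mem_span _
    obtain ⟨c, hc⟩ := (Submodule.mem_span_range_iff_exists_fun _).1 hx
    choose c' hc' using fun i => Ideal.Quotient.mk_surjective (c i)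
    have : x - u c' ∈ (fibI R A • ⊤ : Submodule A M) := by
      rw [← Submodule.Quotient.mk_eq_zero, Submodule.Quotient.mk_sub, hu, ← hc, sub_eq_zero]
      exact Finset.sum_congr rfl fun i _ => by rw [hc' i]
    exact Submodule.mem_sup.2 ⟨u c', ⟨c', rfl⟩, _, this, add_sub_cancel _ _⟩
  exact Module.Free.of_equiv (LinearEquiv.ofBijective u ⟨hinj, hsurj⟩)

/-- The base change of a flat module with finite projective dimension on the closed fibre is, if
projective, stably free. -/
theorem stablyFree_baseChange (B : Type u) [CommRing B] [Algebra A B] [Module.Flat A B] (n : ℕ) :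
    ∀ (M : Type u) [AddCommGroup M] [Module A M] [Module R M] [IsScalarTower R A M] [Module.Finite A M]
      [Module.Flat R M],
      PdLT (A ⧸ fibI R A) (M ⧸ (fibI R A • ⊤ : Submodule A M)) (n + 1) →
      Module.Projective B (B ⊗[A] M) →
      ∃ a b : ℕ, Nonempty (((B ⊗[A] M) × (Fin a → B)) ≃ₗ[B] (Fin b → B)) := by
  haveI : IsLocalRing (A ⧸ fibI R A) := isLocalRing_quotient_of_le _ (fibI_le R)
  induction n with
  | zero =>
    intro M _ _ _ _ _ _ h _
    rw [PdLT.one_iff] at h
    haveI : Module.Finite (A ⧸ fibI R A) (M ⧸ (fibI R A • ⊤ : Submodule A M)) :=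
      Module.Finite.of_restrictScalars_finite A _ _
    have : Module.Free (A ⧸ fibI R A) (M ⧸ (fibI R A • ⊤ : Submodule A M)) :=
      Module.free_of_flat_of_isLocalRing
    have : Module.Free A M := free_of_fib_free R
    let bb := (Module.Free.chooseBasis A M).baseChange B
    refine ⟨0, Fintype.card (Module.Free.ChooseBasisIndex A M),
      ⟨(LinearEquiv.prodUnique (R := B) (M := B ⊗[A] M) (M₂ := Fin 0 → B)).trans
        ((bb.reindex (Fintype.equivFin _)).equivFun)⟩⟩
  | succ n ih =>
    intro M _ _ _ _ _ _ h hP
    obtain ⟨k, f, hf⟩ := exists_surjective_fin A M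
    haveI := flat_ker R f
    haveI : Module.FinitePresentation A M := Groth.Agent.S2049.result (A := R)
    haveI : Module.Finite A (LinearMap.ker f) :=
      Module.Finite.iff_fg.mpr (Module.FinitePresentation.fg_ker f hf)
    obtain ⟨eF⟩ := exists_equiv_ker_fib R f hf
    haveI : Module.Projective (A ⧸ fibI R A) ((Fin k → A) ⧸ (fibI R A • ⊤ : Submodule A (Fin k → A))) :=
      projective_quotient _ _
    have hK := PdLT.of_equiv eF.symm ((PdLT.ker_iff _ (quotMap_surjective _ hf) n).mp h)
    have hfB : Function.Surjective (f.baseChange B) := LinearMap.lTensor_surjective B hf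
    obtain ⟨eK⟩ := exists_equiv_ker_baseChange B f
    obtain ⟨s, hs⟩ := Module.projective_lifting_property (f.baseChange B) LinearMap.id hfB
    have hs' : ∀ z, f.baseChange B (s z) = z := fun z => LinearMap.congr_fun hs z
    let split : (B ⊗[A] (Fin k → A)) ≃ₗ[B] (LinearMap.ker (f.baseChange B)) × (B ⊗[A] M) :=
      { toFun := fun z => (⟨z - s (f.baseChange B z), by simp [hs']⟩, f.baseChange B z)
        map_add' := fun x y => Prod.ext (Subtype.ext (by simp; abel)) (by simp)
        map_smul' := fun r x => Prod.ext (Subtype.ext (by simp [smul_sub])) (by simp)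
        invFun := fun z => z.1.1 + s z.2
        left_inv := fun z => by simp
        right_inv := fun z => by
          obtain ⟨⟨w, hw⟩, y⟩ := z
          have hw' : f.baseChange B w = 0 := hw
          refine Prod.ext (Subtype.ext ?_) ?_ <;> simp [hw', hs'] }
    have : Module.Projective B (LinearMap.ker (f.baseChange B)) :=
      Module.Projective.of_split (split.symm.toLinearMap.comp (LinearMap.inl B _ _))
        ((LinearMap.fst B _ _).comp split.toLinearMap) (LinearMap.ext fun z => by simp)
    have hPK : Module.Projective B (B ⊗[A] LinearMap.ker f) := Module.Projective.of_equiv eK.symm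
    obtain ⟨a, b, ⟨e⟩⟩ := ih (LinearMap.ker f) hK hPK
    let bk : (B ⊗[A] (Fin k → A)) ≃ₗ[B] (Fin k → B) :=
      ((Pi.basisFun A (Fin k)).baseChange B).equivFun
    refine ⟨b, k + a, ⟨?_⟩⟩
    let e1 : ((B ⊗[A] M) × (Fin b → B)) ≃ₗ[B]
        (((B ⊗[A] M) × (B ⊗[A] LinearMap.ker f)) × (Fin a → B)) :=
      (LinearEquiv.prodCongr (LinearEquiv.refl B (B ⊗[A] M)) e.symm).trans
        (LinearEquiv.prodAssoc B _ _ _).symm
    let e2 : ((B ⊗[A] M) × (B ⊗[A] LinearMap.ker f)) ≃ₗ[B] (Fin k → B) :=
      (LinearEquiv.prodComm B _ _).trans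
        ((LinearEquiv.prodCongr eK (LinearEquiv.refl B (B ⊗[A] M))).trans (split.symm.trans bk))
    let e3 : ((Fin k → B) × (Fin a → B)) ≃ₗ[B] (Fin (k + a) → B) :=
      (LinearEquiv.sumArrowLequivProdArrow (Fin k) (Fin a) B B).symm.trans
        (LinearEquiv.funCongrLeft B B finSumFinEquiv.symm)
    exact e1.trans ((LinearEquiv.prodCongr e2 (LinearEquiv.refl B (Fin a → B))).trans e3)

theorem free_of_invertible (hreg : IsRegularRing (A ⧸ fibI R A))
    (B : Type u) [CommRing B] [Algebra A B] [Algebra R B] [IsScalarTower R A B]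
    [IsLocalization (Algebra.algebraMapSubmonoid A (nonZeroDivisors R)) B]
    (L : Type u) [AddCommGroup L] [Module B L] [Module.Invertible B L] : Module.Free B L := by
  let S : Submonoid A := Algebra.algebraMapSubmonoid A (nonZeroDivisors R)
  haveI : Module.Flat A B := IsLocalization.flat B S
  letI : Module A L := Module.compHom L (algebraMap A B)
  haveI : IsScalarTower A B L := IsScalarTower.of_algebraMap_smul fun _ _ => rfl
  letI : Module R L := Module.compHom L (algebraMap R B)
  haveI : IsScalarTower R B L := IsScalarTower.of_algebraMap_smul fun _ _ => rfl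
  haveI : IsScalarTower R A L := IsScalarTower.of_algebraMap_smul fun r l => by
    show algebraMap A B (algebraMap R A r) • l = algebraMap R B r • l
    rw [← IsScalarTower.algebraMap_apply]
  classical
  obtain ⟨s, hs⟩ := (inferInstance : Module.Finite B L).fg_top
  let N : Submodule A L := Submodule.span A (s : Set L)
  haveI : Module.Finite A N := Module.Finite.iff_fg.mpr (Submodule.fg_span s.finite_toSet)
  have hunit : ∀ x : S, IsUnit (algebraMap A B x) := fun x => IsLocalization.map_units B x
  haveI : IsLocalizedModule S N.subtype := by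
    constructor
    · intro x
      rw [Module.End.isUnit_iff]
      obtain ⟨v, hv⟩ := hunit x
      refine Function.bijective_iff_has_inverse.2 ⟨fun l => (↑v⁻¹ : B) • l, fun l => ?_, fun l => ?_⟩
      · show (↑v⁻¹ : B) • (algebraMap A B x • l) = l
        rw [← hv, smul_smul, Units.inv_mul, one_smul]
      · show algebraMap A B x • ((↑v⁻¹ : B) • l) = l
        rw [← hv, smul_smul, Units.mul_inv, one_smul]
    · intro l
      have hl : l ∈ Submodule.span B (s : Set L) := hs ▸ Submodule.mem_top
      induction hl using Submodule.span_induction with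
      | mem y hy => exact ⟨(⟨y, Submodule.subset_span hy⟩, 1), by simp⟩
      | zero => exact ⟨(0, 1), by simp⟩
      | add y z _ _ hy hz =>
        obtain ⟨⟨a, s₁⟩, ha⟩ := hy
        obtain ⟨⟨b, s₂⟩, hb⟩ := hz
        refine ⟨((s₂ : A) • a + (s₁ : A) • b, s₁ * s₂), ?_⟩
        simp only [Submonoid.smul_def, Submonoid.coe_mul, smul_add, map_add, map_smul] at ha hb ⊢
        rw [← ha, ← hb, smul_smul, smul_smul, mul_comm (s₂ : A)]
      | smul c y _ hy =>
        obtain ⟨⟨a, s₁⟩, ha⟩ := hy
        obtain ⟨⟨p, t⟩, hc⟩ := IsLocalization.surj S c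
        refine ⟨(p • a, t * s₁), ?_⟩
        simp only [Submonoid.smul_def, Submonoid.coe_mul, map_smul] at ha ⊢
        rw [← ha, ← algebraMap_smul B p, ← hc, ← algebraMap_smul B ((t : A) * s₁),
          ← algebraMap_smul B (s₁ : A), map_mul, smul_smul, smul_smul]
        ring_nf
    · intro a b h
      exact ⟨1, by rw [show a = b from Subtype.ext h]⟩
  haveI : Module.Flat R N := flat_of_torsionFree R fun r x h hr => Subtype.ext (by
    obtain ⟨v, hv⟩ := hunit ⟨algebraMap R A r, Algebra.mem_algebraMapSubmonoid_of_mem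
      (⟨r, mem_nonZeroDivisors_of_ne_zero hr⟩ : nonZeroDivisors R)⟩
    have h' : algebraMap A B (algebraMap R A r) • (x : L) = 0 := by
      rw [algebraMap_smul, algebraMap_smul]; exact congrArg Subtype.val h
    rw [← hv] at h'
    have := congrArg ((↑v⁻¹ : B) • ·) h'
    simpa [smul_smul] using this)
  let e : (B ⊗[A] N) ≃ₗ[B] L := (IsLocalizedModule.isBaseChange S B N.subtype).equiv
  haveI : Module.Invertible B (B ⊗[A] N) := Module.Invertible.congr e.symm
  haveI : IsLocalRing (A ⧸ fibI R A) := isLocalRing_quotient_of_le _ (fibI_le R)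
  haveI := hreg
  haveI : IsRegularLocalRing (A ⧸ fibI R A) := IsRegularLocalRing.of_isRegularRing_of_isLocalRing _
  obtain ⟨a, b, ⟨eS⟩⟩ := stablyFree_baseChange R B _ N
    (pdLT_of_isRegularLocalRing (A ⧸ fibI R A) _ rfl _) inferInstance
  haveI : Module.Free B (B ⊗[A] N) := free_of_stablyFree_invertible eS
  exact Module.Free.of_equiv e

theorem main (hreg : IsRegularRing (TensorProduct R (ResidueField R) A)) :
    Subsingleton (CommRing.Pic (TensorProduct R (FractionRing R) A)) := by
  rw [CommRing.Pic.subsingleton_iff]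
  intro L _ _ hL
  letI : Algebra A (TensorProduct R (FractionRing R) A) := Algebra.TensorProduct.rightAlgebra
  haveI : IsScalarTower R A (TensorProduct R (FractionRing R) A) := Algebra.TensorProduct.right_isScalarTower
  haveI : IsLocalization (Algebra.algebraMapSubmonoid A (nonZeroDivisors R)) (TensorProduct R (FractionRing R) A) :=
    (Algebra.isLocalization_iff_isPushout (T := A) (A := FractionRing R) (nonZeroDivisors R)).mpr inferInstance
  refine free_of_invertible (A := A) R ?_ (TensorProduct R (FractionRing R) A) L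
  haveI := hreg
  exact IsRegularRing.of_ringEquiv
    ((Algebra.TensorProduct.comm R (ResidueField R) A).toRingEquiv.trans
      (Algebra.TensorProduct.quotIdealMapEquivTensorQuot A (maximalIdeal R)).symm.toRingEquiv)

end Val

end Groth.Calg4.PicValFibre
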