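import Groth.Agent.S4533
import Groth.Agent.Ega41Adic.Basic
import Groth.Agent.Calg2.CohenRing
import Mathlib.RingTheory.MvPowerSeries.Inverse

/-! Adic formal smoothness of power series rings over formally smooth local rings. -/

set_option autoImplicit false

universe u

open IsLocalRing

namespace Groth.Calg4

theorem mvPowerSeries_maximalIdeal_eq (Λ : Type u) [CommRing Λ] [IsLocalRing Λ] (n : ℕ) :
    maximalIdeal (MvPowerSeries (Fin n) Λ) =
      (maximalIdeal Λ).map (MvPowerSeries.C : Λ →+* MvPowerSeries (Fin n) Λ) ⊔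
        RingHom.ker (MvPowerSeries.constantCoeff : MvPowerSeries (Fin n) Λ →+* Λ) := by
  have hiff : ∀ x : MvPowerSeries (Fin n) Λ, x ∈ maximalIdeal (MvPowerSeries (Fin n) Λ) ↔
      MvPowerSeries.constantCoeff x ∈ maximalIdeal Λ := fun x => by
    rw [mem_maximalIdeal, mem_maximalIdeal, mem_nonunits_iff, mem_nonunits_iff,
      MvPowerSeries.isUnit_iff_constantCoeff]
  apply le_antisymm
  · intro x hx
    have : x = MvPowerSeries.C (MvPowerSeries.constantCoeff x) +
        (x - MvPowerSeries.C (MvPowerSeries.constantCoeff x)) := by ring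
    rw [this]
    refine add_mem (Ideal.mem_sup_left (Ideal.mem_map_of_mem _ ((hiff x).1 hx))) (Ideal.mem_sup_right ?_)
    rw [RingHom.mem_ker, map_sub, MvPowerSeries.constantCoeff_C, sub_self]
  · refine sup_le (Ideal.map_le_iff_le_comap.mpr fun a ha => ?_) fun x hx => ?_
    · rw [Ideal.mem_comap, hiff, MvPowerSeries.constantCoeff_C]; exact ha
    · rw [hiff, RingHom.mem_ker.mp hx]; exact zero_mem _

/-- Power series over an adically formally smooth local algebra are adically formally smooth. -/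
theorem isAdicFormallySmooth_mvPowerSeries (A Λ : Type u) [CommRing A] [CommRing Λ] [IsLocalRing Λ]
    [Algebra A Λ] (n : ℕ) [Algebra A (MvPowerSeries (Fin n) Λ)]
    [IsScalarTower A Λ (MvPowerSeries (Fin n) Λ)]
    (h : CAlgX.IsAdicFormallySmooth A Λ (maximalIdeal Λ)) :
    CAlgX.IsAdicFormallySmooth A (MvPowerSeries (Fin n) Λ) (maximalIdeal (MvPowerSeries (Fin n) Λ)) := by
  rw [Groth.Ega41Adic.isAdicFormallySmooth_iff] at h ⊢
  rw [mvPowerSeries_maximalIdeal_eq]
  refine Groth.Ega41Adic.trans' ⟨1, ?_⟩ h (Groth.Agent.S4533.result Λ (maximalIdeal Λ) n)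
  rw [pow_one]
  exact le_sup_left

/-- Algebras formally smooth for the discrete topology are adically formally smooth. -/
theorem isAdicFormallySmooth_of_formallySmooth (A B : Type u) [CommRing A] [CommRing B] [Algebra A B]
    [Algebra.FormallySmooth A B] (𝔟 : Ideal B) : CAlgX.IsAdicFormallySmooth A B 𝔟 :=
  fun _ _ _ J hJ ψ _ => Algebra.FormallySmooth.exists_lift J ⟨2, hJ⟩ ψ

/-- Cohen rings are formally smooth over the integers for the adic topology. -/
theorem isAdicFormallySmooth_int_cohenRing (Λ : Type) [CommRing Λ] [IsLocalRing Λ]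
    (hΛ : CAlg.IsCohenRing Λ) : CAlgX.IsAdicFormallySmooth ℤ Λ (maximalIdeal Λ) := by
  obtain ⟨_, hdvr, -, p, hp, hmax⟩ := hΛ
  have : Fact p.Prime := ⟨hp⟩
  have hmax' : maximalIdeal Λ = Ideal.span {(p : Λ)} := hmax
  have : (Ideal.span {(p : Λ)}).IsMaximal := hmax' ▸ maximalIdeal.isMaximal Λ
  have hp0 : (p : Λ) ≠ 0 := fun h0 => IsDiscreteValuationRing.not_a_field Λ (by
    rw [hmax', h0, Ideal.span_singleton_eq_bot])
  have hreg : ∀ x : Λ, (p : Λ) * x = 0 → x = 0 := fun x hx => (mul_eq_zero.mp hx).resolve_left hp0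
  intro C _ _ J hJ ψ ⟨k, hk⟩
  let F : ℕ → Ideal C := fun n => Ideal.span {(p : C) ^ n} * J
  have hdec : ∀ n, F (n + 1) ≤ F n := fun n =>
    Ideal.mul_mono_left ((Ideal.span_singleton_le_span_singleton).mpr ⟨(p : C), pow_succ _ _⟩)
  have hFJ : ∀ n, F n ≤ J := fun n => Ideal.mul_le_right
  have key : ∀ n, ∃ g : Λ →+* C ⧸ F n, ∀ x c, Ideal.Quotient.mk (F n) c = g x →
      Ideal.Quotient.mk J c = ψ x := by
    intro n
    induction n with
    | zero =>
      have h0 : J ≤ F 0 := fun x hx => by simpa [F] using hx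
      refine ⟨(Ideal.Quotient.factor h0).comp ψ.toRingHom, fun x c hc => ?_⟩
      obtain ⟨d, hd⟩ := Ideal.Quotient.mk_surjective (ψ x)
      rw [RingHom.comp_apply, show ψ.toRingHom x = ψ x from rfl, ← hd, Ideal.Quotient.factor_mk,
        Ideal.Quotient.eq] at hc
      rw [← hd, Ideal.Quotient.eq]
      exact hFJ 0 hc
    | succ n ih =>
      obtain ⟨g, hg⟩ := ih
      obtain ⟨g', hg'⟩ := Groth.Calg2.CohenRing.exists_lift_square_zero hreg g
        (Ideal.Quotient.factor (hdec n)) (Ideal.Quotient.factor_surjective _) (fun a b ha hb => by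
          obtain ⟨a, rfl⟩ := Ideal.Quotient.mk_surjective a
          obtain ⟨b, rfl⟩ := Ideal.Quotient.mk_surjective b
          rw [Ideal.Quotient.factor_mk, Ideal.Quotient.eq_zero_iff_mem] at ha hb
          have h2 : a * b = 0 := by
            rw [← Ideal.mem_bot, ← hJ, sq]; exact Ideal.mul_mem_mul (hFJ n ha) (hFJ n hb)
          rw [← map_mul, h2, map_zero]) (fun a ha => by
          obtain ⟨a, rfl⟩ := Ideal.Quotient.mk_surjective a
          rw [Ideal.Quotient.factor_mk, Ideal.Quotient.eq_zero_iff_mem] at ha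
          rw [← map_natCast (Ideal.Quotient.mk (F (n + 1))), ← map_mul, Ideal.Quotient.eq_zero_iff_mem]
          show _ ∈ Ideal.span {(p : C) ^ (n + 1)} * J
          rw [pow_succ', ← Ideal.span_singleton_mul_span_singleton, mul_assoc]
          exact Ideal.mul_mem_mul (Ideal.mem_span_singleton_self _) ha)
      refine ⟨g', fun x c hc => hg x c ?_⟩
      rw [← RingHom.congr_fun hg' x, RingHom.comp_apply, ← hc, Ideal.Quotient.factor_mk]
  obtain ⟨g, hg⟩ := key k
  have hpk : (p : C) ^ k ∈ J := by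
    rw [← Ideal.Quotient.eq_zero_iff_mem, ← hk ((p : Λ) ^ k)
      (Ideal.pow_mem_pow (hmax'.ge (Ideal.mem_span_singleton_self _)) k), map_pow, map_pow, map_natCast,
      map_natCast]
  have hbot : F k = ⊥ := by
    rw [eq_bot_iff, ← hJ, sq]
    exact Ideal.mul_mono_left ((Ideal.span_singleton_le_iff_mem _).mpr hpk)
  let e : (C ⧸ F k) →+* C := Ideal.Quotient.lift (F k) (RingHom.id C)
    (fun a ha => by rw [hbot, Ideal.mem_bot] at ha; exact ha)
  refine ⟨{ e.comp g with commutes' := fun z => by simp }, AlgHom.ext fun x => ?_⟩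
  obtain ⟨c, hc⟩ := Ideal.Quotient.mk_surjective (g x)
  show Ideal.Quotient.mk J (e (g x)) = ψ x
  rw [← hc]
  exact hg x c hc

end Groth.Calg4
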