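import Groth.Agent.EGA43Topo.UnibranchGeneralScheme
import Groth.Agent.EGA43Topo.UnivOpenFibre
import Groth.Agent.EGA43Topo.UnibranchParams
import Groth.Agent.FibreDim.DimensionFormulaScheme
-- poly normal via unibranch imports

/-!
# Lifting generizations through a quasi-finite morphism to affine space over a normal base

A point of a scheme quasi-finite over affine space over a normal affine base, having a generization
over the generic point of the base of transcendence degree `≥ n`, lifts all generizations.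
-/

universe u

set_option linter.style.haveILetI false

open CategoryTheory CategoryTheory.Limits AlgebraicGeometry Topology

namespace Groth.Calg4

open Groth.EGA43Topo

theorem exists_specializes_of_lqf_affineSpace {Y : Scheme.{u}} [IsAffine Y] [IsDomain Γ(Y, ⊤)]
    [IsIntegrallyClosed Γ(Y, ⊤)] {n : ℕ} {P : Scheme.{u}}
    (v : P ⟶ Spec (.of (MvPolynomial (Fin n) Γ(Y, ⊤)))) [LocallyQuasiFinite v]
    [LocallyOfFiniteType v] (p : P ⟶ Y) [LocallyOfFiniteType p]
    (hp : v ≫ Spec.map (CommRingCat.ofHom MvPolynomial.C) ≫ Y.isoSpec.inv = p)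
    {a w : P} (haw : a ⤳ w) (hgen : ∀ y, p.base a ⤳ y)
    (htr : (n : Cardinal.{u}) ≤ Groth.Variety2.Dim.relTrdeg p a)
    {b : Spec (.of (MvPolynomial (Fin n) Γ(Y, ⊤)))} (hb : b ⤳ v.base w) :
    ∃ w' : P, w' ⤳ w ∧ v.base w' = b := by
  let T := MvPolynomial (Fin n) Γ(Y, ⊤)
  have hW : IsAffineOpen (⊤ : Y.Opens) := isAffineOpen_top Y
  obtain ⟨U, hU, hwU, -⟩ := exists_isAffineOpen_mem_and_subset (U := ⊤) (Set.mem_univ w)
  have haU : a ∈ U := haw.mem_open U.isOpen hwU
  have e : U ≤ p ⁻¹ᵁ ⊤ := fun _ _ => trivial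
  obtain ⟨ψ, hψ⟩ := Spec.map_surjective (hU.fromSpec ≫ v)
  letI := (p.appLE ⊤ U e).hom.toAlgebra
  have hC : CommRingCat.ofHom MvPolynomial.C ≫ ψ = p.appLE ⊤ U e := by
    apply Spec.map_injective
    rw [Spec.map_comp, hψ, ← cancel_mono hW.fromSpec, hW.SpecMap_appLE_fromSpec p hU e]
    simp only [Category.assoc]
    rw [IsAffineOpen.fromSpec_top, hp]
  letI algT : Algebra T Γ(P, U) := ψ.hom.toAlgebra
  let t : Fin n → Γ(P, U) := fun i => ψ.hom (MvPolynomial.X i)
  have haeval : ∀ g : T, MvPolynomial.aeval t g = ψ.hom g := by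
    refine RingHom.congr_fun (f := (MvPolynomial.aeval (R := Γ(Y, ⊤)) t).toRingHom) (g := ψ.hom)
      (MvPolynomial.ringHom_ext (fun r => ?_) fun i => ?_)
    · show MvPolynomial.aeval t (MvPolynomial.C r) = ψ.hom (MvPolynomial.C r)
      rw [MvPolynomial.aeval_C]
      exact (RingHom.congr_fun (congrArg CommRingCat.Hom.hom hC) r).symm
    · exact MvPolynomial.aeval_X t i
  haveI : LocallyQuasiFinite (Spec.map ψ) := hψ ▸ inferInstance
  haveI : LocallyOfFiniteType (Spec.map ψ) := hψ ▸ inferInstance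
  haveI : Algebra.QuasiFinite T Γ(P, U) :=
    RingHom.quasiFinite_algebraMap.1
      ((HasRingHomProperty.Spec_iff (P := @LocallyQuasiFinite)).1 ‹LocallyQuasiFinite (Spec.map ψ)›)
  haveI : Algebra.FiniteType T Γ(P, U) :=
    RingHom.finiteType_algebraMap.1
      ((HasRingHomProperty.Spec_iff (P := @LocallyOfFiniteType)).1 ‹LocallyOfFiniteType (Spec.map ψ)›)
  let P₀ := (hU.primeIdealOf ⟨a, haU⟩).asIdeal
  let q₀ := (hW.primeIdealOf ⟨p.base a, e haU⟩).asIdeal
  haveI : P₀.LiesOver q₀ :=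
    ⟨(congrArg PrimeSpectrum.asIdeal (comap_appLE_primeIdealOf p hW hU e haU)).symm⟩
  have hq₀ : q₀ = ⊥ := (primeIdealOf_eq_nilradical hW hgen (e haU)).trans (nilradical_eq_zero _)
  have hind : ∀ g : T, MvPolynomial.aeval t g ∈ P₀ ↔ ∀ m, g.coeff m ∈ q₀ := by
    refine mem_iff_of_algebraicIndependent q₀ P₀ t (algebraicIndependent_of_quasiFiniteAt q₀ P₀ t ?_ ?_)
    · have : (MvPolynomial.aeval (R := Γ(Y, ⊤)) t).toRingHom = ψ.hom := RingHom.ext haeval
      rw [this]
      show Algebra.QuasiFiniteAt T P₀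
      infer_instance
    · rw [Groth.FibreDim.relTrdeg_eq_trdeg_quotient p hW hU e haU]
      exact htr
  let D := Γ(P, U) ⧸ P₀
  haveI : IsDomain D := Ideal.Quotient.isDomain P₀
  haveI : FaithfulSMul T D := (faithfulSMul_iff_algebraMap_injective _ _).2
    ((injective_iff_map_eq_zero _).2 fun g hg => by
      have h1 : MvPolynomial.aeval t g ∈ P₀ := by
        rw [haeval]; exact Ideal.Quotient.eq_zero_iff_mem.1 hg
      ext m
      simpa [hq₀] using (hind g).1 h1 m)
  haveI : Algebra.FiniteType T D :=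
    Algebra.FiniteType.of_surjective (Ideal.Quotient.mkₐ T P₀) Ideal.Quotient.mk_surjective
  haveI : Algebra.QuasiFinite T D :=
    Algebra.QuasiFinite.of_surjective_algHom (Ideal.Quotient.mkₐ T P₀) Ideal.Quotient.mk_surjective
  haveI : IsIntegrallyClosed T := Groth.FlatMor2.isIntegrallyClosed_mvPolynomial _ n
  have hopen := universallyOpen_of_quasiFinite (A := T) (D := D)
  let i : Spec (.of D) ⟶ Spec Γ(P, U) := Spec.map (CommRingCat.ofHom (Ideal.Quotient.mk P₀))
  have hcomp : Spec.map (CommRingCat.ofHom (algebraMap T D)) = (i ≫ hU.fromSpec) ≫ v := by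
    rw [Category.assoc, ← hψ, ← Spec.map_comp]; rfl
  have hle : P₀ ≤ (hU.primeIdealOf ⟨w, hwU⟩).asIdeal := by
    refine (PrimeSpectrum.le_iff_specializes (hU.primeIdealOf ⟨a, haU⟩) (hU.primeIdealOf ⟨w, hwU⟩)).2
      (hU.fromSpec.isOpenEmbedding.toIsInducing.specializes_iff.1 ?_)
    rw [hU.fromSpec_primeIdealOf, hU.fromSpec_primeIdealOf]
    exact haw
  obtain ⟨wD, hwD⟩ : hU.primeIdealOf ⟨w, hwU⟩ ∈ Set.range i.base :=
    (range_comap_of_surjective _ (Ideal.Quotient.mk P₀) Ideal.Quotient.mk_surjective).ge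
      (show hU.primeIdealOf ⟨w, hwU⟩ ∈ PrimeSpectrum.zeroLocus _ from fun x hx =>
        hle (by rwa [SetLike.mem_coe, RingHom.mem_ker, Ideal.Quotient.eq_zero_iff_mem] at hx))
  have hw : (i ≫ hU.fromSpec).base wD = w := by
    rw [Scheme.Hom.comp_apply, hwD, hU.fromSpec_primeIdealOf]
  obtain ⟨d, hd, hdb⟩ := exists_specializes_of_isOpenAt
    (p := Spec.map (CommRingCat.ofHom (algebraMap T D))) (x := wD)
    (isOpenAt_of_isUnivOpenAt ((universallyOpen_iff_forall_isUnivOpenAt _).1 hopen wD))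
    (z := b) (by rw [hcomp, Scheme.Hom.comp_apply, hw]; exact hb)
  exact ⟨(i ≫ hU.fromSpec).base d, hw ▸ hd.map (i ≫ hU.fromSpec).continuous,
    by rw [← Scheme.Hom.comp_apply, ← hcomp, hdb]⟩

end Groth.Calg4
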