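import Mathlib
import Groth.Prelude.Def_Flat
import Groth.Agent.SpectralTopology.Dim
import Groth.Agent.FibreDim.Algebra
import Groth.Agent.Calg4.QuasiFiniteSection

/-!
# Quasi-finite maps from polynomial rings near a point of given fibre dimension
-/

set_option autoImplicit false
universe u

open TopologicalSpace Topology
open scoped TensorProduct

namespace Groth.Calg4

theorem exists_quasiFinite_mvPolynomial_away {R S : Type u} [CommRing R] [CommRing S]
    [Algebra R S] [Algebra.FiniteType R S] (p : PrimeSpectrum R)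
    (Q : PrimeSpectrum (p.asIdeal.Fiber S)) (n : ℕ)
    (hdim : FlatMor.localDim (PrimeSpectrum (p.asIdeal.Fiber S)) Q = (n : WithBot ℕ∞)) :
    ∃ g : S, g ∉ Q.asIdeal.comap Algebra.TensorProduct.includeRight.toRingHom ∧
      ∃ φ : MvPolynomial (Fin n) R →ₐ[R] Localization.Away g,
        φ.toRingHom.FiniteType ∧ φ.toRingHom.QuasiFinite := by
  let T := p.asIdeal.Fiber S
  let eS := PrimeSpectrum.preimageHomeomorphFiber R S p
  let q := (eS.symm Q).1
  have hq : q.asIdeal = Q.asIdeal.comap Algebra.TensorProduct.includeRight.toRingHom := rfl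
  obtain ⟨U, hQU, hU⟩ := Groth.SpectralTopology.exists_localDim_eq Q
  obtain ⟨_, ⟨h, rfl⟩, hQh, hhU⟩ :=
    PrimeSpectrum.isTopologicalBasis_basic_opens.exists_subset_of_mem_open hQU U.2
  obtain ⟨r, hr, s, hs⟩ := Ideal.Fiber.exists_smul_eq_one_tmul p.asIdeal h
  have hD : ∀ P : PrimeSpectrum T, s ∉ (eS.symm P).1.asIdeal → P ∈ U := by
    intro P hP
    refine hhU fun hh => hP ?_
    change (1 : p.asIdeal.ResidueField) ⊗ₜ[R] s ∈ P.asIdeal
    rw [← hs, Algebra.smul_def]
    exact P.asIdeal.mul_mem_left _ hh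
  have hsq : s ∉ q.asIdeal := by
    intro h'
    have h1 : r • h ∈ Q.asIdeal := by rw [hs]; exact h'
    rw [Algebra.smul_def] at h1
    rcases Q.2.mem_or_mem h1 with h2 | h2
    · exact hr (by
        have : q.comap (algebraMap R S) = p := (eS.symm Q).2
        rw [← this]
        change (1 : p.asIdeal.ResidueField) ⊗ₜ[R] algebraMap R S r ∈ Q.asIdeal
        rwa [show (1 : p.asIdeal.ResidueField) ⊗ₜ[R] algebraMap R S r = algebraMap R T r from
          Algebra.TensorProduct.includeRight.commutes r])
    · exact hQh h2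
  -- the localisation and its fibre
  let B := Localization.Away s
  let eB := PrimeSpectrum.preimageHomeomorphFiber R B p
  have hcomp : algebraMap R B = (algebraMap S B).comp (algebraMap R S) := IsScalarTower.algebraMap_eq R S B
  let ρ : PrimeSpectrum.comap (algebraMap R B) ⁻¹' {p} → PrimeSpectrum.comap (algebraMap R S) ⁻¹' {p} :=
    fun x => ⟨x.1.comap (algebraMap S B), by
      change (x.1.comap (algebraMap S B)).comap (algebraMap R S) = p
      rw [← PrimeSpectrum.comap_comp_apply, ← hcomp]
      exact x.2⟩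
  let F : PrimeSpectrum (p.asIdeal.Fiber B) → (U : Set (PrimeSpectrum T)) := fun x =>
    ⟨eS (ρ (eB.symm x)), hD _ (by
      rw [Homeomorph.symm_apply_apply]
      exact (PrimeSpectrum.localization_away_comap_range B s).le ⟨(eB.symm x).1, rfl⟩)⟩
  have hρ : IsInducing ρ :=
    ((PrimeSpectrum.localization_comap_isEmbedding B (Submonoid.powers s)).toIsInducing.comp
      IsInducing.subtypeVal).codRestrict _
  have hF : IsInducing F := ((eS.isInducing.comp hρ).comp eB.symm.isInducing).codRestrict _
  have hdimB : ringKrullDim (p.asIdeal.Fiber B) ≤ (n : WithBot ℕ∞) := by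
    rw [← PrimeSpectrum.topologicalKrullDim_eq_ringKrullDim, ← hdim, ← hU]
    exact hF.topologicalKrullDim_le
  obtain ⟨qB, hqB⟩ := (PrimeSpectrum.localization_away_comap_range B s).ge
    (show q ∈ PrimeSpectrum.basicOpen s from hsq)
  have hqBp : qB.comap (algebraMap R B) = p := by
    rw [hcomp, PrimeSpectrum.comap_comp_apply, hqB]
    exact (eS.symm Q).2
  have : Nontrivial (p.asIdeal.Fiber B) := (eB ⟨qB, hqBp⟩).nontrivial
  obtain ⟨m, b, hmn, hb⟩ := Groth.FibreDim.exists_quasiFiniteAt_fibre p n hdimB
  let b' : Fin n → B := fun i => if hi : (i : ℕ) < m then b ⟨i, hi⟩ else 0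
  let _ : Algebra (MvPolynomial (Fin n) R) B := (MvPolynomial.aeval b').toRingHom.toAlgebra
  have : IsScalarTower R (MvPolynomial (Fin n) R) B :=
    IsScalarTower.of_algebraMap_eq fun x => ((MvPolynomial.aeval b').commutes x).symm
  have : Algebra.FiniteType (MvPolynomial (Fin n) R) B := .of_restrictScalars_finiteType R _ _
  have hqf : Algebra.QuasiFiniteAt (MvPolynomial (Fin n) R) qB.asIdeal := by
    let _ : Algebra (MvPolynomial (Fin m) R) B := (MvPolynomial.aeval b).toRingHom.toAlgebra
    let _ : Algebra (MvPolynomial (Fin m) R) (MvPolynomial (Fin n) R) :=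
      (MvPolynomial.rename (Fin.castLE hmn)).toRingHom.toAlgebra
    have : IsScalarTower (MvPolynomial (Fin m) R) (MvPolynomial (Fin n) R) B := by
      refine IsScalarTower.of_algebraMap_eq fun x => ?_
      change MvPolynomial.aeval b x = MvPolynomial.aeval b' (MvPolynomial.rename (Fin.castLE hmn) x)
      rw [MvPolynomial.aeval_rename]
      congr 1
      ext i
      simp [b']
    have : Algebra.QuasiFinite (MvPolynomial (Fin m) R) (Localization.AtPrime qB.asIdeal) := hb qB hqBp
    have : IsScalarTower (MvPolynomial (Fin m) R) (MvPolynomial (Fin n) R)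
        (Localization.AtPrime qB.asIdeal) := IsScalarTower.to₁₂₄ _ _ B _
    exact Algebra.QuasiFinite.of_restrictScalars (MvPolynomial (Fin m) R) _ _
  have hopen : IsOpen (PrimeSpectrum.comap (algebraMap S B) ''
      {P : PrimeSpectrum B | Algebra.QuasiFiniteAt (MvPolynomial (Fin n) R) P.asIdeal}) :=
    (PrimeSpectrum.localization_away_isOpenEmbedding B s).isOpenMap _
      (Groth.FibreDim.isOpen_setOf_quasiFiniteAt (MvPolynomial (Fin n) R) B)
  obtain ⟨_, ⟨g₀, rfl⟩, hqg, hgsub⟩ :=
    PrimeSpectrum.isTopologicalBasis_basic_opens.exists_subset_of_mem_open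
      (Set.mem_image_of_mem _ (show qB ∈ {P : PrimeSpectrum B |
        Algebra.QuasiFiniteAt (MvPolynomial (Fin n) R) P.asIdeal} from hqf)) hopen
  rw [hqB] at hqg
  let g := g₀ * s
  let L := Localization.Away g
  have hgq : g ∉ q.asIdeal := fun h' => (q.2.mem_or_mem h').elim hqg hsq
  have hsu : IsUnit (algebraMap S L s) := by
    have := IsLocalization.Away.algebraMap_isUnit (S := L) g
    rw [show algebraMap S L g = algebraMap S L g₀ * algebraMap S L s from map_mul _ _ _] at this
    exact isUnit_of_mul_isUnit_right this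
  let ψ₀ : B →+* L := IsLocalization.Away.lift s hsu
  have hψ₀ : ψ₀.comp (algebraMap S B) = algebraMap S L := IsLocalization.Away.lift_comp s hsu
  let ψ : B →ₐ[R] L := { ψ₀ with
    commutes' := fun x => by
      change ψ₀ (algebraMap R B x) = algebraMap R L x
      rw [IsScalarTower.algebraMap_apply R S B, IsScalarTower.algebraMap_apply R S L, ← hψ₀]
      rfl }
  have hψs : ψ₀.SurjectiveOnStalks := by
    refine RingHom.SurjectiveOnStalks.of_comp (f := algebraMap S B) ?_
    rw [hψ₀]
    exact RingHom.surjectiveOnStalks_of_isLocalization (.powers g) _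
  let φ : MvPolynomial (Fin n) R →ₐ[R] L := ψ.comp (MvPolynomial.aeval b')
  let _ : Algebra (MvPolynomial (Fin n) R) L := φ.toRingHom.toAlgebra
  have : IsScalarTower R (MvPolynomial (Fin n) R) L :=
    IsScalarTower.of_algebraMap_eq fun x => (φ.commutes x).symm
  have hft : Algebra.FiniteType (MvPolynomial (Fin n) R) L :=
    Algebra.FiniteType.of_restrictScalars_finiteType R _ _
  refine ⟨g, hq ▸ hgq, φ, hft, ?_⟩
  refine quasiFinite_of_forall_quasiFiniteAt L fun P => ?_
  let ψ' : B →ₐ[MvPolynomial (Fin n) R] L := { ψ₀ with commutes' := fun x => rfl }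
  have hP : P.comap (algebraMap S L) ∈ PrimeSpectrum.basicOpen g₀ := by
    have := (PrimeSpectrum.localization_away_comap_range L g).le ⟨P, rfl⟩
    exact fun h' => this (Ideal.mul_mem_right _ _ h')
  obtain ⟨P', hP', hPP'⟩ := hgsub hP
  have : P' = P.comap ψ₀ := by
    apply PrimeSpectrum.localization_comap_injective B (Submonoid.powers s)
    rw [hPP', ← PrimeSpectrum.comap_comp_apply, hψ₀]
  subst this
  have : Algebra.QuasiFiniteAt (MvPolynomial (Fin n) R) (P.comap ψ₀).asIdeal := hP'
  exact Algebra.QuasiFiniteAt.of_surjectiveOnStalks (P.comap ψ₀).asIdeal ψ' hψs _ rfl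

end Groth.Calg4
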