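import Mathlib
import Groth.Agent.S2141
import Groth.Agent.EGA43Topo.UnibranchParams
import Groth.Agent.Calg4.QuasiFiniteSection
import Groth.Agent.FibreDim.Algebra

/-!
# Coordinates at a point of a fibre with prescribed contraction
-/

universe u

open TopologicalSpace Topology
open scoped TensorProduct

namespace Groth.Calg4

namespace QFPrescribed

variable {R S : Type u} [CommRing R] [CommRing S] [Algebra R S]

/-- The fibre point has the same transcendence degree as the point. -/
theorem trdeg_fibre_point (p : Ideal R) [p.IsPrime] (q : Ideal S) [q.IsPrime] [q.LiesOver p]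
    [Algebra (Localization.AtPrime p) (Localization.AtPrime q)]
    [Localization.AtPrime.IsLiesOverAlgebra p q] (Q : PrimeSpectrum (p.Fiber S))
    (hQ : Q.asIdeal.comap Algebra.TensorProduct.includeRight.toRingHom = q)
    {alg : Algebra p.ResidueField Q.asIdeal.ResidueField}
    (hc : ∀ x : R, alg.algebraMap (algebraMap R p.ResidueField x) = algebraMap R Q.asIdeal.ResidueField x) :
    @Algebra.trdeg p.ResidueField Q.asIdeal.ResidueField _ _ alg = Algebra.trdeg p.ResidueField q.ResidueField := by
  let f : S →ₐ[R] p.Fiber S := Algebra.TensorProduct.includeRight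
  have hf : f.toRingHom.SurjectiveOnStalks :=
    fun P _ => (p.surjectiveOnStalks_residueField (R := R)).baseChange' P ‹_›
  let m := Ideal.ResidueField.mapₐ q Q.asIdeal f hQ.symm
  have hm : Function.Bijective m := hf.residueFieldMap_bijective q Q.asIdeal hQ.symm
  let m' : q.ResidueField →ₐ[p.ResidueField] Q.asIdeal.ResidueField :=
    { m.toRingHom with
      commutes' := by
        refine RingHom.congr_fun (f := m.toRingHom.comp (algebraMap p.ResidueField q.ResidueField))
          (g := algebraMap p.ResidueField Q.asIdeal.ResidueField) ?_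
        refine Ideal.ResidueField.ringHom_ext (RingHom.ext fun x => ?_)
        change m (algebraMap p.ResidueField q.ResidueField (algebraMap R p.ResidueField x)) =
          algebraMap p.ResidueField Q.asIdeal.ResidueField (algebraMap R p.ResidueField x)
        rw [← IsScalarTower.algebraMap_apply R p.ResidueField q.ResidueField, m.commutes]
        exact (hc x).symm }
  exact ((AlgEquiv.ofBijective m' hm).trdeg_eq).symm

theorem trdeg_quotient_eq (p : Ideal R) [p.IsPrime] (q : Ideal S) [q.IsPrime] [q.LiesOver p]
    [Algebra (Localization.AtPrime p) (Localization.AtPrime q)]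
    [Localization.AtPrime.IsLiesOverAlgebra p q] :
    Algebra.trdeg (R ⧸ p) (S ⧸ q) = Algebra.trdeg p.ResidueField q.ResidueField := by
  have hi : Function.Injective (algebraMap (R ⧸ p) (S ⧸ q)) := by
    refine (injective_iff_map_eq_zero _).2 fun a ha => ?_
    obtain ⟨a, rfl⟩ := Ideal.Quotient.mk_surjective a
    rw [Ideal.Quotient.algebraMap_mk_of_liesOver, Ideal.Quotient.eq_zero_iff_mem] at ha
    rw [Ideal.Quotient.eq_zero_iff_mem, Ideal.mem_of_liesOver q p]
    exact ha
  let _ : Algebra (R ⧸ p) q.ResidueField :=
    ((algebraMap (S ⧸ q) q.ResidueField).comp (algebraMap (R ⧸ p) (S ⧸ q))).toAlgebra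
  have : IsScalarTower (R ⧸ p) (S ⧸ q) q.ResidueField := IsScalarTower.of_algebraMap_eq fun _ => rfl
  have : IsScalarTower (R ⧸ p) p.ResidueField q.ResidueField := IsScalarTower.of_algebraMap_eq fun x => by
    obtain ⟨x, rfl⟩ := Ideal.Quotient.mk_surjective x
    change algebraMap (S ⧸ q) q.ResidueField (algebraMap R (S ⧸ q) x) =
      algebraMap p.ResidueField q.ResidueField (algebraMap (R ⧸ p) p.ResidueField (algebraMap R (R ⧸ p) x))
    rw [← IsScalarTower.algebraMap_apply R (S ⧸ q) q.ResidueField,
      ← IsScalarTower.algebraMap_apply R (R ⧸ p) p.ResidueField,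
      ← IsScalarTower.algebraMap_apply R p.ResidueField q.ResidueField]
  have : FaithfulSMul (R ⧸ p) (S ⧸ q) := (faithfulSMul_iff_algebraMap_injective _ _).2 hi
  have : FaithfulSMul (R ⧸ p) p.ResidueField :=
    (faithfulSMul_iff_algebraMap_injective _ _).2 (IsFractionRing.injective _ _)
  have : FaithfulSMul (S ⧸ q) q.ResidueField :=
    (faithfulSMul_iff_algebraMap_injective _ _).2 (IsFractionRing.injective _ _)
  have h1 := trdeg_add_eq (R ⧸ p) (S ⧸ q) (A := q.ResidueField)
  have h2 := trdeg_add_eq (R ⧸ p) p.ResidueField (A := q.ResidueField)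
  rw [trdeg_eq_zero (R := S ⧸ q), add_zero] at h1
  rw [trdeg_eq_zero (R := R ⧸ p) (A := p.ResidueField), zero_add] at h2
  rw [h1, h2]

/-- Parameters with prescribed contraction, quasi-finite at the point. -/
theorem exists_coordinates [Algebra.FiniteType R S] (p : Ideal R) [p.IsPrime] (q : Ideal S) [q.IsPrime]
    [q.LiesOver p] [Algebra (Localization.AtPrime p) (Localization.AtPrime q)]
    [Localization.AtPrime.IsLiesOverAlgebra p q] (Q : PrimeSpectrum (p.Fiber S))
    (hQ : Q.asIdeal.comap Algebra.TensorProduct.includeRight.toRingHom = q) (n r : ℕ)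
    (hdim : FlatMor.localDim (PrimeSpectrum (p.Fiber S)) Q = (n : WithBot ℕ∞))
    (hr : Algebra.trdeg p.ResidueField q.ResidueField = r) :
    ∃ x : Fin n → S,
      q.comap (MvPolynomial.aeval (R := R) x).toRingHom = p.map (MvPolynomial.C : R →+* MvPolynomial (Fin n) R) ⊔
        Ideal.span (Set.range fun i : {i : Fin n // r ≤ (i : ℕ)} => (MvPolynomial.X (i : Fin n) : MvPolynomial (Fin n) R)) ∧
      (letI := (MvPolynomial.aeval (R := R) x).toRingHom.toAlgebra
       Algebra.QuasiFiniteAt (MvPolynomial (Fin n) R) q) := by
  let T := p.Fiber S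
  have : IsNoetherianRing T := Algebra.FiniteType.isNoetherianRing p.ResidueField T
  have hd := Groth.Agent.S2141.result (k := p.ResidueField) Q.asIdeal r (by
    refine (trdeg_fibre_point p q Q hQ ?_).trans hr
    intro x
    exact (IsScalarTower.algebraMap_apply R p.ResidueField Q.asIdeal.ResidueField x).symm)
  rw [show (⟨Q.asIdeal, inferInstance⟩ : PrimeSpectrum T) = Q from rfl, hdim,
    IsLocalization.AtPrime.ringKrullDim_eq_height Q.asIdeal] at hd
  obtain ⟨s, hsmin, hscard⟩ := Q.asIdeal.exists_finset_card_eq_height_of_isNoetherianRing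
  rw [← hscard] at hd
  have hn : n = s.card + r := by exact_mod_cast hd
  let es : Fin s.card ≃ s := s.equivFin.symm
  choose c hc b hb using fun i : Fin s.card => Ideal.Fiber.exists_smul_eq_one_tmul p (es i : T)
  have hsQ : ∀ a ∈ s, a ∈ Q.asIdeal := fun a ha => hsmin.1.2 (Ideal.subset_span ha)
  have hbq : ∀ i, b i ∈ q := fun i => by
    rw [← hQ]
    change (1 : p.ResidueField) ⊗ₜ[R] b i ∈ Q.asIdeal
    rw [← hb i, Algebra.smul_def]
    exact Ideal.mul_mem_left _ _ (hsQ _ (es i).2)
  obtain ⟨t, ht, htmax⟩ := Groth.EGA43Topo.exists_parameters p q ((trdeg_quotient_eq p q).trans hr)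
  let x : Fin n → S := fun i => if h : (i : ℕ) < r then t ⟨i, h⟩ else b ⟨i - r, by omega⟩
  refine ⟨x, ?_, ?_⟩
  · let E : MvPolynomial (Fin n) R →ₐ[R] MvPolynomial (Fin r) R :=
      MvPolynomial.aeval fun i => if h : (i : ℕ) < r then MvPolynomial.X ⟨i, h⟩ else 0
    let W : MvPolynomial (Fin r) R →ₐ[R] MvPolynomial (Fin n) R :=
      MvPolynomial.rename (Fin.castLE (show r ≤ n by omega))
    let I : Ideal (MvPolynomial (Fin n) R) := Ideal.span (Set.range fun i : {i : Fin n // r ≤ (i : ℕ)} =>
      (MvPolynomial.X (i : Fin n) : MvPolynomial (Fin n) R))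
    refine le_antisymm (fun f hf => ?_) (sup_le ?_ ?_)
    · have h1 : f - W (E f) ∈ I := by
        rw [← Ideal.Quotient.eq]
        change (Ideal.Quotient.mkₐ R I) f = ((Ideal.Quotient.mkₐ R I).comp (W.comp E)) f
        congr 1
        refine MvPolynomial.algHom_ext fun i => ?_
        change Ideal.Quotient.mk I (MvPolynomial.X i) = Ideal.Quotient.mk I (W (E (MvPolynomial.X i)))
        simp only [E, MvPolynomial.aeval_X]
        split_ifs with h
        · simp [W, Fin.castLE]
        · rw [map_zero, map_zero, Ideal.Quotient.eq_zero_iff_mem]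
          exact Ideal.subset_span ⟨⟨i, not_lt.1 h⟩, rfl⟩
      have h2 : I ≤ q.comap (MvPolynomial.aeval (R := R) x).toRingHom := Ideal.span_le.2 (by
        rintro _ ⟨i, rfl⟩
        change MvPolynomial.aeval x (MvPolynomial.X (i : Fin n)) ∈ q
        rw [MvPolynomial.aeval_X]
        simp only [x, dif_neg (not_lt.2 i.2)]
        exact hbq _)
      have h3 : MvPolynomial.aeval t (E f) ∈ q := by
        have h4 : W (E f) ∈ q.comap (MvPolynomial.aeval (R := R) x).toRingHom :=
          (Submodule.sub_mem_iff_right _ hf).1 (h2 h1)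
        change MvPolynomial.aeval x (MvPolynomial.rename _ (E f)) ∈ q at h4
        rw [MvPolynomial.aeval_rename] at h4
        convert h4 using 3
        funext i
        simp [x]
      have h5 : W (E f) ∈ p.map (MvPolynomial.C : R →+* MvPolynomial (Fin n) R) := by
        have h6 : E f ∈ p.map (MvPolynomial.C : R →+* MvPolynomial (Fin r) R) :=
          MvPolynomial.mem_map_C_iff.2 ((ht _).1 h3)
        have h7 := Ideal.mem_map_of_mem W.toRingHom h6
        rw [Ideal.map_map] at h7
        rwa [show W.toRingHom.comp (MvPolynomial.C : R →+* MvPolynomial (Fin r) R) = MvPolynomial.C from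
          RingHom.ext fun a => W.commutes a] at h7
      simpa using add_mem (Ideal.mem_sup_right (S := p.map (MvPolynomial.C : R →+* MvPolynomial (Fin n) R)) h1)
        (Ideal.mem_sup_left (T := I) h5)
    · rw [Ideal.map_le_iff_le_comap]
      intro a ha
      change MvPolynomial.aeval x (MvPolynomial.C a) ∈ q
      rw [MvPolynomial.aeval_C]
      exact (Ideal.mem_of_liesOver q p a).1 ha
    · refine Ideal.span_le.2 ?_
      rintro _ ⟨i, rfl⟩
      change MvPolynomial.aeval x (MvPolynomial.X (i : Fin n)) ∈ q
      rw [MvPolynomial.aeval_X]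
      simp only [x, dif_neg (not_lt.2 i.2)]
      exact hbq _
  · let _ : Algebra (MvPolynomial (Fin n) R) S := (MvPolynomial.aeval (R := R) x).toRingHom.toAlgebra
    have : IsScalarTower R (MvPolynomial (Fin n) R) S :=
      IsScalarTower.of_algebraMap_eq fun a => ((MvPolynomial.aeval x).commutes a).symm
    have : Algebra.FiniteType (MvPolynomial (Fin n) R) S := .of_restrictScalars_finiteType R _ _
    refine Groth.EGA43Topo.quasiFiniteAt_of_comparable q fun n' hn' hcmp he => ?_
    change n'.comap (MvPolynomial.aeval (R := R) x).toRingHom = q.comap (MvPolynomial.aeval (R := R) x).toRingHom at he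
    rcases hcmp with hle | hle
    · -- downwards: minimality in the fibre
      have hp' : n'.comap (algebraMap R S) = p := by
        refine Eq.trans ?_ (Ideal.LiesOver.over (P := q) (p := p)).symm
        have h := congrArg (Ideal.comap (MvPolynomial.C : R →+* MvPolynomial (Fin n) R)) he
        rw [Ideal.comap_comap, Ideal.comap_comap] at h
        rwa [show (MvPolynomial.aeval (R := R) x).toRingHom.comp MvPolynomial.C = algebraMap R S from
          RingHom.ext fun a => MvPolynomial.aeval_C x a] at h
      let eS := PrimeSpectrum.preimageHomeomorphFiber R S ⟨p, inferInstance⟩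
      let N : PrimeSpectrum.comap (algebraMap R S) ⁻¹' {⟨p, inferInstance⟩} :=
        ⟨⟨n', hn'⟩, PrimeSpectrum.ext hp'⟩
      have hN : (eS N).asIdeal.comap Algebra.TensorProduct.includeRight.toRingHom = n' :=
        congrArg (fun z => z.1.asIdeal) (eS.symm_apply_apply N)
      have hNQ : eS N ⤳ Q := by
        rw [← eS.symm.isInducing.specializes_iff, eS.symm_apply_apply, subtype_specializes_iff,
          ← PrimeSpectrum.le_iff_specializes]
        exact hle.trans hQ.ge
      have hle' : (eS N).asIdeal ≤ Q.asIdeal := (PrimeSpectrum.le_iff_specializes _ _).2 hNQ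
      have hge : Q.asIdeal ≤ (eS N).asIdeal := by
        refine hsmin.2 ⟨(eS N).isPrime, Ideal.span_le.2 fun a ha => ?_⟩ hle'
        obtain ⟨i, hi⟩ := es.surjective ⟨a, ha⟩
        have hia : (es i : T) = a := congrArg Subtype.val hi
        have hbn : b i ∈ n' := by
          have hj : r + (i : ℕ) < n := by omega
          have hxb : x ⟨r + i, hj⟩ = b i := by
            simp only [x, dif_neg (show ¬ r + (i : ℕ) < r by omega)]
            exact congrArg b (Fin.ext (Nat.add_sub_cancel_left r i))
          have h1 : MvPolynomial.X ⟨r + i, hj⟩ ∈ q.comap (MvPolynomial.aeval (R := R) x).toRingHom := by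
            change MvPolynomial.aeval x (MvPolynomial.X (⟨r + i, hj⟩ : Fin n)) ∈ q
            rw [MvPolynomial.aeval_X, hxb]
            exact hbq i
          rw [← he] at h1
          change MvPolynomial.aeval x (MvPolynomial.X (⟨r + i, hj⟩ : Fin n)) ∈ n' at h1
          rwa [MvPolynomial.aeval_X, hxb] at h1
        rw [← hN] at hbn
        change (1 : p.ResidueField) ⊗ₜ[R] b i ∈ (eS N).asIdeal at hbn
        rw [← hb i, hia, Algebra.smul_def] at hbn
        refine ((eS N).isPrime.mem_or_mem hbn).resolve_left fun hu => (eS N).isPrime.ne_top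
          (Ideal.eq_top_of_isUnit_mem _ hu ?_)
        rw [IsScalarTower.algebraMap_apply R p.ResidueField T]
        exact (IsUnit.mk0 _ fun h0 => hc i (Ideal.algebraMap_residueField_eq_zero.1 h0)).map _
      rw [← hN, ← hQ, le_antisymm hle' hge]
    · -- upwards: independence of the first parameters
      refine htmax n' hn' hle ?_
      have hren : (MvPolynomial.aeval (R := R) t).toRingHom =
          (MvPolynomial.aeval (R := R) x).toRingHom.comp
            (MvPolynomial.rename (Fin.castLE (show r ≤ n by omega))).toRingHom := by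
        refine RingHom.ext fun f => ?_
        change MvPolynomial.aeval t f = MvPolynomial.aeval x (MvPolynomial.rename _ f)
        rw [MvPolynomial.aeval_rename]
        congr 1
        ext i
        simp [x]
      rw [hren, ← Ideal.comap_comap, ← Ideal.comap_comap, he]

end QFPrescribed

end Groth.Calg4
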