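import Groth.Prelude.Def_AlgSp
import Groth.Agent.GitQuot.QuotSheaf
import Groth.Agent.AlgSpBasic.Topology
import Groth.Agent.AlgSpBoot.EtaleTop
import Groth.Agent.FlatMor2.FlatComp
import Mathlib.CategoryTheory.EquivalenceRelation
import Mathlib.CategoryTheory.Sites.SubcanonicalOver
import Mathlib.CategoryTheory.Sites.LocallySurjective
import Mathlib.AlgebraicGeometry.Morphisms.LocalFlatDescent

/-!
# Representable quotient sheaves of equivalence relations of schemes
-/

set_option autoImplicit false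
set_option backward.isDefEq.respectTransparency.types false
universe u

open CategoryTheory CategoryTheory.Limits AlgebraicGeometry Opposite AlgSp

namespace Groth.Calg4.QuotRep

noncomputable section

variable {K : Precoverage Scheme.{u}} {S : Scheme.{u}} {R U Y : Over S} {s t : R ⟶ U} {q : U ⟶ Y}

theorem isEqvRel_of_isEquivalenceRelation (s t : R ⟶ U) [h : IsEquivalenceRelation s t] :
    IsEqvRel s t := by
  obtain ⟨e⟩ := h.nonempty_equivalenceRelation
  refine ⟨fun T r r' h₁ h₂ => e.right_cancellation r r' h₂ h₁, fun T => ⟨?_, ?_, ?_⟩⟩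
  · intro a
    exact ⟨a ≫ e.r, by simp, by simp⟩
  · rintro a b ⟨r, h₁, h₂⟩
    exact ⟨r ≫ e.s, by rw [Category.assoc, e.symmetry₂, h₂], by rw [Category.assoc, e.symmetry₁, h₁]⟩
  · rintro a b c ⟨r₁, h₁, h₂⟩ ⟨r₂, h₃, h₄⟩
    obtain ⟨l, hl₁, hl₂⟩ := PullbackCone.IsLimit.lift' e.isLimit r₂ r₁ (h₃.trans h₂.symm)
    refine ⟨l ≫ e.t, ?_, ?_⟩
    · rw [Category.assoc, e.transitivity₂, ← h₁, ← hl₂]
      simp [PullbackCone.snd]
    · rw [Category.assoc, e.transitivity₁, ← h₄, ← hl₁]
      simp [PullbackCone.fst]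

/-- The relation on `T`-points. -/
def Rel (s t : R ⟶ U) (T : Over S) (a b : T ⟶ U) : Prop := ∃ r : T ⟶ R, r ≫ t = a ∧ r ≫ s = b

/-- The presheaf quotient of `U` by the relation. -/
def relQuot (s t : R ⟶ U) : (Over S)ᵒᵖ ⥤ Type (u + 1) where
  obj V := ULift.{u + 1} (Quot (Rel s t V.unop))
  map g := TypeCat.ofHom fun x => ULift.up (Quot.map (fun a => g.unop ≫ a)
    (fun a b ⟨r, h₁, h₂⟩ => ⟨g.unop ≫ r, by rw [Category.assoc, h₁], by rw [Category.assoc, h₂]⟩)
    x.down)
  map_id V := by
    ext ⟨x⟩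
    induction x using Quot.ind with
    | mk a => simp [Quot.map]
  map_comp f g := by
    ext ⟨x⟩
    induction x using Quot.ind with
    | mk a => simp [Quot.map]

/-- The map to the presheaf quotient. -/
def relQuotπ (s t : R ⟶ U) : yoneda.obj U ⋙ uliftFunctor.{u + 1, u} ⟶ relQuot s t where
  app V := TypeCat.ofHom fun a => ULift.up (Quot.mk _ a.down)
  naturality _ _ g := by
    ext a
    rfl

theorem repMap_comp {A B C : Over S} (f : A ⟶ B) (g : B ⟶ C) :
    QuotSh.repMap K (f ≫ g) = QuotSh.repMap K f ≫ QuotSh.repMap K g :=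
  (Groth.QuotSheaf.repFunctor K).map_comp f g

theorem quotπ_desc (w : s ≫ q = t ≫ q) :
    QuotSh.quotπ K s t ≫ QuotSh.quotDesc K q w = QuotSh.repMap K q := coequalizer.π_desc _ _

/-- Points of `U` identified in the quotient sheaf are related. -/
theorem exists_rel [(QuotSh.J K S).Subcanonical] (h : IsEqvRel s t) {T : Over S} (a b : T ⟶ U)
    (e : QuotSh.repMap K a ≫ QuotSh.quotπ K s t = QuotSh.repMap K b ≫ QuotSh.quotπ K s t) :
    ∃ r : T ⟶ R, r ≫ t = a ∧ r ≫ s = b := by
  let G := presheafToSheaf (QuotSh.J K S) (Type (u + 1))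
  have hπ : Functor.whiskerRight (yoneda.map s) uliftFunctor.{u + 1, u} ≫ relQuotπ s t =
      Functor.whiskerRight (yoneda.map t) uliftFunctor.{u + 1, u} ≫ relQuotπ s t := by
    ext V r
    exact (congrArg ULift.up (Quot.sound ⟨r.down, rfl, rfl⟩)).symm
  have hφ : QuotSh.repMap K s ≫ G.map (relQuotπ s t) = QuotSh.repMap K t ≫ G.map (relQuotπ s t) :=
    (G.map_comp _ _).symm.trans ((congrArg G.map hπ).trans (G.map_comp _ _))
  have e₂ : QuotSh.repMap K a ≫ G.map (relQuotπ s t) = QuotSh.repMap K b ≫ G.map (relQuotπ s t) := by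
    have hd : QuotSh.quotπ K s t ≫ coequalizer.desc (G.map (relQuotπ s t)) hφ = G.map (relQuotπ s t) :=
      coequalizer.π_desc _ _
    rw [← hd, ← Category.assoc, e, Category.assoc]
  have e₂' : G.map (Functor.whiskerRight (yoneda.map a) uliftFunctor.{u + 1, u} ≫ relQuotπ s t) =
      G.map (Functor.whiskerRight (yoneda.map b) uliftFunctor.{u + 1, u} ≫ relQuotπ s t) :=
    (G.map_comp _ _).trans (e₂.trans (G.map_comp _ _).symm)
  have e₃ : (Functor.whiskerRight (yoneda.map a) uliftFunctor.{u + 1, u} ≫ relQuotπ s t) ≫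
        toSheafify (QuotSh.J K S) (relQuot s t) =
      (Functor.whiskerRight (yoneda.map b) uliftFunctor.{u + 1, u} ≫ relQuotπ s t) ≫
        toSheafify (QuotSh.J K S) (relQuot s t) := by
    rw [toSheafify_naturality, toSheafify_naturality]
    exact congrArg (fun k => toSheafify (QuotSh.J K S) _ ≫ k)
      (congrArg (fun k => k.hom) e₂')
  let qa : ToType ((relQuot s t).obj (op T)) := ULift.up (Quot.mk _ a)
  let qb : ToType ((relQuot s t).obj (op T)) := ULift.up (Quot.mk _ b)
  have e₄ : (toSheafify (QuotSh.J K S) (relQuot s t)).app (op T) qa =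
      (toSheafify (QuotSh.J K S) (relQuot s t)).app (op T) qb := by
    have h' := congrArg (fun k : yoneda.obj T ⋙ uliftFunctor.{u + 1, u} ⟶ _ =>
      k.app (op T) ⟨𝟙 T⟩) e₃
    change (toSheafify (QuotSh.J K S) (relQuot s t)).app (op T) (ULift.up (Quot.mk _ (𝟙 T ≫ a))) =
      (toSheafify (QuotSh.J K S) (relQuot s t)).app (op T) (ULift.up (Quot.mk _ (𝟙 T ≫ b))) at h'
    rwa [Category.id_comp, Category.id_comp] at h'
  have hS := Presheaf.equalizerSieve_mem (QuotSh.J K S) (toSheafify (QuotSh.J K S) (relQuot s t)) qa qb e₄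
  let Sv : Sieve T := Presheaf.equalizerSieve (F := relQuot s t) qa qb
  have hr : ∀ ⦃V : Over S⦄ (g : V ⟶ T), Sv g → ∃ r : V ⟶ R, r ≫ t = g ≫ a ∧ r ≫ s = g ≫ b := by
    intro V g hg
    have hg' : Quot.mk (Rel s t V) (g ≫ a) = Quot.mk _ (g ≫ b) := congrArg ULift.down hg
    exact ((h.equivalence V).eqvGen_iff).1 (Quot.eqvGen_exact hg')
  choose r hr₁ hr₂ using hr
  have hY : ∀ W : Over S, Presieve.IsSheaf (QuotSh.J K S) (yoneda.obj W) := fun W =>
    GrothendieckTopology.Subcanonical.isSheaf_of_isRepresentable _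
  let z : Presieve.FamilyOfElements (yoneda.obj R) Sv.arrows := fun V g hg => r g hg
  have hz : z.Compatible := by
    intro Y₁ Y₂ Z g₁ g₂ f₁ f₂ h₁ h₂ e'
    show g₁ ≫ r f₁ h₁ = g₂ ≫ r f₂ h₂
    refine h.injective Z _ _ ?_ ?_
    · rw [Category.assoc, Category.assoc, hr₁, hr₁, ← Category.assoc, e', Category.assoc]
    · rw [Category.assoc, Category.assoc, hr₂, hr₂, ← Category.assoc, e', Category.assoc]
  obtain ⟨ρ, hρ, -⟩ := hY R Sv hS z hz
  have hρ' : ∀ V (g : V ⟶ T) (hg : Sv g), g ≫ ρ = r g hg := fun V g hg => hρ g hg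
  refine ⟨ρ, ?_, ?_⟩
  · exact ((hY U).isSeparated Sv hS).ext (t₁ := (ρ ≫ t : T ⟶ U)) (t₂ := a) fun {V} g hg =>
      show g ≫ ρ ≫ t = g ≫ a by rw [← Category.assoc, hρ' _ _ hg, hr₁]
  · exact ((hY U).isSeparated Sv hS).ext (t₁ := (ρ ≫ s : T ⟶ U)) (t₂ := b) fun {V} g hg =>
      show g ≫ ρ ≫ s = g ≫ b by rw [← Category.assoc, hρ' _ _ hg, hr₂]

/-- A representable quotient of an equivalence relation is effective. -/
theorem isKernelPair [(QuotSh.J K S).Subcanonical] (h : IsEqvRel s t)
    (hq : QuotSh.IsQuotient K s t q) : IsKernelPair q s t := by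
  obtain ⟨w, hiso⟩ := hq
  have key : ∀ {T : Over S} (a b : T ⟶ U), a ≫ q = b ≫ q →
      ∃ r : T ⟶ R, r ≫ s = a ∧ r ≫ t = b := by
    intro T a b hab
    have e : QuotSh.repMap K b ≫ QuotSh.quotπ K s t = QuotSh.repMap K a ≫ QuotSh.quotπ K s t := by
      rw [← cancel_mono (QuotSh.quotDesc K q w), Category.assoc, Category.assoc, quotπ_desc,
        ← repMap_comp, ← repMap_comp, hab]
    obtain ⟨r, h₁, h₂⟩ := exists_rel h b a e
    exact ⟨r, h₂, h₁⟩
  choose lift hl₁ hl₂ using @key
  refine IsPullback.of_isLimit' ⟨w⟩ (PullbackCone.IsLimit.mk _ (fun c => lift c.fst c.snd c.condition)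
    (fun c => hl₁ _ _ _) (fun c => hl₂ _ _ _) (fun c m hm₁ hm₂ => ?_))
  exact h.injective _ _ _ (hm₂.trans (hl₂ _ _ _).symm) (hm₁.trans (hl₁ _ _ _).symm)

/-- Points of a representable quotient lift to `U` locally. -/
theorem exists_sieve_lift (hq : QuotSh.IsQuotient K s t q) :
    ∃ Sv ∈ QuotSh.J K S Y, ∀ ⦃V : Over S⦄ (g : V ⟶ Y), Sv g → ∃ l : V ⟶ U, l ≫ q = g := by
  obtain ⟨w, hiso⟩ := hq
  have : Epi (QuotSh.quotπ K s t) := inferInstanceAs (Epi (coequalizer.π _ _))
  have he : Epi (QuotSh.repMap K q) := by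
    rw [← quotπ_desc w]
    exact epi_comp _ _
  have hl : Sheaf.IsLocallySurjective (QuotSh.repMap K q) := (Sheaf.isLocallySurjective_iff_epi' _ _).2 he
  have hl' : Presheaf.IsLocallySurjective (QuotSh.J K S)
      (Functor.whiskerRight (yoneda.map q) uliftFunctor.{u + 1, u}) :=
    (Presheaf.isLocallySurjective_presheafToSheaf_map_iff _ _).1 hl
  refine ⟨_, hl'.imageSieve_mem (⟨𝟙 Y⟩ : ULift.{u + 1} (Y ⟶ Y)), fun V g hg => ?_⟩
  obtain ⟨⟨l⟩, hl⟩ := hg
  exact ⟨l, (congrArg ULift.down hl).trans (Category.comp_id g)⟩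

/-- An effective quotient whose sheaf map is an epimorphism is a representable quotient. -/
theorem isQuotient (h : IsKernelPair q s t) (he : Epi (QuotSh.repMap K q)) :
    QuotSh.IsQuotient K s t q := by
  have h' : IsPullback t.left s.left q.left q.left := (h.map (Over.forget S)).flip
  refine Groth.QuotSheaf.isQuotient_of_epi K h.w ?_ he h' (𝟙 R) (Category.id_comp t)
    (Category.id_comp s) ?_
  · exact (congrArg CommaMorphism.left h.w).symm
  · have : IsIso (QuotSh.repMap K (𝟙 R)) :=
      inferInstanceAs (IsIso ((Groth.QuotSheaf.repFunctor K).map (𝟙 R)))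
    infer_instance

theorem etaleTopology_le_fppfTopology : Scheme.etalePrecoverage.toGrothendieck ≤
    (Scheme.fppfPrecoverage.{u}).toGrothendieck :=
  Precoverage.toGrothendieck_mono Groth.AlgSpBoot.etalePrecoverage_le_fppfPrecoverage

instance : (QuotSh.J Scheme.fppfPrecoverage S).Subcanonical :=
  inferInstanceAs ((Scheme.fppfTopology.over S).Subcanonical)

instance : (QuotSh.J Scheme.etalePrecoverage S).Subcanonical :=
  haveI : (Scheme.etalePrecoverage.{u}).toGrothendieck.Subcanonical :=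
    GrothendieckTopology.Subcanonical.of_le (K := Scheme.fppfTopology) etaleTopology_le_fppfTopology
  inferInstance

/-- A surjective etale map gives an epimorphism of etale sheaves. -/
theorem epi_repMap_etale {V W : Over S} (f : V ⟶ W) [Surjective f.left] [Etale f.left] :
    Epi (QuotSh.repMap Scheme.etalePrecoverage f) := by
  have hloc : Presheaf.IsLocallySurjective (QuotSh.J Scheme.etalePrecoverage S)
      (Functor.whiskerRight (yoneda.map f) uliftFunctor.{u + 1, u}) := by
    constructor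
    intro T x
    let p : Over.mk (pullback.fst x.down.left f.left ≫ T.hom) ⟶ T :=
      Over.homMk (pullback.fst x.down.left f.left)
    have : Etale p.left := inferInstanceAs (Etale (pullback.fst x.down.left f.left))
    have : Surjective p.left := inferInstanceAs (Surjective (pullback.fst x.down.left f.left))
    refine Groth.AlgSpBoot.mem_Jet_of_surjective p ⟨⟨Over.homMk (pullback.snd x.down.left f.left) ?_⟩, ?_⟩
    · change pullback.snd x.down.left f.left ≫ V.hom = pullback.fst x.down.left f.left ≫ T.hom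
      rw [← Over.w f, ← pullback.condition_assoc, Over.w]
    · apply ULift.ext
      apply Over.OverMorphism.ext
      exact pullback.condition.symm
  have : Sheaf.IsLocallySurjective (QuotSh.repMap Scheme.etalePrecoverage f) :=
    (Presheaf.isLocallySurjective_presheafToSheaf_map_iff _ _).2 hloc
  infer_instance

/-- An fppf covering sieve is refined by one flat, surjective, locally finitely presented map. -/
theorem exists_fppf_map {Sv : Sieve Y} (hS : Sv ∈ QuotSh.J Scheme.fppfPrecoverage S Y)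
    (hlift : ∀ ⦃V : Over S⦄ (g : V ⟶ Y), Sv g → ∃ l : V ⟶ U, l ≫ q = g) :
    ∃ (T : Scheme.{u}) (c : T ⟶ Y.left) (l : T ⟶ U.left),
      Flat c ∧ Surjective c ∧ LocallyOfFinitePresentation c ∧ l ≫ q.left = c := by
  obtain ⟨C, hC, hle⟩ := Groth.AlgSpBasic.exists_cover_of_mem hS
  have hcov : ∀ y : Y.left, ∃ (V : Scheme.{u}) (g : V ⟶ Y.left), C g ∧ y ∈ Set.range g := by
    intro y
    obtain ⟨V, g, hg, z, hz⟩ := ((Presieve.mem_comap_jointlySurjectivePrecoverage_iff Scheme.forget).1 hC.1) y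
    exact ⟨V, g, hg, z, hz⟩
  choose V g hg hy using hcov
  have hl : ∀ y, ∃ l : V y ⟶ U.left, l ≫ q.left = g y := by
    intro y
    obtain ⟨l, hl⟩ := hlift _ (hle (g y) (hg y))
    exact ⟨l.left, congrArg CommaMorphism.left hl⟩
  choose l hl using hl
  refine ⟨∐ V, Sigma.desc g, Sigma.desc l, ?_, ⟨fun y => ?_⟩, ?_, ?_⟩
  · exact IsZariskiLocalAtSource.sigmaDesc fun y => (hC.2 (hg y)).1
  · obtain ⟨z, hz⟩ := hy y
    refine ⟨Sigma.ι V y z, ?_⟩
    rw [← Scheme.Hom.comp_apply, Sigma.ι_desc]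
    exact hz
  · exact IsZariskiLocalAtSource.sigmaDesc fun y => (hC.2 (hg y)).2
  · ext y
    simp [hl]

/-- Properties of an effective quotient map that lifts locally for the fppf topology. -/
theorem property_of_kernelPair (P : MorphismProperty Scheme.{u}) [P.IsStableUnderBaseChange]
    [P.DescendsAlong (@Surjective ⊓ @Flat ⊓ @LocallyOfFinitePresentation)]
    (hk : IsKernelPair q s t) (hP : P t.left) [Flat s.left] [Surjective s.left] [Flat t.left]
    [Surjective t.left] {T : Scheme.{u}} {c : T ⟶ Y.left} {l : T ⟶ U.left} [Flat c] [Surjective c]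
    [LocallyOfFinitePresentation c] (hl : l ≫ q.left = c) :
    P q.left ∧ Flat q.left ∧ Surjective q.left := by
  have hk' : IsPullback s.left t.left q.left q.left := hk.map (Over.forget S)
  have h₁ : IsPullback (pullback.fst t.left l) (pullback.snd t.left l) t.left l :=
    IsPullback.of_hasPullback _ _
  have sq := h₁.paste_horiz hk'
  rw [hl] at sq
  have : Flat (pullback.fst t.left l ≫ s.left) := MorphismProperty.of_isPullback sq.flip ‹Flat c›
  have : Surjective (pullback.fst t.left l ≫ s.left) :=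
    MorphismProperty.of_isPullback sq.flip ‹Surjective c›
  refine ⟨?_, ?_, ?_⟩
  · exact MorphismProperty.of_isPullback_of_descendsAlong
      (Q := @Surjective ⊓ @Flat ⊓ @LocallyOfFinitePresentation) sq.flip
      ⟨⟨‹_›, ‹_›⟩, ‹_›⟩ (P.of_isPullback h₁ hP)
  · have : Flat ((pullback.fst t.left l ≫ s.left) ≫ q.left) := by
      rw [sq.w]
      infer_instance
    exact Groth.FlatMor2.flat_of_comp_surjective (pullback.fst t.left l ≫ s.left) q.left
  · have : Surjective (l ≫ q.left) := by rw [hl]; infer_instance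
    exact Surjective.of_comp l q.left

/-- The other projection of an equivalence relation has the same properties as the first. -/
theorem property_other (P : MorphismProperty Scheme.{u}) [P.RespectsIso] (h : IsEqvRel s t)
    (hs : P s.left) : P t.left := by
  obtain ⟨σ, hσ₁, hσ₂⟩ := (h.equivalence R).symm ⟨𝟙 R, Category.id_comp t, Category.id_comp s⟩
  have hσσ : σ ≫ σ = 𝟙 R := by
    refine h.injective R _ _ ?_ ?_ <;> simp [hσ₁, hσ₂]
  have : IsIso σ.left := ⟨σ.left, by rw [← Over.comp_left, hσσ]; rfl, by rw [← Over.comp_left, hσσ]; rfl⟩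
  rw [show t.left = σ.left ≫ s.left by rw [← Over.comp_left, hσ₂]]
  exact MorphismProperty.RespectsIso.precomp (P := P) σ.left s.left hs

end

end Groth.Calg4.QuotRep
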