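import Groth.Agent.NeronArea.RegularHypersurface
import Mathlib

/-! Quotients of regular rings by an element with unit derivative. -/

namespace Groth.Calg4

open IsLocalRing

theorem isRegularRing_quotient_of_derivation {A : Type*} [CommRing A] [IsRegularRing A] (F : A)
    (D : Derivation ℤ A A) (hD : IsUnit (Ideal.Quotient.mk (Ideal.span {F}) (D F))) :
    IsRegularRing (A ⧸ Ideal.span {F}) := by
  rw [isRegularRing_iff]
  intro P hP
  refine NeronArea.isRegularLocalRing_atPrime_of_quotient F P fun hF => ?_
  set M := P.comap (Ideal.Quotient.mk (Ideal.span {F}))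
  rw [← Localization.AtPrime.map_eq_maximalIdeal, ← Ideal.map_pow,
    IsLocalization.algebraMap_mem_map_algebraMap_iff M.primeCompl] at hF
  obtain ⟨s, hs, hsF⟩ := hF
  have key : ∀ y ∈ M ^ 2, D y ∈ M := by
    intro y hy
    rw [pow_two] at hy
    refine Submodule.mul_induction_on hy (fun a ha b hb => ?_) (fun a b ha hb => by
      rw [map_add]; exact add_mem ha hb)
    rw [Derivation.leibniz, smul_eq_mul, smul_eq_mul]
    exact add_mem (M.mul_mem_right _ ha) (M.mul_mem_right _ hb)
  have h1 := key _ hsF
  rw [Derivation.leibniz, smul_eq_mul, smul_eq_mul] at h1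
  have hFM : F ∈ M := by
    change Ideal.Quotient.mk _ F ∈ P
    rw [Ideal.Quotient.eq_zero_iff_mem.2 (Ideal.mem_span_singleton_self F)]
    exact zero_mem _
  have h2 : s * D F ∈ M := (M.add_mem_iff_left (M.mul_mem_right _ hFM)).mp h1
  exact hP.ne_top (P.eq_top_of_isUnit_mem ((‹P.IsPrime›.comap _).mem_or_mem h2 |>.resolve_left hs) hD)

end Groth.Calg4
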