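import Mathlib
import Groth.Prelude.Def_Flat
import Groth.Agent.Calg4.RegularFlat
import Groth.Agent.Calg4.SmoothRegularField
import Groth.Agent.FibreDim.Smooth
import Groth.Agent.S2141
import Groth.Agent.S0558
import Groth.Agent.Ega41Adic.KaehlerRank
import Groth.Agent.Variety2.DimPoints

/-!
Smoothness over a field from the rank of the differentials and the local dimension.
-/

set_option autoImplicit false

universe u

open TensorProduct IsLocalRing KaehlerDifferential

namespace Groth.Calg4

section Local

variable {k R B : Type u} [Field k] [CommRing R] [CommRing B] [Algebra k R] [Algebra k B] [Algebra R B]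
  [IsScalarTower k R B] [IsRegularLocalRing R] [IsLocalRing B] [IsNoetherianRing B]

/-- Differentials of the elements of the kernel, at the closed point. -/
noncomputable def kerD : RingHom.ker (algebraMap R B) → ResidueField B ⊗[R] Ω[R⁄k] :=
  fun j => 1 ⊗ₜ D k R (j : R)

/-- Some elements of the kernel have independent differentials, as many as the drop of the rank. -/
theorem exists_kerD_indep [Module.Finite R Ω[R⁄k]] (hsurj : Function.Surjective (algebraMap R B)) :
    ∃ (c : ℕ) (f : Fin c → RingHom.ker (algebraMap R B)),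
      LinearIndependent (ResidueField B) (fun i => kerD (k := k) (f i)) ∧
      Module.finrank (ResidueField B) (ResidueField B ⊗[R] Ω[R⁄k]) ≤
        c + Module.finrank (ResidueField B) (ResidueField B ⊗[B] Ω[B⁄k]) := by
  classical
  let K := ResidueField B
  let V := Submodule.span K (Set.range (kerD (k := k) (R := R) (B := B)))
  obtain ⟨b, hb, hspan, hind⟩ := exists_linearIndependent K (Set.range (kerD (k := k) (R := R) (B := B)))
  have : Fintype b := hind.setFinite.fintype
  choose f hf using fun x : b => hb x.2
  let e := Fintype.equivFin b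
  refine ⟨Fintype.card b, fun i => f (e.symm i), ?_, ?_⟩
  · have : (fun i => kerD (k := k) (f (e.symm i))) = (fun x : b => (x : K ⊗[R] Ω[R⁄k])) ∘ e.symm := by
      funext i; exact hf _
    rw [this]
    exact hind.comp _ e.symm.injective
  · have hV : Module.finrank K V = Fintype.card b := by
      have : V = Submodule.span K (Set.range (fun x : b => (x : K ⊗[R] Ω[R⁄k]))) := by
        rw [Subtype.range_coe_subtype, Set.ofPred_mem_eq]; exact hspan.symm
      rw [this, finrank_span_eq_card hind]
    let E := AlgebraTensorModule.cancelBaseChange R B K K Ω[R⁄k]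
    let Ψ : K ⊗[B] (B ⊗[R] Ω[R⁄k]) →ₗ[K] K ⊗[B] Ω[B⁄k] := (mapBaseChange k R B).baseChange K
    let Φ : K ⊗[R] Ω[R⁄k] →ₗ[K] K ⊗[B] Ω[B⁄k] := Ψ ∘ₗ E.symm.toLinearMap
    have hΦ : LinearMap.ker Φ ≤ V := by
      intro m hm
      have hm' : (mapBaseChange k R B).lTensor K (E.symm m) = 0 := hm
      let N : Submodule B (B ⊗[R] Ω[R⁄k]) := LinearMap.ker (mapBaseChange k R B)
      have hN : Function.Exact N.subtype (mapBaseChange k R B) :=
        LinearMap.exact_subtype_ker_map (mapBaseChange k R B)
      have hex := lTensor_exact (R := B) (M := N) (N := B ⊗[R] Ω[R⁄k]) (P := Ω[B⁄k]) K hN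
        (mapBaseChange_surjective k R B hsurj)
      obtain ⟨z, hz⟩ := (hex (E.symm m)).mp hm'
      have key : ∀ z, E (((LinearMap.ker (mapBaseChange k R B)).subtype).lTensor K z) ∈ V := by
        intro z
        induction z using TensorProduct.induction_on with
        | zero => simp
        | add x y hx hy => rw [map_add, map_add]; exact V.add_mem hx hy
        | tmul x w =>
          obtain ⟨j, hj⟩ : (w : B ⊗[R] Ω[R⁄k]) ∈ LinearMap.range (kerCotangentToTensor k R B) := by
            rw [range_kerCotangentToTensor k R B hsurj]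
            exact w.2
          obtain ⟨j, rfl⟩ := Ideal.toCotangent_surjective _ j
          rw [LinearMap.lTensor_tmul, Submodule.subtype_apply, ← hj, kerCotangentToTensor_toCotangent]
          have : E (x ⊗ₜ[B] ((1 : B) ⊗ₜ[R] D k R (j : R))) = x • kerD (k := k) j := by
            simp [E, kerD, TensorProduct.smul_tmul', K]
          rw [this]
          exact V.smul_mem _ (Submodule.subset_span ⟨j, rfl⟩)
      have := key z
      rw [hz, LinearEquiv.apply_symm_apply] at this
      exact this
    calc Module.finrank K (K ⊗[R] Ω[R⁄k])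
        = Module.finrank K (LinearMap.ker Φ) + Module.finrank K (LinearMap.range Φ) := by
          rw [add_comm, LinearMap.finrank_range_add_finrank_ker]
      _ ≤ Fintype.card b + Module.finrank K (K ⊗[B] Ω[B⁄k]) := by
          have hΦs : Function.Surjective Φ :=
            (LinearMap.lTensor_surjective K (mapBaseChange_surjective k R B hsurj)).comp E.symm.surjective
          rw [LinearMap.range_eq_top.mpr hΦs, finrank_top]
          exact Nat.add_le_add_right ((Submodule.finrank_mono hΦ).trans hV.le) _

/-- The dimension criterion, local form. -/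
theorem formallySmooth_of_finrank_le [Algebra.FormallySmooth k R] [Module.Free R Ω[R⁄k]]
    [Module.Finite R Ω[R⁄k]] (hsurj : Function.Surjective (algebraMap R B))
    (d t : ℕ) (hd : ringKrullDim B = d)
    (hn : ((Module.finrank (ResidueField B) (ResidueField B ⊗[R] Ω[R⁄k]) : ℕ) : WithBot ℕ∞) = ringKrullDim R + (t : ℕ))
    (h : Module.finrank (ResidueField B) (ResidueField B ⊗[B] Ω[B⁄k]) ≤ d + t) :
    Algebra.FormallySmooth k B := by
  classical
  let K := ResidueField B
  let M := K ⊗[R] Ω[R⁄k]
  obtain ⟨c, f, hind, hle⟩ := exists_kerD_indep (k := k) hsurj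
  let g : Fin c → R := fun i => (f i : R)
  have hK : Function.Surjective (algebraMap R K) := by
    rw [IsScalarTower.algebraMap_eq R B K]
    exact IsLocalRing.residue_surjective.comp hsurj
  have hkerK : RingHom.ker (algebraMap R K) = maximalIdeal R :=
    eq_maximalIdeal (RingHom.ker_isMaximal_of_surjective _ hK)
  have hJm : ∀ j : RingHom.ker (algebraMap R B), (j : R) ∈ maximalIdeal R := fun j => by
    rw [← hkerK, RingHom.mem_ker, IsScalarTower.algebraMap_apply R B K, RingHom.mem_ker.mp j.2, map_zero]
  let d' : R → M := fun a => (1 : K) ⊗ₜ D k R a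
  have hd' : ∀ a b : R, d' (a * b) = algebraMap R K a • d' b + algebraMap R K b • d' a := fun a b => by
    simp only [d', Derivation.leibniz, TensorProduct.tmul_add, TensorProduct.tmul_smul, algebraMap_smul]
  have hd0 : ∀ a ∈ maximalIdeal R ^ 2, d' a = 0 := by
    intro a ha
    rw [pow_two] at ha
    induction ha using Submodule.mul_induction_on' with
    | mem_mul_mem x hx y hy =>
      rw [hd', show algebraMap R K x = 0 from RingHom.mem_ker.mp (hkerK.ge hx),
        show algebraMap R K y = 0 from RingHom.mem_ker.mp (hkerK.ge hy), zero_smul, zero_smul, add_zero]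
    | add x _ y _ hx hy =>
      change (1 : K) ⊗ₜ[R] D k R (x + y) = 0
      rw [map_add, TensorProduct.tmul_add]
      change d' x + d' y = 0
      rw [hx, hy, add_zero]
  have hsum : ∀ a : Fin c → R, d' (∑ i, a i * g i) = ∑ i, algebraMap R K (a i) • d' (g i) := by
    intro a
    change (1 : K) ⊗ₜ[R] D k R (∑ i, a i * g i) = _
    rw [map_sum, TensorProduct.tmul_sum]
    refine Finset.sum_congr rfl fun i _ => ?_
    change d' (a i * g i) = _
    rw [hd', show algebraMap R K (g i) = 0 from RingHom.mem_ker.mp (hkerK.ge (hJm (f i))), zero_smul, add_zero]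
  obtain ⟨hreg, hseq⟩ := isRegularLocalRing_quotient_of_indep c R g (fun i => hJm (f i)) fun a ha i => by
    rw [← hkerK, RingHom.mem_ker]
    exact Fintype.linearIndependent_iff.mp hind (fun i => algebraMap R K (a i))
      ((hsum a).symm.trans (hd0 _ ha)) i
  let I := Ideal.span (Set.range g)
  have hIker : ∀ a ∈ I, algebraMap R B a = 0 := fun a ha =>
    RingHom.mem_ker.mp ((Ideal.span_le.mpr (by rintro _ ⟨i, rfl⟩; exact (f i).2)) ha)
  let π : R ⧸ I →+* B := Ideal.Quotient.lift I (algebraMap R B) hIker
  have hπ : Function.Surjective π := Ideal.Quotient.lift_surjective_of_surjective I hIker hsurj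
  have : IsRegularLocalRing (R ⧸ I) := hreg
  have : IsDomain (R ⧸ I) := Groth.Agent.S0558.result (R ⧸ I)
  -- the dimensions
  have hdim : ringKrullDim (R ⧸ I) + (c : ℕ) = ringKrullDim R := by
    have := ringKrullDim_add_length_eq_ringKrullDim_of_isRegular (List.ofFn g) hseq
    rwa [List.length_ofFn, Groth.Ega4Algebra1.ofList_ofFn] at this
  have hkr := (IsRegularLocalRing.spanFinrank_maximalIdeal (R := R))
  have hki := (IsRegularLocalRing.spanFinrank_maximalIdeal (R := R ⧸ I))
  rw [← hki, ← hkr] at hdim
  rw [← hkr] at hn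
  have hdim' : (maximalIdeal (R ⧸ I)).spanFinrank + c = (maximalIdeal R).spanFinrank := by exact_mod_cast hdim
  have hn' : Module.finrank K M = (maximalIdeal R).spanFinrank + t := by exact_mod_cast hn
  have hle' : Module.finrank K M ≤ c + Module.finrank K (K ⊗[B] Ω[B⁄k]) := hle
  have hRd : (maximalIdeal (R ⧸ I)).spanFinrank ≤ d := by
    have h' : Module.finrank K (K ⊗[B] Ω[B⁄k]) ≤ d + t := h
    omega
  have hinj : Function.Injective π := by
    rw [injective_iff_map_eq_zero]
    intro x hx
    by_contra hx0
    have h1 := ringKrullDim_quotient_succ_le_of_nonZeroDivisor (mem_nonZeroDivisors_of_ne_zero hx0)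
    have h2 : ringKrullDim B ≤ ringKrullDim ((R ⧸ I) ⧸ Ideal.span {x}) :=
      ringKrullDim_le_of_surjective (Ideal.Quotient.lift _ π fun a ha => by
        obtain ⟨b, rfl⟩ := Ideal.mem_span_singleton'.mp ha
        rw [map_mul, hx, mul_zero]) (Ideal.Quotient.lift_surjective_of_surjective _ _ hπ)
    have h3 : ringKrullDim B + 1 ≤ ringKrullDim (R ⧸ I) := le_trans (by gcongr) h1
    rw [hd, ← hki] at h3
    have : d + 1 ≤ (maximalIdeal (R ⧸ I)).spanFinrank := by exact_mod_cast h3
    omega
  let eB : (R ⧸ I) ≃ₐ[k] B := AlgEquiv.ofRingEquiv (f := RingEquiv.ofBijective π ⟨hinj, hπ⟩) fun x =>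
    (IsScalarTower.algebraMap_apply k R B x).symm
  have hker : ∀ a ∈ I, algebraMap R K a = 0 := fun a ha => by
    rw [IsScalarTower.algebraMap_apply R B K, hIker a ha, map_zero]
  let : Algebra (R ⧸ I) K := (Ideal.Quotient.lift I (algebraMap R K) hker).toAlgebra
  have : IsScalarTower R (R ⧸ I) K := IsScalarTower.of_algebraMap_eq fun _ => rfl
  have h3 : maximalIdeal (R ⧸ I) ≤ RingHom.ker (algebraMap (R ⧸ I) K) :=
    (eq_maximalIdeal (RingHom.ker_isMaximal_of_surjective _
      (Ideal.Quotient.lift_surjective_of_surjective I hker hK))).ge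
  suffices Algebra.FormallySmooth k (R ⧸ I) from Algebra.FormallySmooth.of_equiv eB
  rw [Algebra.FormallySmooth.iff_injective_cotangentComplexBaseChange R K Ideal.Quotient.mk_surjective
    (IsNoetherian.noetherian _) h3]
  rw [injective_iff_map_eq_zero]
  intro z hz
  have hgI : ∀ i, g i ∈ RingHom.ker (algebraMap R (R ⧸ I)) := fun i =>
    RingHom.mem_ker.mpr (Ideal.Quotient.eq_zero_iff_mem.mpr (Ideal.subset_span ⟨i, rfl⟩))
  obtain ⟨a, rfl⟩ : ∃ a : Fin c → K,
      z = ∑ i, a i ⊗ₜ[R] (⟨g i, hgI i⟩ : RingHom.ker (algebraMap R (R ⧸ I))) := by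
    clear hz
    induction z using TensorProduct.induction_on with
    | zero => exact ⟨0, by simp⟩
    | tmul x y =>
      have hyI : (y : R) ∈ I := Ideal.Quotient.eq_zero_iff_mem.mp (RingHom.mem_ker.mp y.2)
      obtain ⟨r, hr⟩ := Ideal.mem_span_range_iff_exists_fun.mp hyI
      refine ⟨fun i => r i • x, ?_⟩
      simp only [TensorProduct.smul_tmul, ← TensorProduct.tmul_sum]
      congr 1
      exact Subtype.ext (by simp [hr])
    | add x y hx hy =>
      obtain ⟨⟨a, rfl⟩, ⟨b, rfl⟩⟩ := And.intro hx hy
      exact ⟨a + b, by simp [TensorProduct.add_tmul, Finset.sum_add_distrib]⟩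
  rw [map_sum] at hz
  simp only [cotangentComplexBaseChange_tmul] at hz
  have := Fintype.linearIndependent_iff.mp hind a hz
  simp [this]

end Local

/-- A finitely generated algebra is smooth at `q` when the rank of the differentials at `q` is at most
the local dimension. -/
theorem isSmoothAt_of_finrank_le {k S : Type u} [Field k] [CommRing S] [Algebra k S]
    [Algebra.FiniteType k S] (q : Ideal S) [q.IsPrime]
    (h : ((Module.finrank q.ResidueField (q.ResidueField ⊗[S] Ω[S⁄k]) : ℕ∞) : WithBot ℕ∞) ≤
      FlatMor.localDim (PrimeSpectrum S) ⟨q, inferInstance⟩) :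
    Algebra.IsSmoothAt k q := by
  obtain ⟨n, π, hπ⟩ := Algebra.FiniteType.iff_quotient_mvPolynomial''.mp ‹Algebra.FiniteType k S›
  let P := MvPolynomial (Fin n) k
  let Q := q.comap π.toRingHom
  let A := Localization.AtPrime Q
  let B := Localization.AtPrime q
  let φ : A →+* B := Localization.localRingHom Q q π.toRingHom rfl
  let _ : Algebra A B := φ.toAlgebra
  have : IsScalarTower k A B := IsScalarTower.of_algebraMap_eq fun r => by
    rw [IsScalarTower.algebraMap_apply k P A]
    change _ = φ _
    rw [Localization.localRingHom_to_map, IsScalarTower.algebraMap_apply k S B]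
    exact congrArg _ (π.commutes r).symm
  have hsurj : Function.Surjective (algebraMap A B) :=
    (RingHom.surjectiveOnStalks_of_surjective hπ).localRingHom_surjective Q q rfl
  have : IsLocalHom (algebraMap A B) := Localization.isLocalHom_localRingHom Q q π.toRingHom rfl
  have : Algebra.FormallyEtale P A := Algebra.FormallyEtale.of_isLocalization Q.primeCompl
  have : Algebra.FormallySmooth k A := Algebra.FormallySmooth.comp k P A
  have hbc := KaehlerDifferential.isBaseChange_of_formallyEtale k P A
  let b := hbc.basis (KaehlerDifferential.mvPolynomialBasis k (Fin n))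
  have : Module.Free A Ω[A⁄k] := Module.Free.of_basis b
  have : Module.Finite A Ω[A⁄k] := Module.Finite.of_basis b
  have : IsNoetherianRing S := Algebra.FiniteType.isNoetherianRing k S
  have : IsRegularLocalRing A := inferInstance
  -- transcendence degree of the residue field
  obtain ⟨t, -, ht0⟩ := Groth.Variety2.Dim.exists_dim_quotient k S (⟨q, inferInstance⟩ : PrimeSpectrum S)
  have ht : Algebra.trdeg k q.ResidueField = t :=
    ((FractionRing.algEquiv (S ⧸ q) q.ResidueField).restrictScalars k).trdeg_eq.symm.trans ht0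
  have hres : Function.Bijective (algebraMap (ResidueField A) (ResidueField B)) := by
    refine ⟨RingHom.injective _, fun x => ?_⟩
    obtain ⟨b, rfl⟩ := IsLocalRing.residue_surjective x
    obtain ⟨a, rfl⟩ := hsurj b
    exact ⟨residue A a, rfl⟩
  let eres : ResidueField A ≃ₐ[k] ResidueField B :=
    AlgEquiv.ofBijective (IsScalarTower.toAlgHom k (ResidueField A) (ResidueField B)) hres
  have htQ : Algebra.trdeg k Q.ResidueField = t := eres.trdeg_eq.trans ht
  have hloc := Groth.Agent.S2141.result (k := k) q t ht
  have hlocP := Groth.Agent.S2141.result (k := k) Q t htQ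
  rw [Groth.FibreDim.localDim_mvPolynomial] at hlocP
  have hnA : Module.finrank (ResidueField B) (ResidueField B ⊗[A] Ω[A⁄k]) = n := by
    rw [Module.finrank_baseChange, Module.finrank_eq_card_basis b, Fintype.card_fin]
  have : Algebra.FormallyEtale S B := Algebra.FormallyEtale.of_isLocalization q.primeCompl
  have hr : Module.finrank (ResidueField B) (ResidueField B ⊗[B] Ω[B⁄k]) =
      Module.finrank q.ResidueField (q.ResidueField ⊗[S] Ω[S⁄k]) :=
    ((AlgebraTensorModule.congr (LinearEquiv.refl (ResidueField B) (ResidueField B))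
      (KaehlerDifferential.tensorKaehlerEquivOfFormallyEtale k S B).symm).trans
      (AlgebraTensorModule.cancelBaseChange S B (ResidueField B) (ResidueField B) Ω[S⁄k])).finrank_eq
  rw [hloc] at h
  have hfin : ∃ d : ℕ, ringKrullDim B = d := by
    have hle : ringKrullDim B ≤ ringKrullDim A := ringKrullDim_le_of_surjective φ hsurj
    have hkr := (IsRegularLocalRing.spanFinrank_maximalIdeal (R := A))
    rw [← hkr] at hle
    have h0 : 0 ≤ ringKrullDim B := ringKrullDim_nonneg_of_nontrivial
    obtain ⟨x, hx⟩ := WithBot.ne_bot_iff_exists.mp (ne_bot_of_le_ne_bot (by simp) h0)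
    rw [← hx] at hle ⊢
    cases x with
    | top =>
      have hle' : ((⊤ : ℕ∞) : WithBot ℕ∞) ≤ (((maximalIdeal A).spanFinrank : ℕ∞) : WithBot ℕ∞) := hle
      exact absurd (WithBot.coe_le_coe.mp hle') (by simp)
    | coe m => exact ⟨m, rfl⟩
  obtain ⟨d, hd⟩ := hfin
  refine formallySmooth_of_finrank_le (k := k) (R := A) hsurj d t hd ?_ ?_
  · rw [hnA]; exact hlocP
  · rw [hr]
    rw [show ringKrullDim (Localization.AtPrime q) = d from hd] at h
    exact_mod_cast h

end Groth.Calg4
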