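import Mathlib
import Groth.Prelude.Def_Flat
import Groth.Prelude.Def_CAlgX
import Groth.Agent.Calg4.SmoothDimCrit
import Groth.Agent.Ega41Sep.Separable
import Groth.Agent.FibreDim.BaseChange

/-!
Smoothness from free differentials and a smooth generic point.
-/

set_option autoImplicit false

universe u

open TensorProduct IsLocalRing KaehlerDifferential

namespace Groth.Calg4

variable {k S : Type u} [Field k] [CommRing S] [Algebra k S] [Algebra.FiniteType k S]

omit [Algebra.FiniteType k S] in
/-- The rank of free differentials of a localization, read in any field under it. -/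
theorem finrank_tensor_kaehler (B : Type u) [CommRing B] [IsLocalRing B] [Algebra S B] [Algebra k B] [IsScalarTower k S B]
    [Algebra.FormallyEtale S B] [Module.Free B Ω[B⁄k]] (K : Type u) [Field K] [Algebra B K]
    [Algebra S K] [IsScalarTower S B K] :
    Module.finrank K (K ⊗[S] Ω[S⁄k]) = Module.finrank B Ω[B⁄k] := by
  let e := KaehlerDifferential.tensorKaehlerEquivOfFormallyEtale k S B
  have : Module.Free B (B ⊗[S] Ω[S⁄k]) := Module.Free.of_equiv e.symm
  rw [← e.finrank_eq, ← Module.finrank_baseChange (R := K) (S := B) (M' := B ⊗[S] Ω[S⁄k])]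
  exact (AlgebraTensorModule.cancelBaseChange S B K K Ω[S⁄k]).finrank_eq.symm

/-- A discretely formally smooth algebra is adically formally smooth. -/
theorem isAdicFormallySmooth_of_formallySmooth_kaehler {A B : Type u} [CommRing A] [CommRing B] [Algebra A B]
    [Algebra.FormallySmooth A B] (n : Ideal B) : CAlgX.IsAdicFormallySmooth A B n :=
  fun _ _ _ J hJ ψ _ => Algebra.FormallySmooth.exists_lift J ⟨2, hJ⟩ ψ

/-- At a smooth point the rank of the differentials is the local dimension. -/
theorem finrank_eq_localDim_of_isSmoothAt (q : Ideal S) [q.IsPrime] [Algebra.IsSmoothAt k q] :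
    ((Module.finrank q.ResidueField (q.ResidueField ⊗[S] Ω[S⁄k]) : ℕ∞) : WithBot ℕ∞) =
      FlatMor.localDim (PrimeSpectrum S) ⟨q, inferInstance⟩ := by
  have : IsNoetherianRing S := Algebra.FiniteType.isNoetherianRing k S
  let B := Localization.AtPrime q
  have : Algebra.FormallySmooth k B := ‹Algebra.IsSmoothAt k q›
  have : Algebra.EssFiniteType k (ResidueField B) :=
    (Algebra.EssFiniteType.comp k S q.ResidueField : Algebra.EssFiniteType k q.ResidueField)
  obtain ⟨-, t, ht, heq⟩ := Groth.Ega41Adic.finrank_kaehler_eq
    (isAdicFormallySmooth_of_formallySmooth_kaehler (A := k) (maximalIdeal B))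
  have : Algebra.FormallyEtale S B := Algebra.FormallyEtale.of_isLocalization q.primeCompl
  have hr : Module.finrank (ResidueField B) (ResidueField B ⊗[B] Ω[B⁄k]) =
      Module.finrank q.ResidueField (q.ResidueField ⊗[S] Ω[S⁄k]) :=
    ((AlgebraTensorModule.congr (LinearEquiv.refl (ResidueField B) (ResidueField B))
      (KaehlerDifferential.tensorKaehlerEquivOfFormallyEtale k S B).symm).trans
      (AlgebraTensorModule.cancelBaseChange S B (ResidueField B) (ResidueField B) Ω[S⁄k])).finrank_eq
  rw [Groth.Agent.S2141.result (k := k) q t ht, ← heq, hr]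
  rfl

/-- Free differentials at `q` and formal smoothness at a minimal prime below `q` give smoothness at `q`. -/
theorem isSmoothAt_of_free_of_minimal (q : Ideal S) [q.IsPrime]
    [Module.Free (Localization.AtPrime q) Ω[Localization.AtPrime q⁄k]]
    (p : Ideal S) [p.IsPrime] (hpq : p ≤ q) (hmin : p ∈ minimalPrimes S)
    [Algebra.FormallySmooth k (Localization.AtPrime p)] : Algebra.IsSmoothAt k q := by
  have : IsNoetherianRing S := Algebra.FiniteType.isNoetherianRing k S
  let B := Localization.AtPrime q
  let C := Localization.AtPrime p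
  have : Algebra.FormallyEtale S B := Algebra.FormallyEtale.of_isLocalization q.primeCompl
  have : Algebra.FormallyEtale S C := Algebra.FormallyEtale.of_isLocalization p.primeCompl
  have hu : ∀ y : q.primeCompl, IsUnit (algebraMap S p.ResidueField y) := fun y =>
    isUnit_iff_ne_zero.mpr fun h0 => y.2 (hpq (Ideal.algebraMap_residueField_eq_zero.mp h0))
  let : Algebra B p.ResidueField :=
    (IsLocalization.lift (M := q.primeCompl) (g := algebraMap S p.ResidueField) hu).toAlgebra
  have : IsScalarTower S B p.ResidueField :=
    IsScalarTower.of_algebraMap_eq fun a => (IsLocalization.lift_eq hu a).symm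
  have h1 := finrank_tensor_kaehler (k := k) (S := S) B p.ResidueField
  have h2 := finrank_tensor_kaehler (k := k) (S := S) B q.ResidueField
  have : Algebra.EssFiniteType k (ResidueField C) :=
    (Algebra.EssFiniteType.comp k S p.ResidueField : Algebra.EssFiniteType k p.ResidueField)
  obtain ⟨-, t, ht, heq⟩ := Groth.Ega41Adic.finrank_kaehler_eq
    (isAdicFormallySmooth_of_formallySmooth_kaehler (A := k) (maximalIdeal C))
  have hr : Module.finrank (ResidueField C) (ResidueField C ⊗[C] Ω[C⁄k]) =
      Module.finrank p.ResidueField (p.ResidueField ⊗[S] Ω[S⁄k]) :=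
    ((AlgebraTensorModule.congr (LinearEquiv.refl (ResidueField C) (ResidueField C))
      (KaehlerDifferential.tensorKaehlerEquivOfFormallyEtale k S C).symm).trans
      (AlgebraTensorModule.cancelBaseChange S C (ResidueField C) (ResidueField C) Ω[S⁄k])).finrank_eq
  have hdim : ringKrullDim C = 0 := by
    rw [IsLocalization.AtPrime.ringKrullDim_eq_height p C, Ideal.height_eq_zero_iff.mpr hmin]
    rfl
  obtain ⟨m, hm, hm0⟩ := Groth.Variety2.Dim.exists_dim_quotient k S (⟨p, inferInstance⟩ : PrimeSpectrum S)
  have hmt : m = t := by
    have htr : Algebra.trdeg k p.ResidueField = m :=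
      ((FractionRing.algEquiv (S ⧸ p) p.ResidueField).restrictScalars k).trdeg_eq.symm.trans hm0
    exact Nat.cast_inj.mp (htr.symm.trans ht)
  apply isSmoothAt_of_finrank_le (k := k) q
  rw [h2, ← h1, ← hr]
  refine le_trans (le_of_eq ?_) (Groth.FibreDim.ringKrullDim_quotient_le_localDim k
    (⟨q, inferInstance⟩ : PrimeSpectrum S) (p := ⟨p, inferInstance⟩) hpq)
  rw [hm, hmt]
  rw [hdim, zero_add] at heq
  exact heq

/-- A reduced local ring at a minimal prime is the residue field there. -/
noncomputable def residueEquivOfReduced (p : Ideal S) [p.IsPrime] (hmin : p ∈ minimalPrimes S)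
    [IsReduced (Localization.AtPrime p)] : Localization.AtPrime p ≃ₐ[k] p.ResidueField :=
  AlgEquiv.ofBijective (IsScalarTower.toAlgHom k (Localization.AtPrime p) p.ResidueField) (by
    have hdim : Ring.KrullDimLE 0 (Localization.AtPrime p) := by
      rw [Ring.krullDimLE_iff, IsLocalization.AtPrime.ringKrullDim_eq_height p (Localization.AtPrime p),
        Ideal.height_eq_zero_iff.mpr hmin]
      rfl
    have hf : IsField (Localization.AtPrime p) := Ring.KrullDimLE.isField_of_isReduced
    refine ⟨?_, IsLocalRing.residue_surjective⟩
    exact (RingHom.injective_iff_ker_eq_bot _).mpr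
      ((IsLocalRing.ker_residue (R := Localization.AtPrime p)).trans (IsLocalRing.isField_iff_maximalIdeal_eq.mp hf)))

omit [Algebra.FiniteType k S] in
/-- Geometrically reduced at a minimal prime means formally smooth there. -/
theorem formallySmooth_of_isGeometricallyReduced (p : Ideal S) [p.IsPrime] (hmin : p ∈ minimalPrimes S)
    [Algebra.IsGeometricallyReduced k (Localization.AtPrime p)] :
    Algebra.FormallySmooth k (Localization.AtPrime p) := by
  have : IsReduced (Localization.AtPrime p) := Algebra.isReduced_of_isGeometricallyReduced (k := k)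
  let e := residueEquivOfReduced (k := k) p hmin
  have : Algebra.IsGeometricallyReduced k p.ResidueField :=
    Algebra.IsGeometricallyReduced.of_injective e.symm.toAlgHom e.symm.injective
  have := (Groth.Ega41Sep.formallySmooth_iff_isGeometricallyReduced k p.ResidueField).mpr inferInstance
  exact Algebra.FormallySmooth.of_equiv e.symm

end Groth.Calg4
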